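import Groth.Agent.TFOne.K975.FibK
import Groth.Prelude.Def_FlatMod2
import Mathlib.RingTheory.Flat.TorsionFree
import Mathlib.RingTheory.Flat.Localization

/-!
# Flatness over the spectrum of a discrete valuation ring

* `isFlatOverAt_iff`: flatness over `Spec R` at a point is flatness of the stalk over `R`;
* `isFlatOver_iff`: for a discrete valuation ring, flatness means that a uniformizer acts injectively.
-/

set_option autoImplicit false
universe u
open CategoryTheory Limits AlgebraicGeometry

namespace K975.FlatR

open K975.FibK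

variable {R : Type u} [CommRing R] {X : Scheme.{u}} (f : X ⟶ Spec (CommRingCat.of R))

noncomputable def tos (x : Spec (CommRingCat.of R)) : R →+* (Spec (CommRingCat.of R)).presheaf.stalk x :=
  (StructureSheaf.toStalk (CommRingCat.of R) x).hom

theorem stalkMap_tos (x : X) (a : R) : (f.stalkMap x).hom (tos (f x) a) = cst f x a := by
  have h := Scheme.Hom.germ_stalkMap_apply f ⊤ x trivial
    ((Scheme.ΓSpecIso (CommRingCat.of R)).inv a)
  refine Eq.trans ?_ h
  rfl

theorem isFlatOverAt_iff (M : X.Modules) (x : X) :
    FlatMod.IsFlatOverAt f M x ↔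
      letI := Module.compHom (M.presheaf.stalk x) (cst f x)
      Module.Flat R (M.presheaf.stalk x) := by
  let i1 := Module.compHom (M.presheaf.stalk x) (cst f x)
  let i2 := FlatMod.moduleStalkOver f M x
  let i3 : Algebra R ((Spec (CommRingCat.of R)).presheaf.stalk (f.base x)) := (tos (f.base x)).toAlgebra
  have hp : (PrimeSpectrum.asIdeal (f.base x) : Ideal R).IsPrime := (f.base x : PrimeSpectrum R).isPrime
  have : IsLocalization.AtPrime ((Spec (CommRingCat.of R)).presheaf.stalk (f.base x))
      (PrimeSpectrum.asIdeal (f.base x) : Ideal R) := StructureSheaf.IsLocalization.to_stalk _ _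
  have : IsScalarTower R ((Spec (CommRingCat.of R)).presheaf.stalk (f.base x)) (M.presheaf.stalk x) := by
    refine .of_algebraMap_smul fun a n => ?_
    change (f.stalkMap x).hom (tos (f x) a) • n = cst f x a • n
    rw [stalkMap_tos]
  exact Module.flat_iff_of_isLocalization ((Spec (CommRingCat.of R)).presheaf.stalk (f.base x))
    (Ideal.primeCompl (PrimeSpectrum.asIdeal (f.base x) : Ideal R)) (M.presheaf.stalk x)

theorem flat_iff_smul [IsDomain R] [IsDiscreteValuationRing R] {ϖ : R} (hϖ : Irreducible ϖ)
    (M : Type*) [AddCommGroup M] [Module R M] :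
    Module.Flat R M ↔ ∀ m : M, ϖ • m = 0 → m = 0 := by
  rw [Module.Flat.flat_iff_torsion_eq_bot_of_isBezout, eq_bot_iff]
  constructor
  · intro h m hm
    exact h ((Submodule.mem_torsion_iff m).mpr ⟨⟨ϖ, mem_nonZeroDivisors_of_ne_zero hϖ.ne_zero⟩, hm⟩)
  · intro h m hm
    obtain ⟨⟨a, ha⟩, ham⟩ := (Submodule.mem_torsion_iff m).mp hm
    have ha0 : a ≠ 0 := nonZeroDivisors.ne_zero ha
    obtain ⟨n, hn⟩ := IsDiscreteValuationRing.associated_pow_irreducible ha0 hϖ
    obtain ⟨u, hu⟩ := hn
    have h1 : ϖ ^ n • m = 0 := by
      rw [← hu, mul_comm, mul_smul]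
      change (u : R) • (a • m) = 0
      have : a • m = 0 := ham
      rw [this, smul_zero]
    have h2 : ∀ n : ℕ, ϖ ^ n • m = 0 → m = 0 := by
      intro n
      induction n with
      | zero => intro h3; simpa using h3
      | succ n ih =>
        intro h3
        apply ih
        apply h
        rw [← mul_smul, ← pow_succ']
        exact h3
    exact h2 n h1

/-- Flatness over a discrete valuation ring. -/
theorem isFlatOver_iff [IsDomain R] [IsDiscreteValuationRing R] {ϖ : R} (hϖ : Irreducible ϖ)
    (M : X.Modules) :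
    FlatMod.IsFlatOver f M ↔ ∀ (x : X) (t : M.presheaf.stalk x), cst f x ϖ • t = 0 → t = 0 := by
  refine forall_congr' fun x => ?_
  rw [isFlatOverAt_iff]
  let := Module.compHom (M.presheaf.stalk x) (cst f x)
  exact flat_iff_smul hϖ (M.presheaf.stalk x)

end K975.FlatR
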