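import Groth.Agent.Sga3C.QStalkKer
import Groth.Prelude.Def_Coh

/-!
# Kernels of stalk maps of base changes of closed subschemes of an affine base

* `cst f x : R →+* O_{X,x}` for `f : X ⟶ Spec R`;
* `ker_stalkMap`: for the base change `i` of `Spec S ⟶ Spec R` along `f`, `R → S` surjective with kernel `I`,
  the kernel of `O_{X, i z} → O_{F, z}` is generated by `I`.
-/

set_option autoImplicit false
universe u
open CategoryTheory Limits AlgebraicGeometry

namespace K975.FibK

open Groth.Agent.Flat2D.PbStalk Groth.Agent.Sga3C.QStalkKer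

variable {R : Type u} [CommRing R] {X F : Scheme.{u}} (f : X ⟶ Spec (CommRingCat.of R))

/-- The map from the base ring to a local ring. -/
noncomputable def cst (x : X) : R →+* X.presheaf.stalk x :=
  (X.presheaf.germ ⊤ x trivial).hom.comp (Coh.toGlobal f)

theorem toSpecΓ_comp : X.toSpecΓ ≫ Spec.map f.appTop ≫
    Spec.map (Scheme.ΓSpecIso (CommRingCat.of R)).inv = f := by
  rw [← Scheme.toSpecΓ_naturality_assoc]
  simp

theorem fromSpecStalk_comp (x : X) :
    X.fromSpecStalk x ≫ f = Spec.map (CommRingCat.ofHom (cst f x)) := by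
  conv_lhs => rw [← toSpecΓ_comp f]
  rw [← Category.assoc, Scheme.fromSpecStalk_toSpecΓ, ← Spec.map_comp, ← Spec.map_comp]
  rfl

theorem stalkMap_cst (g : F ⟶ X) (z : F) (a : R) :
    (g.stalkMap z).hom (cst f (g z) a) = cst (g ≫ f) z a := by
  have h := Scheme.Hom.germ_stalkMap_apply g ⊤ z trivial (Coh.toGlobal f a)
  refine h.trans ?_
  change _ = F.presheaf.germ ⊤ z trivial ((g ≫ f).appTop _)
  rw [Scheme.Hom.comp_appTop]
  rfl

theorem cst_comp {S : Type u} [CommRing S] (φ : R →+* S) (p : F ⟶ Spec (CommRingCat.of S)) (z : F) (a : R) :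
    cst (p ≫ Spec.map (CommRingCat.ofHom φ)) z a = cst p z (φ a) := by
  have h1 := fromSpecStalk_comp (p ≫ Spec.map (CommRingCat.ofHom φ)) z
  rw [← Category.assoc, fromSpecStalk_comp p z, ← Spec.map_comp] at h1
  have h2 := Spec.map_injective h1
  exact (congr($(h2).hom a)).symm

/-- The kernel of the stalk map. -/
theorem ker_stalkMap {S : Type u} [CommRing S] {φ : R →+* S} (hφ : Function.Surjective φ) {i : F ⟶ X}
    {p : F ⟶ Spec (CommRingCat.of S)} (H : IsPullback i p f (Spec.map (CommRingCat.ofHom φ))) (z : F) :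
    RingHom.ker (i.stalkMap z).hom = (RingHom.ker φ).map (cst f (i z)) := by
  have hcl : IsClosedImmersion (Spec.map (CommRingCat.ofHom φ)) :=
    IsClosedImmersion.spec_of_surjective _ hφ
  have hi : IsClosedImmersion i := MorphismProperty.of_isPullback H.flip inferInstance
  have hle : (RingHom.ker φ).map (cst f (i z)) ≤ RingHom.ker (i.stalkMap z).hom := by
    rw [Ideal.map_le_iff_le_comap]
    intro a ha
    rw [Ideal.mem_comap, RingHom.mem_ker, stalkMap_cst, H.w, cst_comp, RingHom.mem_ker.mp ha, map_zero]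
  refine le_antisymm ?_ hle
  rw [← stalkTo_rfl]
  let I := (RingHom.ker φ).map (cst f (i z))
  have hIm : I ≤ IsLocalRing.maximalIdeal (X.presheaf.stalk (i z)) :=
    hle.trans (IsLocalRing.le_maximalIdeal (RingHom.ker_ne_top _))
  have htop : I ≠ ⊤ := fun h => by
    rw [h, top_le_iff] at hIm
    exact (IsLocalRing.maximalIdeal.isMaximal (X.presheaf.stalk (i z))).ne_top hIm
  have hnt : Nontrivial (X.presheaf.stalk (i z) ⧸ I) := Ideal.Quotient.nontrivial_iff.mpr htop
  have hloc : IsLocalRing (X.presheaf.stalk (i z) ⧸ I) :=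
    IsLocalRing.of_surjective' (Ideal.Quotient.mk I) Ideal.Quotient.mk_surjective
  let q : X.presheaf.stalk (i z) ⟶ CommRingCat.of (X.presheaf.stalk (i z) ⧸ I) :=
    CommRingCat.ofHom (Ideal.Quotient.mk I)
  let e : (R ⧸ RingHom.ker φ) ≃+* S := RingHom.quotientKerEquivOfSurjective hφ
  let ρ : CommRingCat.of S ⟶ CommRingCat.of (X.presheaf.stalk (i z) ⧸ I) :=
    CommRingCat.ofHom ((Ideal.quotientMap I (cst f (i z)) Ideal.le_comap_map).comp e.symm.toRingHom)
  have hρ : CommRingCat.ofHom (cst f (i z)) ≫ q = CommRingCat.ofHom φ ≫ ρ := by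
    ext t
    have h1 : e.symm (φ t) = Ideal.Quotient.mk _ t := by
      rw [RingEquiv.symm_apply_eq]
      rfl
    change Ideal.Quotient.mk I (cst f (i z) t) =
      Ideal.quotientMap I (cst f (i z)) Ideal.le_comap_map (e.symm (φ t))
    rw [h1, Ideal.quotientMap_mk]
  have hcomm : (Spec.map q ≫ X.fromSpecStalk (i z)) ≫ f = Spec.map ρ ≫ Spec.map (CommRingCat.ofHom φ) := by
    rw [Category.assoc, fromSpecStalk_comp, ← Spec.map_comp, hρ, Spec.map_comp]
  let θ : Spec (CommRingCat.of (X.presheaf.stalk (i z) ⧸ I)) ⟶ F := H.lift _ _ hcomm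
  have hθ : θ ≫ i = Spec.map q ≫ X.fromSpecStalk (i z) := H.lift_fst _ _ _
  have hqloc : IsLocalHom q.hom := IsLocalHom.of_surjective _ Ideal.Quotient.mk_surjective
  have hθz : θ (IsLocalRing.closedPoint _) = z := by
    apply i.isClosedEmbedding.injective
    have h5 : i (θ (IsLocalRing.closedPoint _)) = (θ ≫ i) (IsLocalRing.closedPoint _) := rfl
    refine h5.trans ?_
    rw [hθ]
    have h6 : (Spec.map q ≫ X.fromSpecStalk (i z)) (IsLocalRing.closedPoint _) =
      X.fromSpecStalk (i z) (Spec.map q (IsLocalRing.closedPoint _)) := rfl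
    refine h6.trans ?_
    have h7 : Spec.map q (IsLocalRing.closedPoint _) = IsLocalRing.closedPoint _ := Spec_closedPoint
    rw [h7]
    exact Scheme.fromSpecStalk_closedPoint
  intro t ht
  have h3 := ker_stalkTo_le z rfl _ q θ hθ hθz ht
  exact Ideal.Quotient.eq_zero_iff_mem.mp h3

end K975.FibK
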