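import Groth.Agent.TFOne.K975.Simple
import Groth.Agent.Ega1.ReducedSub
import Groth.Agent.CohqA.AffPush

/-!
# Closed subcurves and their reduced structure

* `isReduced_subsch`, `range_subschι`;
* `isGen_subschι_iff`: the generic points of a union of irreducible components.
-/

set_option autoImplicit false
universe u
open CategoryTheory CategoryTheory.Limits AlgebraicGeometry TopologicalSpace Opposite

namespace K975.Sub

open Groth.Agent Groth.Agent.CycB.StalkExact Groth.Agent.VarietyA.StalkCrit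
open Groth.Agent.CurvesB Groth.Agent.CurvesB.SubH1 Groth.Agent.CurvesB.GenStalk
open Groth.Agent.CurvesB.SubLemma Groth.Agent.CycB K975.Gen K975.Quot K975.Simple
open Groth.Agent.CycB.PushStalk

variable {X : Scheme.{u}}

theorem range_subschι (Z : Set X) (hZ : IsClosed Z) : Set.range (VecSt.subschι X Z hZ) = Z := by
  rw [Scheme.IdealSheafData.range_subschemeι, Scheme.IdealSheafData.coe_support_vanishingIdeal]
  rfl

instance isReduced_subsch (Z : Set X) (hZ : IsClosed Z) : IsReduced (VecSt.subsch X Z hZ) :=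
  Ega1.ReducedSub.isReduced_subscheme_vanishingIdeal ⟨Z, hZ⟩

theorem exists_eq (Z : Set X) (hZ : IsClosed Z) {x : X} (hx : x ∈ Z) :
    ∃ z, VecSt.subschι X Z hZ z = x := by
  have : x ∈ Set.range (VecSt.subschι X Z hZ) := (range_subschι Z hZ).symm ▸ hx
  exact this

theorem mem (Z : Set X) (hZ : IsClosed Z) (z : VecSt.subsch X Z hZ) : VecSt.subschι X Z hZ z ∈ Z := by
  have : VecSt.subschι X Z hZ z ∈ Set.range (VecSt.subschι X Z hZ) := ⟨z, rfl⟩
  rwa [range_subschι] at this

theorem isCoh_push {Y : Scheme.{u}} (i : Y ⟶ X) [IsClosedImmersion i] {G : Y.Modules}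
    (hG : Coh.IsCoh G) : Coh.IsCoh ((Scheme.Modules.pushforward i).obj G) :=
  ⟨CohqA.AffPush.isQCoh_push i _ hG.1, CohqA.AffPush.isFT_push i _ hG.1 hG.2⟩

theorem specializes_iff {Y : Scheme.{u}} (i : Y ⟶ X) [IsClosedImmersion i] (a b : Y) :
    i a ⤳ i b ↔ a ⤳ b := i.isClosedEmbedding.isInducing.specializes_iff

/-- The generic points of a union of irreducible components. -/
theorem isGen_subschι_iff {Z : Set X} (hZ : IsClosed Z) (h : IsUC Z) (z : VecSt.subsch X Z hZ) :
    IsGen (VecSt.subschι X Z hZ z) ↔ IsGen z := by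
  constructor
  · exact SubClosed.isGen_of_isGen_map _ z
  · intro hz
    obtain ⟨ξ, hξ, hξZ, hs⟩ := (h _).mp (mem Z hZ z)
    obtain ⟨ζ, rfl⟩ := exists_eq Z hZ hξZ
    rw [specializes_iff] at hs
    rwa [← hz ζ hs]

/-- The generic support of the direct image of a rank-one module. -/
theorem push_gs {Z : Set X} (hZ : IsClosed Z) (h : IsUC Z) {J : (VecSt.subsch X Z hZ).Modules}
    (hJ : TFOne.IsRkOne _ J) {ξ : X} (hξ : IsGen ξ) :
    ¬ Subsingleton (((Scheme.Modules.pushforward (VecSt.subschι X Z hZ)).obj J).presheaf.stalk ξ) ↔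
      ξ ∈ Z := by
  constructor
  · intro hn
    by_contra hξZ
    exact hn (subsingleton_push_of_notMem _ J (by rwa [range_subschι]))
  · intro hξZ
    obtain ⟨ζ, rfl⟩ := exists_eq Z hZ hξZ
    rw [subsingleton_push_iff]
    exact nontrivial_of_isRkOne hJ ((isGen_subschι_iff hZ h ζ).mp hξ)

theorem tf_push {Z : Set X} (hZ : IsClosed Z) (h : IsUC Z) {J : (VecSt.subsch X Z hZ).Modules}
    (hJ : TF J) : TF ((Scheme.Modules.pushforward (VecSt.subschι X Z hZ)).obj J) :=
  Simple.tf_push _ (fun ζ hζ => (isGen_subschι_iff hZ h ζ).mpr hζ) hJ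

theorem disjoint_of_exact {A M B : X.Modules} (a : A ⟶ M) (b : M ⟶ B) [Mono a] [Epi b]
    (w : a ≫ b = 0) (hM : GenSimple M) (ξ : X) (hξ : IsGen ξ) :
    Subsingleton (A.presheaf.stalk ξ) ∨ Subsingleton (B.presheaf.stalk ξ) := by
  by_cases hB : Subsingleton (B.presheaf.stalk ξ)
  · exact Or.inr hB
  · left
    have hinj := injective_of_genSimple hM b hξ hB
    refine subsingleton_of_forall_eq 0 fun t => ?_
    apply stalkLin_injective a ξ
    apply hinj
    rw [← LinearMap.comp_apply, ← stalkLin_comp, w, map_zero, map_zero]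
    exact PairLemma.stalkLin_zero' _ _ _ _

end K975.Sub
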