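import Groth.Agent.TFOne.K975.Euler
import Groth.Agent.TFOne.K975.Sub
import Groth.Agent.TFOne.K975.FibK
import Groth.Agent.FormalA.PullbackQC

/-!
# Elementary modifications along a principal closed subscheme

`i : Y ⟶ X` is a closed immersion whose ideal is generated by a global function `g` and `I` is a module on
`X` on whose stalks at the points of `Y` the function `g` acts injectively. For an epimorphism
`π : i^* I ⟶ G` let `J` be the kernel of `I ⟶ i_* i^* I ⟶ i_* G`. Then there is an exact sequence
`0 ⟶ G ⟶ i^* J ⟶ i^* I ⟶ G ⟶ 0`.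
-/

set_option autoImplicit false
universe u
open CategoryTheory CategoryTheory.Limits AlgebraicGeometry TopologicalSpace Opposite

set_option linter.unusedSectionVars false

namespace K975.Mod

open Groth.Agent Groth.Agent.CycB.StalkExact Groth.Agent.VarietyA.StalkCrit
open Groth.Agent.CurvesB Groth.Agent.CurvesB.SubH1 Groth.Agent.CurvesB.GenStalk
open Groth.Agent.CurvesB.SubLemma Groth.Agent.CycB K975.Gen K975.Quot K975.Simple K975.Sub
open Groth.Agent.CycB.PushStalk Groth.Agent.CurvesB.SubClosed

variable {X Y : Scheme.{u}} (i : Y ⟶ X) [IsClosedImmersion i]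

theorem hom_ext_of_stalks {M N : X.Modules} (f g : M ⟶ N)
    (h : ∀ (x : X) (t : M.presheaf.stalk x), stalkLin f x t = stalkLin g x t) : f = g := by
  apply Scheme.Modules.hom_ext
  intro U
  ext s
  refine VarietyA.FiniteSupport.section_eq N _ _ fun x hx => ?_
  rw [← stalkLin_germ, ← stalkLin_germ, h]

/-! ### The map on stalks -/

/-- The map `F_{i y} → (i^* F)_y`. -/
noncomputable def can (F : X.Modules) (y : Y) (t : F.presheaf.stalk (i y)) :
    ((Scheme.Modules.pullback i).obj F).presheaf.stalk y :=
  pushStalk i ((Scheme.Modules.pullback i).obj F) y (stalkLin (unitι i F) (i y) t)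

theorem can_add (F : X.Modules) (y : Y) (s t : F.presheaf.stalk (i y)) :
    can i F y (s + t) = can i F y s + can i F y t := by
  unfold can; rw [map_add, map_add]

theorem can_zero (F : X.Modules) (y : Y) : can i F y 0 = 0 := by
  unfold can; rw [map_zero, map_zero]

theorem can_sub (F : X.Modules) (y : Y) (s t : F.presheaf.stalk (i y)) :
    can i F y (s - t) = can i F y s - can i F y t := by
  unfold can; rw [map_sub, map_sub]

theorem can_smul (F : X.Modules) (y : Y) (a : X.presheaf.stalk (i y)) (t : F.presheaf.stalk (i y)) :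
    can i F y (a • t) = (i.stalkMap y).hom a • can i F y t := by
  unfold can
  rw [map_smul]
  exact (pushStalk i ((Scheme.Modules.pullback i).obj F) y).map_smulₛₗ a _

theorem can_surjective (F : X.Modules) (y : Y) : Function.Surjective (can i F y) :=
  (bijective_pushStalk i _ y).2.comp (stalkLin_unit_surjective i F (i y))

theorem can_nat {F G : X.Modules} (φ : F ⟶ G) (y : Y) (t : F.presheaf.stalk (i y)) :
    can i G y (stalkLin φ (i y) t) = stalkLin ((Scheme.Modules.pullback i).map φ) y (can i F y t) := by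
  unfold can
  rw [← pushStalk_natural]
  have h1 : stalkLin (unitι i G) (i y) (stalkLin φ (i y) t) = stalkLin (φ ≫ unitι i G) (i y) t := by
    rw [stalkLin_comp]; rfl
  have h2 : stalkLin ((Scheme.Modules.pushforward i).map ((Scheme.Modules.pullback i).map φ)) (i y)
      (stalkLin (unitι i F) (i y) t) = stalkLin (unitι i F ≫ (Scheme.Modules.pushforward i).map
        ((Scheme.Modules.pullback i).map φ)) (i y) t := by
    rw [stalkLin_comp]; rfl
  have h3 : φ ≫ unitι i G = unitι i F ≫ (Scheme.Modules.pushforward i).map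
      ((Scheme.Modules.pullback i).map φ) :=
    (Scheme.Modules.pullbackPushforwardAdjunction i).unit.naturality φ
  rw [h1, h2, h3]

/-- For a map `I ⟶ i_* G` adjoint to `π`. -/
theorem pushStalk_unit_comp {F : X.Modules} {G : Y.Modules} (π : (Scheme.Modules.pullback i).obj F ⟶ G)
    (y : Y) (t : F.presheaf.stalk (i y)) :
    pushStalk i G y (stalkLin (unitι i F ≫ (Scheme.Modules.pushforward i).map π) (i y) t) =
      stalkLin π y (can i F y t) := by
  rw [stalkLin_comp, LinearMap.comp_apply, pushStalk_natural]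
  rfl

section G

variable (g : Coh.Γtop X)

/-- The germ of a global function. -/
noncomputable def gm (x : X) : X.presheaf.stalk x := (X.presheaf.germ ⊤ x trivial).hom g

/-- Multiplication by a global function on a stalk. -/
theorem stalkLin_smulModΓ (F : X.Modules) (x : X) (t : F.presheaf.stalk x) :
    stalkLin (Formal.smulModΓ F g) x t = gm g x • t := by
  obtain ⟨U, hU, s, rfl⟩ := F.presheaf.exists_germ_eq t
  rw [stalkLin_germ]
  have h1 : gm g x = X.presheaf.germ U x hU
      (X.presheaf.map (homOfLE (le_top (a := U))).op g) :=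
    (TopCat.Presheaf.germ_res_apply X.presheaf (homOfLE (le_top (a := U))) x hU g).symm
  rw [h1, ← germ_smul]
  rfl

variable (hk : ∀ y : Y, RingHom.ker (i.stalkMap y).hom = Ideal.span {gm g (i y)})

include hk in
theorem can_smul_g (F : X.Modules) (y : Y) (t : F.presheaf.stalk (i y)) :
    can i F y (gm g (i y) • t) = 0 := by
  rw [can_smul]
  have : gm g (i y) ∈ RingHom.ker (i.stalkMap y).hom := by
    rw [hk]; exact Ideal.mem_span_singleton_self _
  rw [RingHom.mem_ker] at this
  rw [this, zero_smul]

include hk in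
/-- The kernel of `F_{i y} → (i^* F)_y`. -/
theorem can_eq_zero_iff (F : X.Modules) (y : Y) (t : F.presheaf.stalk (i y)) :
    can i F y t = 0 ↔ ∃ s, t = gm g (i y) • s := by
  constructor
  · intro h
    let p := cokernel.π (Formal.smulModΓ F g)
    have hex : Function.Exact (stalkLin (Formal.smulModΓ F g) (i y)) (stalkLin p (i y)) :=
      stalkLin_exact (ShortComplex.mk _ p (cokernel.condition _))
        (ShortComplex.exact_of_g_is_cokernel _ (cokernelIsCokernel _)) (i y)
    have hinj : Function.Injective (stalkLin (unitι i (cokernel (Formal.smulModΓ F g))) (i y)) := by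
      refine stalkLin_unit_injective i _ y fun a ha q => ?_
      have ha' : a ∈ RingHom.ker (i.stalkMap y).hom := ha
      rw [hk, Ideal.mem_span_singleton'] at ha'
      obtain ⟨b, rfl⟩ := ha'
      obtain ⟨t, rfl⟩ := stalkLin_surjective p (i y) q
      rw [mul_smul, ← map_smul, (hex _).mpr ⟨t, stalkLin_smulModΓ g F (i y) t⟩, smul_zero]
    have h1 : can i (cokernel (Formal.smulModΓ F g)) y (stalkLin p (i y) t) = 0 := by
      rw [can_nat, h, map_zero]
    have h2 : stalkLin p (i y) t = 0 := by
      apply hinj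
      apply (bijective_pushStalk i _ y).1
      rw [map_zero, map_zero]
      exact h1
    obtain ⟨s, hs⟩ := (hex t).mp h2
    exact ⟨s, by rw [← hs, stalkLin_smulModΓ]⟩
  · rintro ⟨s, rfl⟩
    exact can_smul_g i g hk F y s

/-! ### The modification -/

variable {I : X.Modules} {G : Y.Modules} (π : (Scheme.Modules.pullback i).obj I ⟶ G)

/-- The map `I ⟶ i_* G`. -/
noncomputable abbrev toPush : I ⟶ (Scheme.Modules.pushforward i).obj G :=
  (Scheme.Modules.pullbackPushforwardAdjunction i).unit.app I ≫ (Scheme.Modules.pushforward i).map π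

/-- The modification. -/
noncomputable abbrev mod : X.Modules := kernel (toPush i π)

theorem stalkLin_toPush_eq_zero_iff (y : Y) (t : I.presheaf.stalk (i y)) :
    stalkLin (toPush i π) (i y) t = 0 ↔ stalkLin π y (can i I y t) = 0 := by
  rw [← pushStalk_unit_comp]
  constructor
  · intro h; rw [h, map_zero]
  · intro h
    apply (bijective_pushStalk i _ y).1
    rw [h, map_zero]

theorem exact_mod (y : Y) (t : I.presheaf.stalk (i y)) :
    stalkLin π y (can i I y t) = 0 ↔ ∃ s, stalkLin (kernel.ι (toPush i π)) (i y) s = t := by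
  rw [← stalkLin_toPush_eq_zero_iff]
  exact stalkLin_exact (ShortComplex.mk _ (toPush i π) (kernel.condition _))
    (ShortComplex.exact_of_f_is_kernel _ (kernelIsKernel _)) (i y) t

theorem stalkLin_ι_injective (x : X) : Function.Injective (stalkLin (kernel.ι (toPush i π)) x) :=
  stalkLin_injective _ x

include hk in
theorem smulModΓ_comp_toPush : Formal.smulModΓ I g ≫ toPush i π = 0 := by
  refine hom_ext_of_stalks _ _ fun x t => ?_
  rw [PairLemma.stalkLin_zero']
  by_cases hx : x ∈ Set.range i
  · obtain ⟨y, rfl⟩ := hx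
    rw [stalkLin_comp, LinearMap.comp_apply, stalkLin_smulModΓ, stalkLin_toPush_eq_zero_iff,
      can_smul_g i g hk, map_zero]
  · have := subsingleton_push_of_notMem i G hx
    exact Subsingleton.elim _ _

/-- Multiplication by `g` as a map from `I` to the modification. -/
noncomputable def mulTo : I ⟶ mod i π :=
  kernel.lift _ (Formal.smulModΓ I g) (smulModΓ_comp_toPush i g hk π)

theorem mulTo_ι : mulTo i g hk π ≫ kernel.ι (toPush i π) = Formal.smulModΓ I g := kernel.lift_ι _ _ _

theorem stalkLin_ι_mulTo (x : X) (t : I.presheaf.stalk x) :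
    stalkLin (kernel.ι (toPush i π)) x (stalkLin (mulTo i g hk π) x t) =
      gm g x • t := by
  rw [← LinearMap.comp_apply, ← stalkLin_comp, mulTo_ι, stalkLin_smulModΓ]

theorem mulTo_ι' (x : X) (t : (mod i π).presheaf.stalk x) :
    stalkLin (mulTo i g hk π) x (stalkLin (kernel.ι (toPush i π)) x t) =
      gm g x • t := by
  apply stalkLin_ι_injective i π x
  rw [stalkLin_ι_mulTo, map_smul]

/-- The inclusion restricted to `Y`. -/
noncomputable abbrev β : (Scheme.Modules.pullback i).obj (mod i π) ⟶ (Scheme.Modules.pullback i).obj I :=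
  (Scheme.Modules.pullback i).map (kernel.ι (toPush i π))

theorem β_comp : β i π ≫ π = 0 := by
  refine hom_ext_of_stalks _ _ fun y n => ?_
  rw [PairLemma.stalkLin_zero']
  obtain ⟨t, rfl⟩ := can_surjective i _ y n
  rw [stalkLin_comp, LinearMap.comp_apply, ← can_nat]
  exact (exact_mod i π y _).mpr ⟨t, rfl⟩

variable [Epi π]

include hk in
theorem ker_comp_mulTo : kernel.ι π ≫ (Scheme.Modules.pullback i).map (mulTo i g hk π) = 0 := by
  refine hom_ext_of_stalks _ _ fun y n => ?_
  rw [PairLemma.stalkLin_zero', stalkLin_comp, LinearMap.comp_apply]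
  obtain ⟨s, hs⟩ := can_surjective i _ y (stalkLin (kernel.ι π) y n)
  have h1 : stalkLin π y (can i I y s) = 0 := by
    rw [hs, ← LinearMap.comp_apply, ← stalkLin_comp, kernel.condition]
    exact PairLemma.stalkLin_zero' _ _ _ _
  obtain ⟨t, rfl⟩ := (exact_mod i π y s).mp h1
  rw [← hs, ← can_nat, mulTo_ι']
  exact can_smul_g i g hk _ y t

/-- The map `G ⟶ i^* J`. -/
noncomputable def α : G ⟶ (Scheme.Modules.pullback i).obj (mod i π) :=
  Abelian.epiDesc π ((Scheme.Modules.pullback i).map (mulTo i g hk π)) (ker_comp_mulTo i g hk π)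

theorem π_α : π ≫ α i g hk π = (Scheme.Modules.pullback i).map (mulTo i g hk π) :=
  Abelian.comp_epiDesc _ _ _

theorem stalkLin_α (y : Y) (s : I.presheaf.stalk (i y)) :
    stalkLin (α i g hk π) y (stalkLin π y (can i I y s)) =
      can i (mod i π) y (stalkLin (mulTo i g hk π) (i y) s) := by
  rw [← LinearMap.comp_apply, ← stalkLin_comp, π_α, can_nat]

theorem α_β : α i g hk π ≫ β i π = 0 := by
  refine hom_ext_of_stalks _ _ fun y n => ?_
  rw [PairLemma.stalkLin_zero', stalkLin_comp, LinearMap.comp_apply]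
  obtain ⟨m, rfl⟩ := stalkLin_surjective π y n
  obtain ⟨s, rfl⟩ := can_surjective i _ y m
  rw [stalkLin_α, ← can_nat, stalkLin_ι_mulTo]
  exact can_smul_g i g hk _ y s

variable (hinj : ∀ (y : Y) (t : I.presheaf.stalk (i y)), gm g (i y) • t = 0 → t = 0)

include hinj in
theorem mono_α : Mono (α i g hk π) := by
  refine mono_of_stalks _ fun y => ?_
  rw [injective_iff_map_eq_zero]
  intro n hn
  obtain ⟨m, rfl⟩ := stalkLin_surjective π y n
  obtain ⟨s, rfl⟩ := can_surjective i _ y m
  rw [stalkLin_α, can_eq_zero_iff i g hk] at hn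
  obtain ⟨t, ht⟩ := hn
  refine (exact_mod i π y s).mpr ⟨t, ?_⟩
  rw [← sub_eq_zero]
  apply hinj y
  rw [smul_sub, ← stalkLin_ι_mulTo i g hk π (i y) s, ht, map_smul, sub_self]

/-- The map `i^* J ⟶ ker π`. -/
noncomputable def β' : (Scheme.Modules.pullback i).obj (mod i π) ⟶ kernel π :=
  kernel.lift π (β i π) (β_comp i π)

omit [Epi π] in
theorem β'_ι : β' i π ≫ kernel.ι π = β i π := kernel.lift_ι _ _ _

theorem α_β' : α i g hk π ≫ β' i π = 0 := by
  rw [← cancel_mono (kernel.ι π), Category.assoc, β'_ι, α_β, zero_comp]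

omit [Epi π] in
theorem epi_β' : Epi (β' i π) := by
  refine epi_of_stalks _ fun y => ?_
  intro n
  obtain ⟨s, hs⟩ := can_surjective i _ y (stalkLin (kernel.ι π) y n)
  have h1 : stalkLin π y (can i I y s) = 0 := by
    rw [hs, ← LinearMap.comp_apply, ← stalkLin_comp, kernel.condition]
    exact PairLemma.stalkLin_zero' _ _ _ _
  obtain ⟨t, rfl⟩ := (exact_mod i π y s).mp h1
  refine ⟨can i _ y t, ?_⟩
  apply stalkLin_injective (kernel.ι π) y
  rw [← LinearMap.comp_apply, ← stalkLin_comp, β'_ι, ← can_nat, hs]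

include hinj in
/-- The exact sequence `0 ⟶ G ⟶ i^* J ⟶ ker π ⟶ 0`. -/
theorem shortExact : (ShortComplex.mk (α i g hk π) (β' i π) (α_β' i g hk π)).ShortExact := by
  have h1 := mono_α i g hk π hinj
  have h2 := epi_β' i π
  refine ShortComplex.ShortExact.mk ?_
  rw [ShortComplex.exact_iff_epi_kernel_lift]
  refine epi_of_stalks _ fun y => ?_
  intro n
  obtain ⟨t, ht⟩ := can_surjective i _ y (stalkLin (kernel.ι (β' i π)) y n)
  have h3 : can i I y (stalkLin (kernel.ι (toPush i π)) (i y) t) = 0 := by
    rw [can_nat, ht, ← LinearMap.comp_apply, ← stalkLin_comp]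
    have : kernel.ι (β' i π) ≫ β i π = 0 := by
      rw [← β'_ι, ← Category.assoc, kernel.condition, zero_comp]
    rw [this]
    exact PairLemma.stalkLin_zero' _ _ _ _
  rw [can_eq_zero_iff i g hk] at h3
  obtain ⟨s, hs⟩ := h3
  have h4 : t = stalkLin (mulTo i g hk π) (i y) s := by
    apply stalkLin_ι_injective i π (i y)
    rw [stalkLin_ι_mulTo, hs]
  refine ⟨stalkLin π y (can i I y s), ?_⟩
  apply stalkLin_injective (kernel.ι (β' i π)) y
  rw [← ht, h4, ← stalkLin_α i g hk π, ← LinearMap.comp_apply, ← stalkLin_comp]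
  congr 2
  exact kernel.lift_ι _ _ _

end G

end K975.Mod
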