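import Groth.Agent.S0403
import Groth.Agent.S0435
import Groth.Agent.S1026
import Groth.Agent.Flat2G.ProperDim
import Groth.Agent.Pic13.H952.FibrePt
import Groth.Agent.CohqB.PullTwist471
import Groth.Agent.CohqA.FinLocal
import Groth.Agent.CohqA.AffSec
import Groth.Agent.Divis.StalkMod
import Groth.Agent.VarietyA.LocFreeTens
import Groth.Agent.VarietyB.ExactLoc
import Groth.Agent.TFOne.K975.FlatR
import Groth.Agent.TFOne.K975.Mod
import Groth.Agent.TFOne.K77.Psi
import Groth.Agent.CurvesB.VABaseChange

/-!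
# Flat proper families of curves over a local domain

`R` a Noetherian local ring (later a discrete valuation ring), `f : X ⟶ Spec R` flat and proper, `Xs` the special fibre.

* `exists_residue`, `exists_fraction`: field-valued points of `Spec R` over the closed (generic) point factor through
  the residue field (the fraction field);
* `geometricallyReduced`: `f` is geometrically reduced if `Xs` is;
* `dim_le`: the fibres have dimension `≤ c` if `Xs` has;
* `euler_eq`: the Euler characteristic of the fibres of a flat coherent module is constant;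
* `Psi_eq`: the same for `χ(E ⊗ F)`.
-/

set_option autoImplicit false
universe u
open CategoryTheory Limits AlgebraicGeometry TopologicalSpace Opposite

namespace K975.Fam

open Groth.Agent

/-! ### Field-valued points of the spectrum of a local ring -/

section Points

variable {R : Type u} [CommRing R] {Ω : Type u} [Field Ω]

theorem comap_closedPoint (φ : R →+* Ω) :
    (Spec.map (CommRingCat.ofHom φ) (IsLocalRing.closedPoint Ω)).asIdeal = RingHom.ker φ := by
  change (IsLocalRing.maximalIdeal Ω).comap φ = _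
  rw [(IsLocalRing.isField_iff_maximalIdeal_eq (R := Ω)).mp (Field.toIsField Ω)]
  rfl

/-- A field-valued point over the closed point factors through the residue field. -/
theorem exists_residue [IsLocalRing R] (t : Spec (CommRingCat.of Ω) ⟶ Spec (CommRingCat.of R))
    (ht : t (IsLocalRing.closedPoint Ω) = IsLocalRing.closedPoint R) :
    ∃ ψ : IsLocalRing.ResidueField R →+* Ω, t = Spec.map (CommRingCat.ofHom ψ) ≫
      Spec.map (CommRingCat.ofHom (IsLocalRing.residue R)) := by
  obtain ⟨φ, rfl⟩ : ∃ φ : R →+* Ω, t = Spec.map (CommRingCat.ofHom φ) :=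
    ⟨(Spec.preimage t).hom, (Spec.map_preimage t).symm⟩
  have h1 : RingHom.ker φ = IsLocalRing.maximalIdeal R := by
    rw [← comap_closedPoint, ht]
    rfl
  have hloc : IsLocalHom φ := by
    refine ⟨fun a ha => ?_⟩
    by_contra hn
    have h2 : a ∈ RingHom.ker φ := by
      rw [h1]
      exact hn
    rw [RingHom.mem_ker] at h2
    rw [h2] at ha
    exact not_isUnit_zero ha
  refine ⟨IsLocalRing.ResidueField.lift φ, ?_⟩
  rw [← Spec.map_comp, ← CommRingCat.ofHom_comp, IsLocalRing.ResidueField.lift_comp_residue]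

/-- A field-valued point over the generic point factors through the fraction field. -/
theorem exists_fraction [IsDomain R] (K : Type u) [Field K] [Algebra R K] [IsFractionRing R K]
    (t : Spec (CommRingCat.of Ω) ⟶ Spec (CommRingCat.of R))
    (ht : (t (IsLocalRing.closedPoint Ω)).asIdeal = ⊥) :
    ∃ ψ : K →+* Ω, t = Spec.map (CommRingCat.ofHom ψ) ≫ Spec.map (CommRingCat.ofHom (algebraMap R K)) := by
  obtain ⟨φ, rfl⟩ : ∃ φ : R →+* Ω, t = Spec.map (CommRingCat.ofHom φ) :=
    ⟨(Spec.preimage t).hom, (Spec.map_preimage t).symm⟩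
  have h1 : RingHom.ker φ = ⊥ := (comap_closedPoint φ).symm.trans ht
  have hinj : Function.Injective φ := (RingHom.injective_iff_ker_eq_bot φ).mpr h1
  refine ⟨IsFractionRing.lift hinj, ?_⟩
  rw [← Spec.map_comp, ← CommRingCat.ofHom_comp]
  congr 2
  ext a
  exact (IsFractionRing.lift_algebraMap hinj a).symm

/-- Over a discrete valuation ring a field-valued point factors through the residue field or the fraction field. -/
theorem exists_factor [IsDomain R] [IsDiscreteValuationRing R] (K : Type u) [Field K] [Algebra R K]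
    [IsFractionRing R K] (t : Spec (CommRingCat.of Ω) ⟶ Spec (CommRingCat.of R)) :
    (∃ ψ : IsLocalRing.ResidueField R →+* Ω, t = Spec.map (CommRingCat.ofHom ψ) ≫
      Spec.map (CommRingCat.ofHom (IsLocalRing.residue R))) ∨
    (∃ ψ : K →+* Ω, t = Spec.map (CommRingCat.ofHom ψ) ≫ Spec.map (CommRingCat.ofHom (algebraMap R K))) := by
  by_cases h : (t (IsLocalRing.closedPoint Ω)).asIdeal = ⊥
  · exact Or.inr (exists_fraction K t h)
  · refine Or.inl (exists_residue t ?_)
    have h1 : (t (IsLocalRing.closedPoint Ω)).asIdeal.IsPrime := (t (IsLocalRing.closedPoint Ω)).2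
    have h2 := Ring.DimensionLEOne.maximalOfPrime h h1
    exact PrimeSpectrum.ext (IsLocalRing.eq_maximalIdeal h2)

end Points

/-! ### Reduced fibres and dimension -/

section Geom

variable {R : Type u} [CommRing R] [IsLocalRing R] [IsNoetherianRing R] {X : Scheme.{u}}
  (f : X ⟶ Spec (CommRingCat.of R)) [IsProper f]
  {Xs : Scheme.{u}} {i : Xs ⟶ X} {p : Xs ⟶ Spec (CommRingCat.of (IsLocalRing.ResidueField R))}
  (H : IsPullback i p f (Spec.map (CommRingCat.ofHom (IsLocalRing.residue R))))

omit [IsNoetherianRing R] [IsProper f] in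
include H in
/-- A base change of `f` along a point over the closed point is a base change of the special fibre. -/
theorem exists_isPullback {Ω : Type u} [Field Ω] {t : Spec (CommRingCat.of Ω) ⟶ Spec (CommRingCat.of R)}
    {Y : Scheme.{u}} {j : Y ⟶ X} {q : Y ⟶ Spec (CommRingCat.of Ω)} (HY : IsPullback j q f t)
    (ht : t (IsLocalRing.closedPoint Ω) = IsLocalRing.closedPoint R) :
    ∃ (ψ : IsLocalRing.ResidueField R →+* Ω) (g : Y ⟶ Xs), g ≫ i = j ∧
      IsPullback g q p (Spec.map (CommRingCat.ofHom ψ)) := by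
  obtain ⟨ψ, rfl⟩ := exists_residue t ht
  refine ⟨ψ, H.lift j (q ≫ Spec.map (CommRingCat.ofHom ψ)) (by rw [Category.assoc, HY.w]),
    H.lift_fst _ _ _, ?_⟩
  exact IsPullback.of_right (by rw [H.lift_fst]; exact HY) (H.lift_snd _ _ _) H

include H in
theorem geometricallyReduced [Flat f] [GeometricallyReduced p] : GeometricallyReduced f := by
  have hfp : LocallyOfFinitePresentation f := inferInstance
  have hopen := S0435.result f
  have hmem : IsLocalRing.closedPoint R ∈
      {y : Spec (CommRingCat.of R) | GeometricallyReduced (f.fiberToSpecResidueField y)} := by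
    let y : Spec (CommRingCat.of R) := IsLocalRing.closedPoint R
    have h1 : IsPullback (f.fiberι y) (f.fiberToSpecResidueField y) f
        ((Spec (CommRingCat.of R)).fromSpecResidueField y) := IsPullback.of_hasPullback _ _
    obtain ⟨ψ, g, -, hg⟩ := exists_isPullback f H (Ω := (Spec (CommRingCat.of R)).residueField y) h1
      ((Spec (CommRingCat.of R)).fromSpecResidueField_apply y _)
    exact MorphismProperty.of_isPullback hg inferInstance
  have htop := (IsLocalRing.closedPoint_mem_iff ⟨_, hopen⟩).mp hmem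
  have hall : ∀ y, GeometricallyReduced (f.fiberToSpecResidueField y) := by
    intro y
    have : y ∈ (⟨_, hopen⟩ : TopologicalSpace.Opens (PrimeSpectrum R)) := by
      rw [htop]; trivial
    exact this
  refine ⟨geometrically_iff_forall_fiberToSpecResidueField.mpr fun y => ?_⟩
  exact (hall y).geometrically_isReduced

omit [IsNoetherianRing R] in
include H in
theorem dim_le {c : WithBot ℕ∞} (hc : topologicalKrullDim Xs ≤ c) {Ω : Type u} [Field Ω]
    {t : Spec (CommRingCat.of Ω) ⟶ Spec (CommRingCat.of R)} {Y : Scheme.{u}} {j : Y ⟶ X}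
    {q : Y ⟶ Spec (CommRingCat.of Ω)} (HY : IsPullback j q f t) : topologicalKrullDim Y ≤ c := by
  have hopen := S0403.result f c
  have hmem : IsLocalRing.closedPoint R ∈
      {y : Spec (CommRingCat.of R) | topologicalKrullDim (f.fiber y) ≤ c} := by
    have h1 := Flat2G.ProperDim.topologicalKrullDim_field_point f
      (Field.toIsField (IsLocalRing.ResidueField R)) p i _ H (IsLocalRing.closedPoint _)
    have h2 : Spec.map (CommRingCat.ofHom (IsLocalRing.residue R))
        (IsLocalRing.closedPoint (IsLocalRing.ResidueField R)) = IsLocalRing.closedPoint R :=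
      PrimeSpectrum.ext ((comap_closedPoint _).trans IsLocalRing.ker_residue)
    rw [h2] at h1
    exact h1.symm.trans_le hc
  have htop := (IsLocalRing.closedPoint_mem_iff ⟨_, hopen⟩).mp hmem
  rw [Flat2G.ProperDim.topologicalKrullDim_field_point f (Field.toIsField Ω) q j t HY
    (IsLocalRing.closedPoint _)]
  have : t (IsLocalRing.closedPoint Ω) ∈ (⟨_, hopen⟩ : TopologicalSpace.Opens (PrimeSpectrum R)) := by
    rw [htop]; trivial
  exact this

end Geom

/-! ### Euler characteristics -/

theorem isFP_of_isCoh {X : Scheme.{u}} [IsLocallyNoetherian X] {M : X.Modules} (hM : Coh.IsCoh M) :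
    CohB1.IsFP M := by
  refine (CohqA.FinLocal.isFP_iff M).mpr fun x => ?_
  obtain ⟨U, hU, hx⟩ := Divis.StalkMod.exists_affine x
  refine ⟨U, hx, (CohqA.AffSec.gfp_iff hU hM.1).mpr ?_⟩
  have hNoeth : IsNoetherianRing Γ(X, U) := IsLocallyNoetherian.component_noetherian ⟨U, hU⟩
  have hfin := Divis.StalkMod.finite_sections hM hU
  exact Module.finitePresentation_of_finite Γ(X, U) Γ(M, U)

section Euler

/-- The Euler characteristic of a fibre. -/
theorem euler_eq_eulerChar {X S : Scheme.{u}} (f : X ⟶ S) [QuasiCompact f] [QuasiSeparated f] {Ω : Type u} [Field Ω]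
    {t : Spec (CommRingCat.of Ω) ⟶ S} {Y : Scheme.{u}} [Y.Over (Spec (CommRingCat.of Ω))] {j : Y ⟶ X}
    (HY : IsPullback j (Y ↘ Spec (CommRingCat.of Ω)) f t) (F : X.Modules) (hF : Coh.IsQCoh F) :
    Curv2.euler Ω Y ((Scheme.Modules.pullback j).obj F) =
      PerfAux.eulerChar f F (t (IsLocalRing.closedPoint Ω)) := by
  unfold Curv2.euler PerfAux.eulerChar
  refine finsum_congr fun n => ?_
  rw [Pic13.H952.FibrePt.finrank_eq_betti f t j HY (t (IsLocalRing.closedPoint Ω)) ⟨_, rfl⟩ F hF n]

variable {R : Type u} [CommRing R] [IsLocalRing R] [IsNoetherianRing R] {X : Scheme.{u}}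
  (f : X ⟶ Spec (CommRingCat.of R)) [IsProper f]

omit [IsLocalRing R] in
include f in
theorem isNoetherian : IsNoetherian X := by
  have h1 : IsLocallyNoetherian X := LocallyOfFiniteType.isLocallyNoetherian f
  have h2 : CompactSpace X := QuasiCompact.compactSpace_of_compactSpace f
  exact ⟨⟩

theorem eulerChar_const {F : X.Modules} (hF : Coh.IsCoh F) (hfl : FlatMod.IsFlatOver f F)
    (s s' : Spec (CommRingCat.of R)) : PerfAux.eulerChar f F s = PerfAux.eulerChar f F s' := by
  have hN := isNoetherian f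
  have hfp : LocallyOfFinitePresentation f := inferInstance
  have h := S1026.result f F (isFP_of_isCoh hF) hfl
  have hc : ∀ y : Spec (CommRingCat.of R), PerfAux.eulerChar f F y =
      PerfAux.eulerChar f F (IsLocalRing.closedPoint R) := by
    intro y
    have hopen := h.isOpen_fiber (PerfAux.eulerChar f F (IsLocalRing.closedPoint R))
    have htop := (IsLocalRing.closedPoint_mem_iff
      (R := R) ⟨_, hopen⟩).mp rfl
    have : y ∈ (⟨_, hopen⟩ : TopologicalSpace.Opens (PrimeSpectrum R)) := by
      rw [htop]; trivial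
    exact this
  rw [hc s, hc s']

/-- The Euler characteristics of the fibres of a flat coherent module agree. -/
theorem euler_eq {F : X.Modules} (hF : Coh.IsCoh F) (hfl : FlatMod.IsFlatOver f F) {Ω : Type u} [Field Ω]
    {t : Spec (CommRingCat.of Ω) ⟶ Spec (CommRingCat.of R)} {Y : Scheme.{u}} [Y.Over (Spec (CommRingCat.of Ω))]
    {j : Y ⟶ X} (HY : IsPullback j (Y ↘ Spec (CommRingCat.of Ω)) f t)
    {Ω' : Type u} [Field Ω'] {t' : Spec (CommRingCat.of Ω') ⟶ Spec (CommRingCat.of R)} {Y' : Scheme.{u}}
    [Y'.Over (Spec (CommRingCat.of Ω'))] {j' : Y' ⟶ X}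
    (HY' : IsPullback j' (Y' ↘ Spec (CommRingCat.of Ω')) f t') :
    Curv2.euler Ω Y ((Scheme.Modules.pullback j).obj F) =
      Curv2.euler Ω' Y' ((Scheme.Modules.pullback j').obj F) := by
  rw [euler_eq_eulerChar f HY F hF.1, euler_eq_eulerChar f HY' F hF.1]
  exact eulerChar_const f hF hfl _ _

end Euler

section Tensor

open Groth.Agent.CycB.StalkExact Groth.Agent.VarietyA.StalkCrit Groth.Agent.Ega2.Tens

variable {R : Type u} [CommRing R] {X : Scheme.{u}} [X.Over (Spec (CommRingCat.of R))]

theorem stalkLin_smulMod (M : X.Modules) (a : R) (x : X) (t : M.presheaf.stalk x) :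
    stalkLin (Formal.smulMod R M a) x t = FibK.cst (X ↘ Spec (CommRingCat.of R)) x a • t :=
  Mod.stalkLin_smulModΓ (Coh.toGlobal (X ↘ Spec (CommRingCat.of R)) a) M x t

/-- Flatness over a discrete valuation ring in terms of a uniformizer. -/
theorem isFlatOver_iff_mono [IsDomain R] [IsDiscreteValuationRing R] {ϖ : R} (hϖ : Irreducible ϖ)
    (M : X.Modules) :
    FlatMod.IsFlatOver (X ↘ Spec (CommRingCat.of R)) M ↔ Mono (Formal.smulMod R M ϖ) := by
  rw [FlatR.isFlatOver_iff _ hϖ]
  constructor
  · intro h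
    refine mono_of_stalks _ fun x => ?_
    rw [injective_iff_map_eq_zero]
    intro t ht
    exact h x t (by rw [← stalkLin_smulMod]; exact ht)
  · intro h x t ht
    apply stalkLin_injective (Formal.smulMod R M ϖ) x
    rw [stalkLin_smulMod, ht, map_zero]

theorem tensorBi_map_smulMod (E M : X.Modules) (a : R) :
    (DCoh.tensorBi.obj E).map (Formal.smulMod R M a) = Formal.smulMod R (CohB1.tensorMod E M) a := by
  refine Ega2.Tens.hom_ext (M := E) (N := M) (P := CohB1.tensorMod E M) _ _ fun U m n => ?_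
  refine (VarietyB.TensLoc.tensorBi_map_app_tmul E (Formal.smulMod R M a) m n).trans ?_
  exact Ega2.Tens.tmul_smul (M := E) (N := M) _ m n

theorem mono_tensor {E M N : X.Modules} (hE : VarietyB.TensCoh.HasBases E) (φ : M ⟶ N) [Mono φ] :
    Mono ((DCoh.tensorBi.obj E).map φ) :=
  (VarietyB.ExactLoc.tensor_shortExact hE (ShortComplex.mk φ (cokernel.π φ) (cokernel.condition φ))
    (VarietyA.StalkCrit.shortExact_cokernel φ)).mono_f

/-- `E ⊗ F` is flat over a discrete valuation ring if `F` is and `E` is locally free. -/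
theorem isFlatOver_tensor {R : Type u} [CommRing R] [IsDomain R] [IsDiscreteValuationRing R] {X : Scheme.{u}}
    (f : X ⟶ Spec (CommRingCat.of R)) {r : ℕ} {E F : X.Modules} (hE : FlatMod.IsFinLocFreeOfRank r E)
    (hF : FlatMod.IsFlatOver f F) : FlatMod.IsFlatOver f (CohB1.tensorMod E F) := by
  let _ : X.Over (Spec (CommRingCat.of R)) := ⟨f⟩
  obtain ⟨ϖ, hϖ⟩ := IsDiscreteValuationRing.exists_irreducible R
  have h1 : Mono (Formal.smulMod R F ϖ) := (isFlatOver_iff_mono hϖ F).mp hF
  refine (isFlatOver_iff_mono hϖ (CohB1.tensorMod E F)).mpr ?_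
  rw [← tensorBi_map_smulMod]
  exact mono_tensor (VarietyB.TensCoh.HasBases.of_isFinLocFreeOfRank hE) _

/-- The Euler characteristics `χ(E ⊗ F)` of the fibres agree for `F` flat and `E` locally free. -/
theorem Psi_eq {R : Type u} [CommRing R] [IsDomain R] [IsDiscreteValuationRing R] {X : Scheme.{u}}
    (f : X ⟶ Spec (CommRingCat.of R)) [IsProper f] {r : ℕ} {E F : X.Modules}
    (hE : FlatMod.IsFinLocFreeOfRank r E) (hF : Coh.IsCoh F) (hfl : FlatMod.IsFlatOver f F) {Ω : Type u} [Field Ω]
    {t : Spec (CommRingCat.of Ω) ⟶ Spec (CommRingCat.of R)} {Y : Scheme.{u}} [Y.Over (Spec (CommRingCat.of Ω))]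
    {j : Y ⟶ X} (HY : IsPullback j (Y ↘ Spec (CommRingCat.of Ω)) f t)
    {Ω' : Type u} [Field Ω'] {t' : Spec (CommRingCat.of Ω') ⟶ Spec (CommRingCat.of R)} {Y' : Scheme.{u}}
    [Y'.Over (Spec (CommRingCat.of Ω'))] {j' : Y' ⟶ X}
    (HY' : IsPullback j' (Y' ↘ Spec (CommRingCat.of Ω')) f t') :
    K77.TF.Psi Ω ((Scheme.Modules.pullback j).obj E) ((Scheme.Modules.pullback j).obj F) =
      K77.TF.Psi Ω' ((Scheme.Modules.pullback j').obj E) ((Scheme.Modules.pullback j').obj F) := by
  have hN := isNoetherian f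
  have hB := VarietyB.TensCoh.HasBases.of_isFinLocFreeOfRank hE
  have h1 := euler_eq f (VarietyA.LocFreeTens.isCoh_tensor hE hF) (isFlatOver_tensor f hE hfl) HY HY'
  have h2 := VarietyA.DegRank.euler_iso Ω (CohqB.PullTwist471.pullTensorIsoLeft j hB F)
  have h3 := VarietyA.DegRank.euler_iso Ω' (CohqB.PullTwist471.pullTensorIsoLeft j' hB F)
  rw [h2, h3] at h1
  exact h1

/-- `χ(E ⊗ F)` is invariant under field extension. -/
theorem Psi_eq_of_field {k : Type u} [Field k] {X : Scheme.{u}} [X.Over (Spec (CommRingCat.of k))]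
    [IsProper (X ↘ Spec (CommRingCat.of k))] {r : ℕ} {E F : X.Modules}
    (hE : FlatMod.IsFinLocFreeOfRank r E) (hF : Coh.IsCoh F) {Ω : Type u} [Field Ω]
    {t : Spec (CommRingCat.of Ω) ⟶ Spec (CommRingCat.of k)} {Y : Scheme.{u}} [Y.Over (Spec (CommRingCat.of Ω))]
    {j : Y ⟶ X} (HY : IsPullback j (Y ↘ Spec (CommRingCat.of Ω)) (X ↘ Spec (CommRingCat.of k)) t) :
    K77.TF.Psi Ω ((Scheme.Modules.pullback j).obj E) ((Scheme.Modules.pullback j).obj F) =
      K77.TF.Psi k E F := by
  have hB := VarietyB.TensCoh.HasBases.of_isFinLocFreeOfRank hE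
  obtain ⟨φ, rfl⟩ : ∃ φ : k →+* Ω, t = Spec.map (CommRingCat.ofHom φ) :=
    ⟨(Spec.preimage t).hom, (Spec.map_preimage t).symm⟩
  let _ : Algebra k Ω := φ.toAlgebra
  have h1 := CurvesB.VABaseChange.euler_eq (K := Ω) HY (CohB1.tensorMod E F)
    (VarietyA.LocFreeTens.isCoh_tensor hE hF).1
  have h2 := VarietyA.DegRank.euler_iso Ω (CohqB.PullTwist471.pullTensorIsoLeft j hB F)
  rw [h2] at h1
  exact h1

end Tensor

end K975.Fam
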