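import Groth.Agent.TFOne.K975.Euler
import Groth.Agent.TFOne.K975.Sub
import Groth.Agent.S1641

/-!
# The numbers `rBeta`

* `wt d Z`: the sum of `d` over the irreducible components whose generic point lies in `Z`;
* `deg_pullback`: for a closed immersion `j : T ⟶ X` with `T` reduced, `deg (j^* E) = wt (degC E) (range j)`;
* `rBeta_eq`: `rBeta = r χ(G) + wt (degC E) Z`.
-/

set_option autoImplicit false
universe u
open CategoryTheory CategoryTheory.Limits AlgebraicGeometry TopologicalSpace Opposite

namespace K975.Beta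

open Groth.Agent Groth.Agent.CycB.StalkExact Groth.Agent.VarietyA.StalkCrit
open Groth.Agent.CurvesB Groth.Agent.CurvesB.SubH1 Groth.Agent.CurvesB.GenStalk
open Groth.Agent.CurvesB.SubLemma Groth.Agent.CycB K975.Gen K975.Quot K975.Simple K975.Sub K975.Euler
open Groth.Agent.CycB.PushStalk Groth.Agent.VarietyB Groth.Agent.VarietyB.DegMult

variable {X : Scheme.{u}}

theorem isGen_genericPoint (C : irreducibleComponents (X : Type u)) : IsGen C.2.1.genericPoint :=
  fun y hy => eq_genericPoint C y hy

/-- The component with generic point `ξ`. -/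
def comp {ξ : X} (hξ : IsGen ξ) : irreducibleComponents (X : Type u) :=
  ⟨closure {ξ}, (DimOneTop.closure_mem_irreducibleComponents_iff ξ).mpr hξ⟩

theorem genericPoint_comp {ξ : X} (hξ : IsGen ξ) : (comp hξ).2.1.genericPoint = ξ := by
  have h := closure_genericPoint (comp hξ)
  have h2 : closure {(comp hξ).2.1.genericPoint} = closure {ξ} := h
  exact (inseparable_iff_closure_eq.mpr h2).eq

/-- The sum of `d` over the irreducible components whose generic point lies in `Z`. -/
noncomputable def wt (d : irreducibleComponents (X : Type u) → ℤ) (Z : Set X) : ℤ :=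
  open Classical in ∑ᶠ C : irreducibleComponents (X : Type u), if C.2.1.genericPoint ∈ Z then d C else 0

theorem wt_congr (d : irreducibleComponents (X : Type u) → ℤ) {A B : Set X}
    (h : ∀ ξ, IsGen ξ → (ξ ∈ A ↔ ξ ∈ B)) : wt d A = wt d B := by
  classical
  unfold wt
  refine finsum_congr fun C => ?_
  have := h _ (isGen_genericPoint C)
  by_cases hA : C.2.1.genericPoint ∈ A
  · rw [if_pos hA, if_pos (this.mp hA)]
  · rw [if_neg hA, if_neg (fun hB => hA (this.mpr hB))]

theorem wt_eq_zero (d : irreducibleComponents (X : Type u) → ℤ) {A : Set X}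
    (h : ∀ ξ, IsGen ξ → ξ ∉ A) : wt d A = 0 := by
  classical
  unfold wt
  refine finsum_eq_zero_of_forall_eq_zero fun C => ?_
  rw [if_neg (h _ (isGen_genericPoint C))]

/-- Modularity of the weight. -/
theorem wt_modular [NoetherianSpace X] (d : irreducibleComponents (X : Type u) → ℤ) {A B U W : Set X}
    (hU : ∀ ξ, IsGen ξ → (ξ ∈ U ↔ ξ ∈ A ∨ ξ ∈ B)) (hW : ∀ ξ, IsGen ξ → (ξ ∈ W ↔ ξ ∈ A ∧ ξ ∈ B)) :
    wt d U + wt d W = wt d A + wt d B := by
  classical
  have hfin : Finite (irreducibleComponents (X : Type u)) :=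
    TopologicalSpace.NoetherianSpace.finite_irreducibleComponents
  unfold wt
  rw [← finsum_add_distrib (Set.toFinite _) (Set.toFinite _),
    ← finsum_add_distrib (Set.toFinite _) (Set.toFinite _)]
  refine finsum_congr fun C => ?_
  have h1 := hU _ (isGen_genericPoint C)
  have h2 := hW _ (isGen_genericPoint C)
  by_cases hA : C.2.1.genericPoint ∈ A
  · by_cases hB : C.2.1.genericPoint ∈ B
    · rw [if_pos hA, if_pos hB, if_pos (h1.mpr (Or.inl hA)), if_pos (h2.mpr ⟨hA, hB⟩)]
    · rw [if_pos hA, if_neg hB, if_pos (h1.mpr (Or.inl hA)), if_neg (fun h => hB (h2.mp h).2)]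
  · by_cases hB : C.2.1.genericPoint ∈ B
    · rw [if_neg hA, if_pos hB, if_pos (h1.mpr (Or.inr hB)), if_neg (fun h => hA (h2.mp h).1), add_comm]
    · rw [if_neg hA, if_neg hB, if_neg (fun h => (h1.mp h).elim hA hB), if_neg (fun h => hA (h2.mp h).1)]

/-- The length of the stalk of `j_* O_T` at the generic point of a component. -/
theorem len_push {T : Scheme.{u}} (j : T ⟶ X) [IsClosedImmersion j] [IsReduced T]
    (C : irreducibleComponents (X : Type u)) :
    len ((Coh.push j).obj (Coh.structureModule T)) C =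
      open Classical in if C.2.1.genericPoint ∈ Set.range j then 1 else 0 := by
  classical
  by_cases h : C.2.1.genericPoint ∈ Set.range j
  · rw [if_pos h]
    obtain ⟨ζ, hζ⟩ := h
    have hg : IsGen ζ := SubClosed.isGen_of_isGen_map j ζ (by rw [hζ]; exact isGen_genericPoint C)
    unfold len
    rw [← hζ]
    have h1 := CycB.DivNat.length_eq_of_semilinear (j.stalkMap ζ).hom
      (j.stalkMap_surjective ζ)
      (CycB.PushStalk.pushStalk j (Coh.structureModule T) ζ)
      (CycB.PushStalk.pushStalk_bijective j j.isClosedEmbedding.isInducing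
        (Coh.structureModule T) ζ)
    have h2 := (CycB.PushStalk.unitStalk T ζ).length_eq
    have h3 : Module.length (T.presheaf.stalk ζ) (T.presheaf.stalk ζ) = 1 := by
      rw [Module.length_eq_one_iff]
      let := (isField_stalk ζ hg).toField
      exact inferInstanceAs (IsSimpleModule (T.presheaf.stalk ζ) (T.presheaf.stalk ζ))
    change ((Module.length _ (((Scheme.Modules.pushforward j).obj
      (Coh.structureModule T)).presheaf.stalk (j ζ))).toNat : ℤ) = 1
    rw [h1, ← h2, h3]
    rfl
  · rw [if_neg h]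
    exact len_eq_zero _ _ (subsingleton_push_of_notMem j _ h)

section

variable (k : Type u) [Field k] [X.Over (Spec (CommRingCat.of k))]
  [IsProper (X ↘ (Spec (CommRingCat.of k)))] [IsNoetherian X]

/-- The degree of the restriction to a reduced closed subscheme. -/
theorem deg_pullback (hpure : ∀ C ∈ irreducibleComponents (X : Type u), topologicalKrullDim C = 1)
    {T : Scheme.{u}} [T.Over (Spec (CommRingCat.of k))] (j : T ⟶ X) [IsClosedImmersion j]
    [IsReduced T] (hj : j ≫ X ↘ Spec (CommRingCat.of k) = T ↘ Spec (CommRingCat.of k))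
    (E : X.Modules) (r : ℕ) (hE : FlatMod.IsFinLocFreeOfRank r E) :
    Curv2.deg k T ((Scheme.Modules.pullback j).obj E) r = wt (S1641.degC k X r E) (Set.range j) := by
  classical
  have hEb := TensCoh.HasBases.of_isFinLocFreeOfRank hE
  have hT : IsProper (T ↘ (Spec (CommRingCat.of k))) := by rw [← hj]; infer_instance
  have hTn : IsNoetherian T := isNoetherian k T
  have hcoh : Coh.IsCoh ((Coh.push j).obj (Coh.structureModule T)) :=
    isCoh_push j (CurvesB.UnitCoh.isCoh_structureModule T)
  rw [← DegPhi.phi_push k j hj hEb, S1641.phi_eq_mult k X (dim_le_one hpure) r E hE _ hcoh]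
  unfold mult wt
  refine finsum_congr fun C => ?_
  rw [if_pos (hpure C.1 C.2), len_push]
  split_ifs
  · rw [one_mul]
  · rw [zero_mul]

theorem deg_eq_wt [IsReduced X]
    (hpure : ∀ C ∈ irreducibleComponents (X : Type u), topologicalKrullDim C = 1)
    (E : X.Modules) (r : ℕ) (hE : FlatMod.IsFinLocFreeOfRank r E) :
    Curv2.deg k X E r = wt (S1641.degC k X r E) Set.univ := by
  classical
  rw [← DegPhi.phi_unit k X, S1641.phi_eq_mult k X (dim_le_one hpure) r E hE _
    (CurvesB.UnitCoh.isCoh_structureModule X), mult_unit]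
  unfold wt
  refine finsum_congr fun C => ?_
  rw [if_pos (hpure C.1 C.2), if_pos (Set.mem_univ _)]
  have h3 : Module.length (X.presheaf.stalk C.2.1.genericPoint)
      (X.presheaf.stalk C.2.1.genericPoint) = 1 := by
    rw [Module.length_eq_one_iff]
    let := (isField_stalk _ (isGen_genericPoint C)).toField
    exact inferInstanceAs (IsSimpleModule (X.presheaf.stalk C.2.1.genericPoint)
      (X.presheaf.stalk C.2.1.genericPoint))
  rw [h3]
  exact one_mul _

theorem rBeta_eq (hpure : ∀ C ∈ irreducibleComponents (X : Type u), topologicalKrullDim C = 1)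
    (E : X.Modules) (r : ℕ) (hE : FlatMod.IsFinLocFreeOfRank r E) (Z : Set X) (hZ : IsClosed Z)
    (G : X.Modules) :
    TFOne.rBeta X k (X ↘ (Spec (CommRingCat.of k))) Z hZ E r G =
      r * Curv2.euler k X G + wt (S1641.degC k X r E) Z := by
  let : (VecSt.subsch X Z hZ).Over (Spec (CommRingCat.of k)) :=
    ⟨VecSt.subschι X Z hZ ≫ (X ↘ Spec (CommRingCat.of k))⟩
  have h := deg_pullback k hpure (VecSt.subschι X Z hZ) rfl E r hE
  rw [range_subschι] at h
  rw [← h]
  rfl

end

end K975.Beta
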