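import Mathlib.AlgebraicGeometry.Geometrically.Integral
import Mathlib.AlgebraicGeometry.FunctionField
import Mathlib.FieldTheory.IntermediateField.Adjoin.Basic
import Mathlib.RingTheory.Ideal.GoingUp
import Mathlib.LinearAlgebra.Dual.Lemmas

/-!
# The base field is algebraically closed in the function field of a geometrically integral scheme
-/

set_option autoImplicit false
universe u
open CategoryTheory Limits AlgebraicGeometry TensorProduct

namespace K975.GeoInt

section Algebra

variable {k B κ : Type u} [Field k] [CommRing B] [IsDomain B] [Field κ] [Algebra k B] [Algebra B κ]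
  [Algebra k κ] [IsScalarTower k B κ] [IsFractionRing B κ]

theorem mem_range_of_tmul_eq {K : Type u} [Field K] [Algebra k K] {s b : B} {a : K}
    (h : s ⊗ₜ[k] a = b ⊗ₜ[k] (1 : K)) (hs : s ≠ 0) : a ∈ (algebraMap k K).range := by
  by_contra hn
  have h1 : a ∉ Submodule.span k {(1 : K)} := by
    intro h2
    obtain ⟨c, hc⟩ := Submodule.mem_span_singleton.mp h2
    exact hn ⟨c, by rw [← hc, Algebra.smul_def, mul_one]⟩
  obtain ⟨ℓ, h2, h3⟩ := Submodule.exists_dual_map_eq_bot_of_notMem h1 inferInstance
  have h4 : ℓ 1 = 0 := by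
    have : ℓ 1 ∈ (Submodule.span k {(1 : K)}).map ℓ := ⟨1, Submodule.mem_span_singleton_self 1, rfl⟩
    rw [h3] at this
    exact this
  have h5 := congrArg (fun x => TensorProduct.rid k B (LinearMap.lTensor B ℓ x)) h
  simp only [LinearMap.lTensor_tmul, TensorProduct.rid_tmul, h4, zero_smul] at h5
  rcases smul_eq_zero.mp h5 with h6 | h6
  · exact h2 h6
  · exact hs h6

theorem mem_range_of_embedding {K : Type u} [Field K] [Algebra k K] [FiniteDimensional k K]
    (ι : K →ₐ[k] κ) [IsDomain (B ⊗[k] K)] (aK : K) : aK ∈ (algebraMap k K).range := by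
  let χ : B ⊗[k] K →ₐ[B] κ := Algebra.TensorProduct.lift (Algebra.ofId B κ) ι
    (fun x y => Commute.all _ _)
  have hχt : ∀ (x : B) (y : K), χ (x ⊗ₜ y) = algebraMap B κ x * ι y := fun x y => by
    simp only [χ, Algebra.TensorProduct.lift_tmul, Algebra.ofId_apply]
  have hχ : Function.Injective χ := by
    have h1 : (RingHom.ker χ).comap (algebraMap B (B ⊗[k] K)) = ⊥ := by
      rw [eq_bot_iff]
      intro x hx
      rw [Ideal.mem_comap, RingHom.mem_ker, AlgHom.commutes] at hx
      exact (IsFractionRing.injective B κ) (hx.trans (map_zero _).symm)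
    have h2 : RingHom.ker χ = ⊥ := Ideal.eq_bot_of_comap_eq_bot h1
    exact (RingHom.injective_iff_ker_eq_bot _).mpr h2
  obtain ⟨b, s, hs, hbs⟩ := IsFractionRing.div_surjective (A := B) (ι aK)
  have hs0 : s ≠ 0 := nonZeroDivisors.ne_zero hs
  have hs1 : algebraMap B κ s ≠ 0 := fun h => hs0 ((IsFractionRing.injective B κ) (h.trans (map_zero _).symm))
  have h3 : s ⊗ₜ[k] aK = b ⊗ₜ[k] (1 : K) := by
    apply hχ
    rw [hχt, hχt, map_one, mul_one, ← hbs, mul_div_cancel₀ _ hs1]
  exact mem_range_of_tmul_eq h3 hs0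

/-- If `B ⊗ K` is a domain for all field extensions `K` of `k` then `k` is algebraically closed in the fraction
field of `B`. -/
theorem mem_range_of_isDomain (hB : ∀ (K : Type u) [Field K] [Algebra k K], IsDomain (B ⊗[k] K)) {a : κ}
    (ha : IsAlgebraic k a) : a ∈ (algebraMap k κ).range := by
  have hK : FiniteDimensional k (IntermediateField.adjoin k {a}) :=
    IntermediateField.adjoin.finiteDimensional ha.isIntegral
  have hD := hB (IntermediateField.adjoin k {a})
  obtain ⟨c, hc⟩ := mem_range_of_embedding (B := B) (IntermediateField.adjoin k {a}).val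
    (IntermediateField.AdjoinSimple.gen k a)
  refine ⟨c, ?_⟩
  have := congrArg (IntermediateField.adjoin k {a}).val hc
  rw [AlgHom.commutes] at this
  exact this

end Algebra

variable {k : Type u} [Field k] {C : Scheme.{u}} [IsIntegral C] (q : C ⟶ Spec (CommRingCat.of k))

theorem isDomain_of_spec {B : CommRingCat.{u}} (j : Spec B ⟶ C) [IsOpenImmersion j] [GeometricallyIntegral q]
    [Nontrivial B] [Algebra k B] (h : j ≫ q = Spec.map (CommRingCat.ofHom (algebraMap k B)))
    (K : Type u) [Field K] [Algebra k K] : IsDomain (B ⊗[k] K) := by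
  let g := Spec.map (CommRingCat.ofHom (algebraMap k K))
  have h1 : IsIntegral (pullback q g) :=
    GeometricallyIntegral.geometrically_isIntegral _ _ _ (.of_hasPullback _ _)
  let e : pullback j (pullback.fst q g) ≅ Spec (CommRingCat.of (B ⊗[k] K)) :=
    pullbackRightPullbackFstIso q g j ≪≫ pullback.congrHom h rfl ≪≫ pullbackSpecIso k B K
  have hnt : Nontrivial (B ⊗[k] K) := inferInstance
  have h2 : IsIntegral (Spec (CommRingCat.of (B ⊗[k] K))) :=
    isIntegral_of_isOpenImmersion (e.inv ≫ pullback.snd j (pullback.fst q g))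
  exact (affine_isIntegral_iff (CommRingCat.of (B ⊗[k] K))).mp h2

/-- The map from the base field to the function field. -/
theorem mem_range_functionField [GeometricallyIntegral q] (φ : k →+* C.functionField)
    (hφ : C.fromSpecStalk (genericPoint C) ≫ q = Spec.map (CommRingCat.ofHom φ)) (a : C.functionField)
    (ha : ∃ p : Polynomial k, p ≠ 0 ∧ p.eval₂ φ a = 0) : ∃ c, φ c = a := by
  obtain ⟨_, ⟨W, hW, rfl⟩, hgW, -⟩ :=
    C.isBasis_affineOpens.exists_subset_of_mem_open (Set.mem_univ (genericPoint C)) isOpen_univ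
  have hne : Nonempty W := ⟨⟨_, hgW⟩⟩
  have hoi : IsOpenImmersion hW.fromSpec := hW.isOpenImmersion_fromSpec
  let ρ := Spec.preimage (hW.fromSpec ≫ q)
  let := ρ.hom.toAlgebra
  let := φ.toAlgebra
  have hfr : IsFractionRing Γ(C, W) C.functionField := functionField_isFractionRing_of_isAffineOpen C W hW
  have hρ : hW.fromSpec ≫ q = Spec.map (CommRingCat.ofHom (algebraMap k Γ(C, W))) :=
    (Spec.map_preimage _).symm
  have htower : IsScalarTower k Γ(C, W) C.functionField := by
    refine IsScalarTower.of_algebraMap_eq' ?_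
    have h1 : C.fromSpecStalk (genericPoint C) = Spec.map (C.presheaf.germ W _ hgW) ≫ hW.fromSpec :=
      (hW.fromSpecStalk_eq_fromSpecStalk hgW).symm.trans rfl
    rw [h1, Category.assoc, hρ, ← Spec.map_comp] at hφ
    have h2 := Spec.map_injective hφ
    exact (congrArg CommRingCat.Hom.hom h2).symm
  obtain ⟨p, hp, hpa⟩ := ha
  exact mem_range_of_isDomain (B := Γ(C, W)) (fun K _ _ => isDomain_of_spec q hW.fromSpec hρ K)
    ⟨p, hp, hpa⟩

end K975.GeoInt
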