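import Groth.Agent.TFOne.K975.Euler

/-!
# Torsion-free quotients of an elementary modification

`F` is a torsion-free module with simple generic stalks, `π : F ⟶ G` a torsion-free quotient on `Y` and
`0 ⟶ G ⟶ N ⟶ ker π ⟶ 0` an extension.
-/

set_option autoImplicit false
universe u
open CategoryTheory CategoryTheory.Limits AlgebraicGeometry TopologicalSpace Opposite

namespace K975.ModQ

open Groth.Agent Groth.Agent.CycB.StalkExact Groth.Agent.VarietyA.StalkCrit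
open Groth.Agent.CurvesB Groth.Agent.CurvesB.SubH1 Groth.Agent.CurvesB.GenStalk
open Groth.Agent.CurvesB.SubLemma Groth.Agent.CycB K975.Gen K975.Quot K975.Euler

variable {X : Scheme.{u}}

theorem genSimple_of_equiv {F N : X.Modules} (hF : GenSimple F)
    (e : ∀ ξ : X, IsGen ξ → Nonempty (N.presheaf.stalk ξ ≃ₗ[X.presheaf.stalk ξ] F.presheaf.stalk ξ)) :
    GenSimple N := by
  intro ξ hξ W
  obtain ⟨e⟩ := e ξ hξ
  rcases hF ξ hξ (W.map e.toLinearMap) with h | h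
  · exact Or.inl ((Submodule.map_eq_bot_iff (e := e)).mp h)
  · exact Or.inr ((Submodule.map_eq_top_iff (e := e)).mp h)

/-- An extension of torsion-free modules. -/
theorem tf_of_ses {A B C : X.Modules} {f : A ⟶ B} {g : B ⟶ C} {w : f ≫ g = 0}
    (hex : (ShortComplex.mk f g w).ShortExact) (hA : TF A) (hC : TF C) : TF B := by
  have hf : Mono f := hex.mono_f
  intro x m hm
  have h1 : stalkLin g x m = 0 := by
    refine hC x _ fun ξ h hg => ?_
    rw [stalkSpecializes_stalkLin, hm ξ h hg, map_zero]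
  obtain ⟨a, rfl⟩ := (stalkLin_exact _ hex.exact x m).mp h1
  have h2 : a = 0 := by
    refine hA x _ fun ξ h hg => ?_
    apply stalkLin_injective f ξ
    rw [map_zero, ← stalkSpecializes_stalkLin]
    exact hm ξ h hg
  rw [h2, map_zero]

section

variable {F N G : X.Modules} {Y : Set X} {π : F ⟶ G} {α : G ⟶ N} {β : N ⟶ kernel π}
  {w : α ≫ β = 0} (hG : IsQ F Y G π) (hF : GenSimple F) (hT : TF F)
  (hex : (ShortComplex.mk α β w).ShortExact)

include hG hF hex in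
/-- The generic stalks of `N` and `F` are isomorphic. -/
theorem equiv_stalk (ξ : X) (hξ : IsGen ξ) :
    Nonempty (N.presheaf.stalk ξ ≃ₗ[X.presheaf.stalk ξ] F.presheaf.stalk ξ) := by
  have hα : Mono α := hex.mono_f
  have hβ : Epi β := hex.epi_g
  have hπ := hG.epi
  by_cases hY : ξ ∈ Y
  · have h1 := hG.bijective hF hξ hY
    have h2 : Function.Bijective (stalkLin α ξ) := by
      refine ⟨stalkLin_injective α ξ, fun n => ?_⟩
      have hs : Subsingleton ((kernel π).presheaf.stalk ξ) :=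
        (subsingleton_kernel_stalk_iff π ξ).mpr h1.1
      exact (stalkLin_exact _ hex.exact ξ n).mp (Subsingleton.elim _ _)
    exact ⟨(LinearEquiv.ofBijective _ h2).symm.trans (LinearEquiv.ofBijective _ h1).symm⟩
  · have hs := hG.subsingleton hξ hY
    have h1 : Function.Bijective (stalkLin β ξ) := by
      refine ⟨?_, stalkLin_surjective β ξ⟩
      rw [injective_iff_map_eq_zero]
      intro n hn
      obtain ⟨g, rfl⟩ := (stalkLin_exact _ hex.exact ξ n).mp hn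
      change stalkLin α ξ g = 0
      rw [Subsingleton.elim g 0, map_zero]
    have h2 : Function.Bijective (stalkLin (kernel.ι π) ξ) := by
      refine ⟨stalkLin_injective _ ξ, fun n => ?_⟩
      exact (stalkLin_exact (ShortComplex.mk (kernel.ι π) π (kernel.condition π))
        (ShortComplex.exact_of_f_is_kernel _ (kernelIsKernel _)) ξ n).mp (Subsingleton.elim _ _)
    exact ⟨(LinearEquiv.ofBijective _ h1).trans (LinearEquiv.ofBijective _ h2)⟩

include hG hT hex in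
theorem tf_N : TF N := tf_of_ses hex hG.tf (TF.of_mono (kernel.ι π) hT)

include hG hF hex in
theorem genSimple_N : GenSimple N := genSimple_of_equiv hF (equiv_stalk hG hF hex)

include hG hF hex in
theorem isRkOne_N (h : TFOne.IsRkOne X F) : TFOne.IsRkOne X N := by
  intro ξ hξ
  obtain ⟨e⟩ := h ξ hξ
  obtain ⟨e'⟩ := equiv_stalk hG hF hex ξ ((mem_genericPoints_iff ξ).mp hξ)
  exact ⟨e'.trans e⟩

include hG hF hex in
theorem nontrivial_N (h : ∀ ξ, IsGen ξ → ¬ Subsingleton (F.presheaf.stalk ξ)) (ξ : X) (hξ : IsGen ξ) :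
    ¬ Subsingleton (N.presheaf.stalk ξ) := by
  obtain ⟨e⟩ := equiv_stalk hG hF hex ξ hξ
  exact fun hs => h ξ hξ (e.symm.toEquiv.subsingleton)

include hG hF hT in
/-- The kernel of `π` is the torsion-free quotient of `N` on the complement of `Y`. -/
theorem isQ_kernel_π [IsLocallyNoetherian X] (hFc : Coh.IsCoh F)
    (hn : ∀ ξ, IsGen ξ → ¬ Subsingleton (F.presheaf.stalk ξ)) :
    IsQ (kernel π) {ξ | ξ ∉ Y} (kernel π) (𝟙 _) where
  epi := inferInstance
  coh := Sga67.CohBasic.isCoh_kernel π hFc hG.coh.1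
  tf := TF.of_mono (kernel.ι π) hT
  gs ξ hξ := by
    rw [subsingleton_kernel_stalk_iff]
    constructor
    · exact fun h hY => h (hG.injective hF hξ hY)
    · intro hY h
      have := hG.subsingleton hξ hY
      exact hn ξ hξ h.subsingleton

include hG hF hT hex in
theorem isQ_β [IsLocallyNoetherian X] (hFc : Coh.IsCoh F)
    (hn : ∀ ξ, IsGen ξ → ¬ Subsingleton (F.presheaf.stalk ξ)) :
    IsQ N {ξ | ξ ∉ Y} (kernel π) β := by
  have hβ : Epi β := hex.epi_g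
  have h := (isQ_kernel_π hG hF hT hFc hn).comp (S := ∅) (π := β)
  rwa [Category.comp_id] at h

section Euler

variable (k : Type u) [Field k] [X.Over (Spec (CommRingCat.of k))]
  [IsProper (X ↘ (Spec (CommRingCat.of k)))] (hFc : Coh.IsCoh F) (hNc : Coh.IsCoh N)

include hG hex hFc hNc in
theorem euler_N : Curv2.euler k X N = Curv2.euler k X G + Curv2.euler k X (kernel π) :=
  have := isNoetherian k X
  euler_ses k (S := ShortComplex.mk α β w) hex hG.coh hNc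
    (Sga67.CohBasic.isCoh_kernel π hFc hG.coh.1)

include hG hex hFc hNc in
theorem euler_N' : Curv2.euler k X N = Curv2.euler k X F := by
  have := hG.epi
  rw [euler_N hG hex k hFc hNc, euler_kernel k hFc hG.coh π, add_comm]

variable {FU FW NZ NV : X.Modules} {U W Z V : Set X} {πU : F ⟶ FU} {πW : F ⟶ FW} {νZ : N ⟶ NZ}
  {νV : N ⟶ NV} (hU : IsQ F U FU πU) (hW : IsQ F W FW πW) (hZ : IsQ N Z NZ νZ) (hV : IsQ N V NV νV)
  (eU : ∀ ξ, IsGen ξ → (ξ ∈ U ↔ ξ ∈ Y ∨ ξ ∈ Z)) (eW : ∀ ξ, IsGen ξ → (ξ ∈ W ↔ ξ ∈ Y ∧ ξ ∈ Z))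
  (eV : ∀ ξ, IsGen ξ → (ξ ∈ V ↔ ξ ∈ Z ∧ ξ ∉ Y))

include hG hF hex hU hV eU eV in
theorem euler_U : Curv2.euler k X FU = Curv2.euler k X NV + Curv2.euler k X G := by
  have := isNoetherian k X
  obtain ⟨a, ha⟩ := hU.exists_map hF hG fun ξ hξ h => (eU ξ hξ).mpr (Or.inl h)
  have := hU.epi
  have hGe := hG.epi
  have hae : Epi a := by rw [← ha] at hGe; exact epi_of_epi πU a
  have hβ : Epi β := hex.epi_g
  have h1 := (isQ_kernel hF hU hG ha).comp (S := ∅) (π := β)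
  have h2 := euler_eq_of_isQ k (genSimple_N hG hF hex) h1 hV (S := {ξ | ξ ∈ U ∧ ξ ∉ Y}) (S' := V)
    fun ξ hξ => by
      rw [Set.mem_ofPred_eq, eU ξ hξ, eV ξ hξ]
      tauto
  rw [euler_kernel k hU.coh hG.coh a, h2]

/-- The data of the comparison map. -/
theorem exists_comparison [IsLocallyNoetherian X] (hG : IsQ F Y G π) (hF : GenSimple F) 
    (hex : (ShortComplex.mk α β w).ShortExact) (hU : IsQ F U FU πU) (hW : IsQ F W FW πW)
    (hZ : IsQ N Z NZ νZ)
    (eU : ∀ ξ, IsGen ξ → (ξ ∈ U ↔ ξ ∈ Y ∨ ξ ∈ Z)) (eW : ∀ ξ, IsGen ξ → (ξ ∈ W ↔ ξ ∈ Y ∧ ξ ∈ Z))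
    (a : FU ⟶ G) (ha : πU ≫ a = π) :
    ∃ (c : NZ ⟶ kernel a) (b : G ⟶ FW) (γ : G ⟶ kernel c) (δ : FW ⟶ kernel c),
      νZ ≫ c = β ≫ kernelπ πU π a ha ∧ π ≫ b = πW ∧ γ ≫ kernel.ι c = α ≫ νZ ∧ b ≫ δ = γ ∧ Mono δ ∧
      Epi c ∧ Epi b ∧ TF (kernel c) ∧ GenSimple (kernel c) ∧
      ∀ ξ, IsGen ξ → (¬ Subsingleton ((kernel c).presheaf.stalk ξ) ↔ ξ ∈ W) := by
  have := hU.epi
  have hGe := hG.epi
  have hWe := hW.epi
  have hZe := hZ.epi
  have hβ : Epi β := hex.epi_g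
  have hα : Mono α := hex.mono_f
  have hN := genSimple_N hG hF hex
  have hQ := (isQ_kernel hF hU hG ha).comp (S := ∅) (π := β)
  obtain ⟨c, hc⟩ := hZ.exists_map hN hQ fun ξ hξ h => by
    rcases (eU ξ hξ).mp h.1 with h1 | h1
    · exact absurd h1 h.2
    · exact h1
  have hce : Epi c := by
    have := hQ.epi
    rw [← hc] at this
    exact epi_of_epi νZ c
  obtain ⟨b, hb⟩ := hG.exists_map hF hW fun ξ hξ h => ((eW ξ hξ).mp h).1
  have hbe : Epi b := by rw [← hb] at hWe; exact epi_of_epi π b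
  have hz : (α ≫ νZ) ≫ c = 0 := by
    rw [Category.assoc, hc, ← Category.assoc, w, zero_comp]
  let γ : G ⟶ kernel c := kernel.lift c (α ≫ νZ) hz
  have hγ : γ ≫ kernel.ι c = α ≫ νZ := kernel.lift_ι _ _ _
  have hR : TF (kernel c) := TF.of_mono (kernel.ι c) hZ.tf
  have hRs : GenSimple (kernel c) := genSimple_of_mono (kernel.ι c) (hN.of_epi νZ)
  have hgs : ∀ ξ, IsGen ξ → (¬ Subsingleton ((kernel c).presheaf.stalk ξ) ↔ ξ ∈ W) := by
    intro ξ hξ
    rw [kernel_gs hN hZ hQ hc hξ, Set.mem_ofPred_eq, eW ξ hξ, eU ξ hξ]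
    tauto
  obtain ⟨δ, hδ⟩ := Quot.exists_desc b γ hR fun ξ hξ hn =>
    injective_of_comp hF hG hW hb hξ ((hgs ξ hξ).mp hn)
  refine ⟨c, b, γ, δ, hc, hb, hγ, hδ, ?_, hce, hbe, hR, hRs, hgs⟩
  refine hW.tf.mono _ fun ξ hξ => ?_
  by_cases hξW : ξ ∈ W
  · have h1 : Function.Injective (stalkLin γ ξ) := by
      have h2 : Function.Injective (stalkLin (α ≫ νZ) ξ) := by
        rw [stalkLin_comp]
        exact (hZ.injective hN hξ ((eW ξ hξ).mp hξW).2).comp (stalkLin_injective α ξ)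
      rw [← hγ, stalkLin_comp] at h2
      exact Function.Injective.of_comp (f := stalkLin (kernel.ι c) ξ) (by simpa using h2)
    rw [injective_iff_map_eq_zero]
    intro t ht
    obtain ⟨s, rfl⟩ := stalkLin_surjective b ξ t
    rw [← LinearMap.comp_apply, ← stalkLin_comp, hδ] at ht
    rw [h1 (ht.trans (map_zero _).symm), map_zero]
  · have := hW.subsingleton hξ hξW
    exact Function.injective_of_subsingleton _

include hG hF hex hU hW hZ eU eW in
/-- The inequality. -/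
theorem euler_le (hdim : topologicalKrullDim X ≤ 1) :
    Curv2.euler k X FW + Curv2.euler k X FU ≤ Curv2.euler k X NZ + Curv2.euler k X G := by
  have := isNoetherian k X
  obtain ⟨a, ha⟩ := hU.exists_map hF hG fun ξ hξ h => (eU ξ hξ).mpr (Or.inl h)
  have := hU.epi
  have hGe := hG.epi
  have hae : Epi a := by rw [← ha] at hGe; exact epi_of_epi πU a
  obtain ⟨c, b, γ, δ, hc, hb, hγ, hδ, hδm, hce, hbe, hR, hRs, hgs⟩ :=
    exists_comparison hG hF hex hU hW hZ eU eW a ha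
  have hQc : Coh.IsCoh (kernel a) := Sga67.CohBasic.isCoh_kernel a hU.coh hG.coh.1
  have hRc : Coh.IsCoh (kernel c) := Sga67.CohBasic.isCoh_kernel c hZ.coh hQc.1
  have hle : Curv2.euler k X FW ≤ Curv2.euler k X (kernel c) :=
    euler_le_of_mono k hdim hW.coh hRc δ fun ξ hξ =>
      surjective_of_mono hRs δ hξ fun hn => hW.nontrivial hξ ((hgs ξ hξ).mp hn)
  rw [euler_kernel k hU.coh hG.coh a, euler_kernel k hZ.coh hQc c]
  omega

include hG hF hT hex hFc hW hZ hV eW eV in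
/-- The case `Z ⊇ X ∖ Y`. -/
theorem euler_eq_of_compl (hn : ∀ ξ, IsGen ξ → ¬ Subsingleton (F.presheaf.stalk ξ))
    (hZY : ∀ ξ, IsGen ξ → ξ ∉ Y → ξ ∈ Z) :
    Curv2.euler k X NZ = Curv2.euler k X FW + Curv2.euler k X NV := by
  have := isNoetherian k X
  have hGe := hG.epi
  have hZe := hZ.epi
  have hβ : Epi β := hex.epi_g
  have hN := genSimple_N hG hF hex
  have hU : IsQ F Set.univ F (𝟙 F) := ⟨inferInstance, hFc, hT, fun ξ hξ => by simpa using hn ξ hξ⟩
  have eU : ∀ ξ, IsGen ξ → (ξ ∈ Set.univ ↔ ξ ∈ Y ∨ ξ ∈ Z) := fun ξ hξ => by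
    simp only [Set.mem_univ, true_iff]
    by_cases h : ξ ∈ Y
    · exact Or.inl h
    · exact Or.inr (hZY ξ hξ h)
  obtain ⟨c, b, γ, δ, hc, hb, hγ, hδ, hδm, hce, hbe, hR, hRs, hgs⟩ :=
    exists_comparison hG hF hex hU hW hZ eU eW π (Category.id_comp π)
  have hQc : Coh.IsCoh (kernel π) := Sga67.CohBasic.isCoh_kernel π hFc hG.coh.1
  have hRc : Coh.IsCoh (kernel c) := Sga67.CohBasic.isCoh_kernel c hZ.coh hQc.1
  have hκ : kernelπ (𝟙 F) π π (Category.id_comp π) = 𝟙 _ := by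
    rw [← cancel_mono (kernel.ι π), kernelπ_ι, Category.comp_id, Category.id_comp]
  rw [hκ, Category.comp_id] at hc
  have hγe : Epi γ := by
    refine epi_of_stalks _ fun x => ?_
    intro r
    obtain ⟨n, hn⟩ := stalkLin_surjective νZ x (stalkLin (kernel.ι c) x r)
    have h1 : stalkLin β x n = 0 := by
      rw [← hc, stalkLin_comp, LinearMap.comp_apply, hn, ← LinearMap.comp_apply, ← stalkLin_comp,
        kernel.condition]
      exact PairLemma.stalkLin_zero' _ _ _ _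
    obtain ⟨g, hg⟩ := (stalkLin_exact _ hex.exact x n).mp h1
    refine ⟨g, stalkLin_injective (kernel.ι c) x ?_⟩
    rw [← hn, ← hg, ← LinearMap.comp_apply, ← stalkLin_comp, hγ, stalkLin_comp]
    rfl
  have hγQ : IsQ G W (kernel c) γ := ⟨hγe, hRc, hR, hgs⟩
  have hbQ : IsQ G W FW b := IsQ.of_comp (π := π) (by rw [hb]; exact hW)
  have h1 := euler_eq_of_isQ k (hF.of_epi π) hγQ hbQ (fun ξ _ => Iff.rfl)
  have h2 := euler_eq_of_isQ k hN (isQ_β hG hF hT hex hFc hn) hV (S := {ξ | ξ ∉ Y}) (S' := V)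
    fun ξ hξ => by
      rw [Set.mem_ofPred_eq, eV ξ hξ]
      exact ⟨fun h => ⟨hZY ξ hξ h, h⟩, fun h => h.2⟩
  rw [euler_kernel k hZ.coh hQc c, h1, h2]

end Euler

end

/-! ### Decomposition -/

section Decomp

variable (k : Type u) [Field k] [X.Over (Spec (CommRingCat.of k))]
  [IsProper (X ↘ (Spec (CommRingCat.of k)))]

theorem stalkLin_inl_fst {A B : X.Modules} (x : X) (t : (A ⊞ B).presheaf.stalk x) :
    t = stalkLin (biprod.inl : A ⟶ A ⊞ B) x (stalkLin (biprod.fst : A ⊞ B ⟶ A) x t) +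
      stalkLin (biprod.inr : B ⟶ A ⊞ B) x (stalkLin (biprod.snd : A ⊞ B ⟶ B) x t) := by
  have h : (biprod.fst : A ⊞ B ⟶ A) ≫ biprod.inl + (biprod.snd : A ⊞ B ⟶ B) ≫ biprod.inr = 𝟙 _ :=
    biprod.total
  have h2 : stalkLin ((biprod.fst : A ⊞ B ⟶ A) ≫ biprod.inl +
      (biprod.snd : A ⊞ B ⟶ B) ≫ biprod.inr) x t = stalkLin (𝟙 (A ⊞ B)) x t := by rw [h]
  rw [PairLemma.stalkLin_add, stalkLin_comp, stalkLin_comp] at h2
  exact (h2.trans (by rw [stalkLin_id]; rfl)).symm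

theorem mono_lift {N G₁ G₂ : X.Modules} {S₁ S₂ : Set X} {π₁ : N ⟶ G₁} {π₂ : N ⟶ G₂}
    (hN : GenSimple N) (hT : TF N) (h₁ : IsQ N S₁ G₁ π₁) (h₂ : IsQ N S₂ G₂ π₂)
    (hS : ∀ ξ, IsGen ξ → ξ ∈ S₁ ∨ ξ ∈ S₂) : Mono (biprod.lift π₁ π₂) := by
  refine hT.mono _ fun ξ hξ => ?_
  rcases hS ξ hξ with h | h
  · have h1 := h₁.injective hN hξ h
    rw [← biprod.lift_fst π₁ π₂, stalkLin_comp] at h1
    exact Function.Injective.of_comp (f := stalkLin biprod.fst ξ) (by simpa using h1)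
  · have h1 := h₂.injective hN hξ h
    rw [← biprod.lift_snd π₁ π₂, stalkLin_comp] at h1
    exact Function.Injective.of_comp (f := stalkLin biprod.snd ξ) (by simpa using h1)

theorem surjective_lift {N G₁ G₂ : X.Modules} {S₁ S₂ : Set X} {π₁ : N ⟶ G₁} {π₂ : N ⟶ G₂}
    (h₁ : IsQ N S₁ G₁ π₁) (h₂ : IsQ N S₂ G₂ π₂)
    (hS : ∀ ξ, IsGen ξ → ¬ (ξ ∈ S₁ ∧ ξ ∈ S₂)) {ξ : X} (hξ : IsGen ξ) :
    Function.Surjective (stalkLin (biprod.lift π₁ π₂) ξ) := by
  have := h₁.epi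
  have := h₂.epi
  intro y
  by_cases h : ξ ∈ S₁
  · have hs := h₂.subsingleton hξ (fun h' => hS ξ hξ ⟨h, h'⟩)
    obtain ⟨t, ht⟩ := stalkLin_surjective π₁ ξ (stalkLin biprod.fst ξ y)
    refine ⟨t, ?_⟩
    rw [stalkLin_inl_fst ξ y, stalkLin_inl_fst ξ (stalkLin (biprod.lift π₁ π₂) ξ t), ← ht,
      ← LinearMap.comp_apply (stalkLin biprod.fst ξ), ← stalkLin_comp, biprod.lift_fst]
    congr 2
    exact Subsingleton.elim _ _
  · have hs := h₁.subsingleton hξ h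
    obtain ⟨t, ht⟩ := stalkLin_surjective π₂ ξ (stalkLin biprod.snd ξ y)
    refine ⟨t, ?_⟩
    rw [stalkLin_inl_fst ξ y, stalkLin_inl_fst ξ (stalkLin (biprod.lift π₁ π₂) ξ t), ← ht,
      ← LinearMap.comp_apply (stalkLin biprod.snd ξ), ← stalkLin_comp, biprod.lift_snd]
    congr 2
    exact Subsingleton.elim _ _

theorem euler_biprod {A B : X.Modules} (hA : Coh.IsCoh A) (hB : Coh.IsCoh B) :
    Curv2.euler k X (A ⊞ B) = Curv2.euler k X A + Curv2.euler k X B := by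
  have := isNoetherian k X
  have hs : (ShortComplex.mk (biprod.inl : A ⟶ A ⊞ B) (biprod.snd : A ⊞ B ⟶ B) (by simp)).Splitting :=
    { r := biprod.fst
      s := biprod.inr }
  exact euler_ses k (S := ShortComplex.mk (biprod.inl : A ⟶ A ⊞ B) (biprod.snd : A ⊞ B ⟶ B) (by simp))
    hs.shortExact hA (Sga67.CohBasic.isCoh_biprod hA hB) hB

/-- `N` decomposes iff the Euler characteristics add up. -/
theorem isIso_lift_iff (hdim : topologicalKrullDim X ≤ 1) {N G₁ G₂ : X.Modules} {S₁ S₂ : Set X}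
    {π₁ : N ⟶ G₁} {π₂ : N ⟶ G₂} (hNc : Coh.IsCoh N)
    (hN : GenSimple N) (hT : TF N) (h₁ : IsQ N S₁ G₁ π₁) (h₂ : IsQ N S₂ G₂ π₂)
    (hS : ∀ ξ, IsGen ξ → ξ ∈ S₁ ∨ ξ ∈ S₂) (hS' : ∀ ξ, IsGen ξ → ¬ (ξ ∈ S₁ ∧ ξ ∈ S₂)) :
    IsIso (biprod.lift π₁ π₂) ↔ Curv2.euler k X N = Curv2.euler k X G₁ + Curv2.euler k X G₂ := by
  have := isNoetherian k X
  rw [← euler_biprod k h₁.coh h₂.coh]
  constructor
  · intro h
    exact euler_congr k (asIso (biprod.lift π₁ π₂))
  · intro h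
    have := mono_lift hN hT h₁ h₂ hS
    exact isIso_of_euler_le k hdim hNc (Sga67.CohBasic.isCoh_biprod h₁.coh h₂.coh) _
      (fun ξ hξ => surjective_lift h₁ h₂ hS' hξ) h.ge

end Decomp

end K975.ModQ
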