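import Groth.Agent.TFOne.K975.Mod
import Groth.Agent.TFOne.K975.ModQ
import Groth.Agent.TFOne.K975.FlatR
import Groth.Agent.TFOne.K975.Beta
import Groth.Agent.Vancyc.H878.Triv

/-!
# Elementary modifications over a discrete valuation ring
-/

set_option autoImplicit false
universe u
open CategoryTheory CategoryTheory.Limits AlgebraicGeometry TopologicalSpace Opposite

namespace K975.DVR

open Groth.Agent Groth.Agent.CycB.StalkExact Groth.Agent.VarietyA.StalkCrit
open Groth.Agent.CurvesB Groth.Agent.CurvesB.SubH1 Groth.Agent.CurvesB.GenStalk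
open Groth.Agent.CurvesB.SubLemma Groth.Agent.CycB K975.Gen K975.Quot K975.Simple K975.Sub K975.Euler
open K975.Beta

variable {R : Type u} [CommRing R] [IsDomain R] [IsDiscreteValuationRing R] {X : Scheme.{u}}
  {f : X ⟶ Spec (CommRingCat.of R)} {Xs : Scheme.{u}}
  [Xs.Over (Spec (CommRingCat.of (IsLocalRing.ResidueField R)))] {i : Xs ⟶ X}
  (hsq : IsPullback i (Xs ↘ Spec (CommRingCat.of (IsLocalRing.ResidueField R))) f
    (Spec.map (CommRingCat.ofHom (IsLocalRing.residue R))))

include hsq in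
theorem isClosedImmersion : IsClosedImmersion i :=
  have : IsClosedImmersion (Spec.map (CommRingCat.ofHom (IsLocalRing.residue R))) :=
    IsClosedImmersion.spec_of_surjective _ IsLocalRing.residue_surjective
  MorphismProperty.of_isPullback hsq.flip inferInstance

include hsq in
theorem isProper_s [IsProper f] :
    IsProper (Xs ↘ Spec (CommRingCat.of (IsLocalRing.ResidueField R))) :=
  MorphismProperty.of_isPullback hsq inferInstance

variable (f) in
theorem isNoetherian_X [IsProper f] : IsNoetherian X := by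
  have h1 : IsLocallyNoetherian X := LocallyOfFiniteType.isLocallyNoetherian f
  have h2 : CompactSpace X := QuasiCompact.compactSpace_of_compactSpace f
  exact {}

include hsq in
theorem ker_gm {ϖ : R} (hϖ : Irreducible ϖ) (y : Xs) :
    RingHom.ker (i.stalkMap y).hom = Ideal.span {Mod.gm (Coh.toGlobal f ϖ) (i y)} := by
  rw [FibK.ker_stalkMap f IsLocalRing.residue_surjective hsq y, IsLocalRing.ker_residue,
    hϖ.maximalIdeal_eq, Ideal.map_span, Set.image_singleton]
  rfl

theorem smul_inj {I : X.Modules} (hIf : FlatMod.IsFlatOver f I) {ϖ : R} (hϖ : Irreducible ϖ)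
    (x : X) (t : I.presheaf.stalk x) (h : Mod.gm (Coh.toGlobal f ϖ) x • t = 0) : t = 0 :=
  (FlatR.isFlatOver_iff f hϖ I).mp hIf x t h

/-- A submodule of a flat module is flat. -/
theorem isFlatOver_of_mono {J I : X.Modules} (ι : J ⟶ I) [Mono ι] (hIf : FlatMod.IsFlatOver f I) :
    FlatMod.IsFlatOver f J := by
  obtain ⟨ϖ, hϖ⟩ := IsDiscreteValuationRing.exists_irreducible R
  rw [FlatR.isFlatOver_iff f hϖ] at hIf ⊢
  intro x t ht
  apply stalkLin_injective ι x
  rw [map_zero]
  apply hIf x
  rw [← map_smul, ht, map_zero]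

include hsq in
theorem exists_seq {I : X.Modules} (hIf : FlatMod.IsFlatOver f I) {G : Xs.Modules}
    (π : (Scheme.Modules.pullback i).obj I ⟶ G) [Epi π] :
    ∃ (α : G ⟶ (Scheme.Modules.pullback i).obj (Mod.mod i π))
      (β : (Scheme.Modules.pullback i).obj (Mod.mod i π) ⟶ kernel π) (w : α ≫ β = 0),
      (ShortComplex.mk α β w).ShortExact := by
  have := isClosedImmersion hsq
  obtain ⟨ϖ, hϖ⟩ := IsDiscreteValuationRing.exists_irreducible R
  exact ⟨_, _, _, Mod.shortExact i (Coh.toGlobal f ϖ) (ker_gm hsq hϖ) π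
    fun y t ht => smul_inj hIf hϖ (i y) t ht⟩

include hsq in
theorem isCoh_mod [IsProper f] {I : X.Modules} (hIc : Coh.IsCoh I) {G : Xs.Modules}
    (hGc : Coh.IsCoh G) (π : (Scheme.Modules.pullback i).obj I ⟶ G) : Coh.IsCoh (Mod.mod i π) :=
  have := isClosedImmersion hsq
  have := isNoetherian_X f
  Sga67.CohBasic.isCoh_kernel _ hIc (isCoh_push i hGc).1

omit [Xs.Over (Spec (CommRingCat.of (IsLocalRing.ResidueField R)))] in
theorem isFlatOver_mod {I : X.Modules} (hIf : FlatMod.IsFlatOver f I) {G : Xs.Modules}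
    (π : (Scheme.Modules.pullback i).obj I ⟶ G) : FlatMod.IsFlatOver f (Mod.mod i π) :=
  isFlatOver_of_mono (kernel.ι _) hIf

theorem isCoh_pull {Y Z : Scheme.{u}} (g : Y ⟶ Z) {M : Z.Modules} (hM : Coh.IsCoh M) :
    Coh.IsCoh ((Scheme.Modules.pullback g).obj M) :=
  FormalA.PullbackQC.isCoh_pullback g M hM

theorem rank_pull {Y Z : Scheme.{u}} (g : Y ⟶ Z) {r : ℕ} {M : Z.Modules}
    (hM : FlatMod.IsFinLocFreeOfRank r M) :
    FlatMod.IsFinLocFreeOfRank r ((Scheme.Modules.pullback g).obj M) :=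
  Vancyc.H878.Triv.isFinLocFreeOfRank_pullback g hM

end K975.DVR
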