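import Groth.Agent.TFOne.K975.Quot
import Groth.Agent.VarietyA.EulerFinite
import Groth.Agent.VarietyA.FiniteSupportK
import Groth.Agent.VarietyA.EulerLES
import Groth.Agent.S0002
import Groth.Agent.S1524

/-!
# Euler characteristics of torsion-free quotients

* `euler_le_of_mono`, `isIso_of_euler_le`: a monomorphism which is surjective at the generic points;
* `kernelπ`: the kernel of a map of torsion-free quotients as a torsion-free quotient of a kernel;
* `euler_submodular`: `χ(F_{Y ∪ Z}) + χ(F_{Y ∩ Z}) ≤ χ(F_Y) + χ(F_Z)`.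
-/

set_option autoImplicit false
universe u
open CategoryTheory CategoryTheory.Limits AlgebraicGeometry TopologicalSpace Opposite

namespace K975.Euler

open Groth.Agent Groth.Agent.CycB.StalkExact Groth.Agent.VarietyA.StalkCrit
open Groth.Agent.CurvesB Groth.Agent.CurvesB.SubH1 Groth.Agent.CurvesB.GenStalk
open Groth.Agent.CurvesB.SubLemma Groth.Agent.CycB K975.Gen K975.Quot

variable {X : Scheme.{u}}

theorem dim_le_one (hcomp : ∀ Z ∈ irreducibleComponents (X : Type u), topologicalKrullDim Z = 1) :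
    topologicalKrullDim X ≤ 1 := by
  have h := DimOneTop.forall_irreducibleComponents_iff.mp hcomp
  rw [dim_le_one_iff]
  intro x
  by_cases hx : IsGen x
  · exact Or.inr hx
  · left
    obtain ⟨z, hz, hzx⟩ := DimOneTop.exists_generic_specializes x
    have hne : x ≠ z := by
      rintro rfl
      exact hx hz
    exact fun y hy => (h z hz).2 x hzx hne y hy

/-! ### Kernels of maps of torsion-free quotients -/

section Kernel

variable {F G H : X.Modules} {S T : Set X} {π : F ⟶ G} {ρ : F ⟶ H} {a : G ⟶ H}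

theorem injective_of_comp (hF : GenSimple F) (hG : IsQ F S G π) (hH : IsQ F T H ρ)
    (ha : π ≫ a = ρ) {ξ : X} (hξ : IsGen ξ) (hT : ξ ∈ T) : Function.Injective (stalkLin a ξ) := by
  have := hG.epi
  have h1 := hH.injective hF hξ hT
  rw [← ha, stalkLin_comp] at h1
  rw [injective_iff_map_eq_zero]
  intro g hg
  obtain ⟨f, rfl⟩ := stalkLin_surjective π ξ g
  have : f = 0 := h1 (by rw [LinearMap.comp_apply, hg, map_zero])
  rw [this, map_zero]

/-- The generic support of the kernel. -/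
theorem kernel_gs (hF : GenSimple F) (hG : IsQ F S G π) (hH : IsQ F T H ρ)
    (ha : π ≫ a = ρ) {ξ : X} (hξ : IsGen ξ) :
    ¬ Subsingleton ((kernel a).presheaf.stalk ξ) ↔ ξ ∈ S ∧ ξ ∉ T := by
  rw [subsingleton_kernel_stalk_iff]
  constructor
  · intro h
    have hT : ξ ∉ T := fun hT => h (injective_of_comp hF hG hH ha hξ hT)
    refine ⟨?_, hT⟩
    by_contra hS
    have := hG.subsingleton hξ hS
    exact h (Function.injective_of_subsingleton _)
  · rintro ⟨hS, hT⟩ h
    have := hH.subsingleton hξ hT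
    exact hG.nontrivial hξ hS h.subsingleton

variable (π ρ a) in
/-- The map of kernels. -/
noncomputable def kernelπ (ha : π ≫ a = ρ) : kernel ρ ⟶ kernel a :=
  kernel.lift a (kernel.ι ρ ≫ π) (by rw [Category.assoc, ha, kernel.condition])

theorem kernelπ_ι (ha : π ≫ a = ρ) : kernelπ π ρ a ha ≫ kernel.ι a = kernel.ι ρ ≫ π :=
  kernel.lift_ι _ _ _

theorem epi_kernelπ [Epi π] (ha : π ≫ a = ρ) : Epi (kernelπ π ρ a ha) := by
  refine epi_of_stalks _ fun x => ?_
  intro y
  obtain ⟨n, hn⟩ := stalkLin_surjective π x (stalkLin (kernel.ι a) x y)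
  have hex : Function.Exact (stalkLin (kernel.ι ρ) x) (stalkLin ρ x) :=
    stalkLin_exact (ShortComplex.mk (kernel.ι ρ) ρ (kernel.condition ρ))
      (ShortComplex.exact_of_f_is_kernel _ (kernelIsKernel _)) x
  have h1 : stalkLin ρ x n = 0 := by
    rw [← ha, stalkLin_comp, LinearMap.comp_apply, hn, ← LinearMap.comp_apply, ← stalkLin_comp,
      kernel.condition]
    exact PairLemma.stalkLin_zero' _ _ x y
  obtain ⟨m, rfl⟩ := (hex n).mp h1
  refine ⟨m, stalkLin_injective (kernel.ι a) x ?_⟩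
  rw [← hn, ← LinearMap.comp_apply, ← LinearMap.comp_apply, ← stalkLin_comp, ← stalkLin_comp,
    kernelπ_ι]

theorem isQ_kernel [IsLocallyNoetherian X] (hF : GenSimple F) (hG : IsQ F S G π) (hH : IsQ F T H ρ)
    (ha : π ≫ a = ρ) : IsQ (kernel ρ) {ξ | ξ ∈ S ∧ ξ ∉ T} (kernel a) (kernelπ π ρ a ha) :=
  have := hG.epi
  { epi := epi_kernelπ ha
    coh := Sga67.CohBasic.isCoh_kernel a hG.coh hH.coh.1
    tf := TF.of_mono (kernel.ι a) hG.tf
    gs := fun _ hξ => kernel_gs hF hG hH ha hξ }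

end Kernel

theorem surjective_of_mono {A B : X.Modules} (hB : GenSimple B) (f : A ⟶ B) [Mono f] {ξ : X}
    (hξ : IsGen ξ) (h : ¬ Subsingleton (B.presheaf.stalk ξ) → ¬ Subsingleton (A.presheaf.stalk ξ)) :
    Function.Surjective (stalkLin f ξ) := by
  by_cases h1 : Subsingleton (B.presheaf.stalk ξ)
  · exact fun b => ⟨0, Subsingleton.elim _ _⟩
  · rcases hB ξ hξ (LinearMap.range (stalkLin f ξ)) with h2 | h2
    · exfalso
      apply h h1
      refine subsingleton_of_forall_eq 0 fun a => stalkLin_injective f ξ ?_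
      rw [map_zero]
      have : stalkLin f ξ a ∈ LinearMap.range (stalkLin f ξ) := ⟨a, rfl⟩
      rw [h2] at this
      exact this
    · exact LinearMap.range_eq_top.mp h2

section Euler

variable (k : Type u) [Field k] [X.Over (Spec (CommRingCat.of k))]

theorem euler_congr {F G : X.Modules} (e : F ≅ G) : Curv2.euler k X F = Curv2.euler k X G := by
  unfold Curv2.euler
  refine finsum_congr fun i => ?_
  rw [(VarietyA.EulerLES.equivA k e i).finrank_eq]

theorem isNoetherian (X : Scheme.{u}) [X.Over (Spec (CommRingCat.of k))]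
    [IsProper (X ↘ (Spec (CommRingCat.of k)))] : IsNoetherian X :=
  VarietyA.GlobGen.isNoetherian_of_finiteType (X ↘ (Spec (CommRingCat.of k)))

variable [IsProper (X ↘ (Spec (CommRingCat.of k)))]

theorem euler_ses {S : ShortComplex X.Modules} (hS : S.ShortExact)
    (h₁ : Coh.IsCoh S.X₁) (h₂ : Coh.IsCoh S.X₂) (h₃ : Coh.IsCoh S.X₃) :
    Curv2.euler k X S.X₂ = Curv2.euler k X S.X₁ + Curv2.euler k X S.X₃ :=
  S1524.result k X S hS h₁ h₂ h₃

theorem euler_kernel {F G : X.Modules} (hF : Coh.IsCoh F) (hG : Coh.IsCoh G) (π : F ⟶ G) [Epi π] :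
    Curv2.euler k X F = Curv2.euler k X (kernel π) + Curv2.euler k X G :=
  have := isNoetherian k X
  euler_ses k (S := ShortComplex.mk (kernel.ι π) π (kernel.condition π)) (shortExact_kernel π)
    (Sga67.CohBasic.isCoh_kernel π hF hG.1) hF hG

theorem euler_small (hdim : topologicalKrullDim X ≤ 1) {F : X.Modules} (hF : Coh.IsCoh F)
    (hs : IsSmall F) : Curv2.euler k X F = Module.finrank k (Coh.HH X F 0) := by
  have := isNoetherian k X
  refine VarietyA.EulerFinite.euler_eq_of_vanish k X _ fun i hi => ?_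
  obtain ⟨n, rfl⟩ : ∃ n, i = n + 1 := ⟨i - 1, by omega⟩
  exact subsingleton_of_isSmall hdim F hF.2 hs n

theorem euler_nonneg (hdim : topologicalKrullDim X ≤ 1) {F : X.Modules} (hF : Coh.IsCoh F)
    (hs : IsSmall F) : 0 ≤ Curv2.euler k X F := by
  rw [euler_small k hdim hF hs]
  exact Int.natCast_nonneg _

theorem subsingleton_of_euler_le (hdim : topologicalKrullDim X ≤ 1) {F : X.Modules} (hF : Coh.IsCoh F)
    (hs : IsSmall F) (h : Curv2.euler k X F ≤ 0) (x : X) : Subsingleton (F.presheaf.stalk x) := by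
  have := isNoetherian k X
  rw [euler_small k hdim hF hs] at h
  have hfin : Module.Finite k (Coh.HH X F 0) := S0002.result k X F hF 0
  have h0 : Module.finrank k (Coh.HH X F 0) = 0 := by omega
  have h1 : Subsingleton (Coh.HH X F 0) := Module.finrank_zero_iff.mp h0
  have hc := VarietyA.GlobGen.isClosed_support F hF.2
  have hd := topologicalKrullDim_support_le hdim F hc hs
  have hZ := VarietyA.GlobGen.finite_support F hF.2 hd
  have hcl : ∀ x ∈ CohB1.support F, IsClosed ({x} : Set X) := fun x hx =>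
    VarietyA.GlobGen.isClosed_singleton_of_mem_support F hF.2 hd hx
  have hM : ∀ x, x ∉ CohB1.support F → Subsingleton (F.presheaf.stalk x) := fun x hx =>
    (not_mem_support_iff F x).mp hx
  have h2 : Subsingleton (∀ x : (CohB1.support F : Set X), F.presheaf.stalk (x : X)) :=
    ((VarietyA.FiniteSupportK.hZeroGerms k X F hZ hcl hM).symm.toEquiv).subsingleton
  by_cases hx : x ∈ CohB1.support F
  · classical
    refine subsingleton_of_forall_eq 0 fun t => ?_
    have h3 := congrFun (Subsingleton.elim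
      (Pi.single (M := fun x : (CohB1.support F : Set X) => F.presheaf.stalk (x : X)) ⟨x, hx⟩ t) 0) ⟨x, hx⟩
    rwa [Pi.single_eq_same] at h3
  · exact hM x hx

section Mono

variable (hdim : topologicalKrullDim X ≤ 1) {A B : X.Modules} (hA : Coh.IsCoh A) (hB : Coh.IsCoh B)
  (f : A ⟶ B) [Mono f] (h : ∀ ξ : X, IsGen ξ → Function.Surjective (stalkLin f ξ))

include hA hB in
theorem euler_mono : Curv2.euler k X B = Curv2.euler k X A + Curv2.euler k X (cokernel f) :=
  euler_ses k (S := ShortComplex.mk f (cokernel.π f) (cokernel.condition f)) (shortExact_cokernel f)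
    hA hB (Sga67.CohBasic.isCoh_cokernel f hA.1 hB)

include h in
theorem isSmall_cokernel : IsSmall (cokernel f) :=
  fun ξ hξ => (subsingleton_cokernel_stalk_iff f ξ).mpr (h ξ hξ)

include hdim hA hB h in
theorem euler_le_of_mono : Curv2.euler k X A ≤ Curv2.euler k X B := by
  have h1 := euler_nonneg k hdim (Sga67.CohBasic.isCoh_cokernel f hA.1 hB) (isSmall_cokernel f h)
  rw [euler_mono k hA hB f]
  omega

include hdim hA hB h in
theorem isIso_of_euler_le (hle : Curv2.euler k X B ≤ Curv2.euler k X A) : IsIso f := by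
  have h1 := euler_mono k hA hB f
  have h2 := subsingleton_of_euler_le k hdim (Sga67.CohBasic.isCoh_cokernel f hA.1 hB)
    (isSmall_cokernel f h) (by omega)
  exact isIso_of_stalks f fun x =>
    ⟨stalkLin_injective f x, (subsingleton_cokernel_stalk_iff f x).mp (h2 x)⟩

end Mono

/-- Euler characteristics of torsion-free quotients with the same support agree. -/
theorem euler_eq_of_isQ {F G G' : X.Modules} {S S' : Set X} {π : F ⟶ G} {π' : F ⟶ G'}
    (hF : GenSimple F) (h : IsQ F S G π) (h' : IsQ F S' G' π')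
    (hS : ∀ ξ, IsGen ξ → (ξ ∈ S ↔ ξ ∈ S')) : Curv2.euler k X G = Curv2.euler k X G' := by
  obtain ⟨e, -⟩ := h.exists_iso hF h' hS
  exact euler_congr k e

/-- Submodularity of the Euler characteristic of torsion-free quotients. -/
theorem euler_submodular (hdim : topologicalKrullDim X ≤ 1) {F GY GZ GU GW : X.Modules}
    (hF : GenSimple F) {Y Z U W : Set X} {πY : F ⟶ GY} {πZ : F ⟶ GZ} {πU : F ⟶ GU} {πW : F ⟶ GW}
    (hY : IsQ F Y GY πY) (hZ : IsQ F Z GZ πZ) (hU : IsQ F U GU πU) (hW : IsQ F W GW πW)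
    (hUe : ∀ ξ, IsGen ξ → (ξ ∈ U ↔ ξ ∈ Y ∨ ξ ∈ Z)) (hWe : ∀ ξ, IsGen ξ → (ξ ∈ W ↔ ξ ∈ Y ∧ ξ ∈ Z)) :
    Curv2.euler k X GU + Curv2.euler k X GW ≤ Curv2.euler k X GY + Curv2.euler k X GZ := by
  have := isNoetherian k X
  obtain ⟨a, ha⟩ := hU.exists_map hF hY fun ξ hξ h => (hUe ξ hξ).mpr (Or.inl h)
  obtain ⟨b, hb⟩ := hU.exists_map hF hZ fun ξ hξ h => (hUe ξ hξ).mpr (Or.inr h)
  obtain ⟨c, hc⟩ := hZ.exists_map hF hW fun ξ hξ h => ((hWe ξ hξ).mp h).2
  have := hU.epi
  have := hZ.epi
  have hYe := hY.epi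
  have hWe' := hW.epi
  have : Epi a := by rw [← ha] at hYe; exact epi_of_epi πU a
  have : Epi c := by rw [← hc] at hWe'; exact epi_of_epi πZ c
  have hP : TF (kernel a) := TF.of_mono (kernel.ι a) hU.tf
  have gsP : ∀ ξ, IsGen ξ → (¬ Subsingleton ((kernel a).presheaf.stalk ξ) ↔ ξ ∈ U ∧ ξ ∉ Y) :=
    fun ξ hξ => kernel_gs hF hU hY ha hξ
  have gsQ : ∀ ξ, IsGen ξ → (¬ Subsingleton ((kernel c).presheaf.stalk ξ) ↔ ξ ∈ Z ∧ ξ ∉ W) :=
    fun ξ hξ => kernel_gs hF hZ hW hc hξ
  have hz : (kernel.ι a ≫ b) ≫ c = 0 := by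
    refine hW.tf.hom_eq_zero' _ fun ξ hξ => ?_
    by_cases hξW : ξ ∈ W
    · left
      by_contra hn
      exact ((gsP ξ hξ).mp hn).2 ((hWe ξ hξ).mp hξW).1
    · exact Or.inr (hW.subsingleton hξ hξW)
  have hm : Mono (kernel.ι a ≫ b) := by
    refine hP.mono _ fun ξ hξ => ?_
    by_cases hZξ : ξ ∈ Z
    · rw [stalkLin_comp]
      exact (injective_of_comp hF hU hZ hb hξ hZξ).comp (stalkLin_injective (kernel.ι a) ξ)
    · have : Subsingleton ((kernel a).presheaf.stalk ξ) := by
        by_contra hn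
        have h1 := (gsP ξ hξ).mp hn
        rcases (hUe ξ hξ).mp h1.1 with h2 | h2
        · exact h1.2 h2
        · exact hZξ h2
      exact Function.injective_of_subsingleton _
  let d : kernel a ⟶ kernel c := kernel.lift c (kernel.ι a ≫ b) hz
  have hd : d ≫ kernel.ι c = kernel.ι a ≫ b := kernel.lift_ι _ _ _
  have : Mono d := by rw [← hd] at hm; exact mono_of_mono d (kernel.ι c)
  have hcs : GenSimple (kernel c) := genSimple_of_mono (kernel.ι c) (hF.of_epi πZ)
  have hle : Curv2.euler k X (kernel a) ≤ Curv2.euler k X (kernel c) := by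
    refine euler_le_of_mono k hdim (Sga67.CohBasic.isCoh_kernel a hU.coh hY.coh.1)
      (Sga67.CohBasic.isCoh_kernel c hZ.coh hW.coh.1) d fun ξ hξ => ?_
    refine surjective_of_mono hcs d hξ fun hn => ?_
    have h1 := (gsQ ξ hξ).mp hn
    refine (gsP ξ hξ).mpr ⟨(hUe ξ hξ).mpr (Or.inr h1.1), fun hYξ => h1.2 ((hWe ξ hξ).mpr ⟨hYξ, h1.1⟩)⟩
  have e1 := euler_kernel k hU.coh hY.coh a
  have e2 := euler_kernel k hZ.coh hW.coh c
  omega

end Euler

end K975.Euler
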