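import Groth.Agent.TFOne.K975.Quot
import Groth.Agent.FormalB.ModPow
import Groth.Agent.CohqA.ClosedPush
import Groth.Agent.CycB.PushStalk

/-!
# Endomorphisms of torsion-free modules

* `eq_smulMod`: an endomorphism which is a scalar at the generic points is a scalar;
* `exists_scalar`: an endomorphism of `F` is a scalar on the support of a simple torsion-free quotient;
* `isSimple_of_cover`: `F` is simple if it has simple torsion-free quotients on two subsets covering the generic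
  points and having a common one;
* `isSimple_iff_of_exact`: an extension of simple modules with disjoint generic support.
-/

set_option autoImplicit false
universe u
open CategoryTheory CategoryTheory.Limits AlgebraicGeometry TopologicalSpace Opposite

namespace K975.Simple

open Groth.Agent Groth.Agent.CycB.StalkExact Groth.Agent.VarietyA.StalkCrit
open Groth.Agent.CurvesB Groth.Agent.CurvesB.SubH1 Groth.Agent.CurvesB.GenStalk
open Groth.Agent.CurvesB.SubLemma Groth.Agent.CycB K975.Gen K975.Quot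
open Groth.Agent.CycB.PushStalk

variable {X : Scheme.{u}} (k : Type u) [Field k] [X.Over (Spec (CommRingCat.of k))]

/-- `F` has only scalar endomorphisms. -/
def OnlyScalars (F : X.Modules) : Prop := ∀ φ : F ⟶ F, ∃ c : k, φ = Formal.smulMod k F c

theorem isSimple_iff (F : X.Modules) :
    TFOne.IsSimple X k (X ↘ Spec (CommRingCat.of k)) F ↔ ¬ IsZero F ∧ OnlyScalars k F := Iff.rfl

theorem stalkLin_smulMod (N : X.Modules) (c : k) (ξ : X) (t : N.presheaf.stalk ξ) :
    stalkLin (Formal.smulMod k N c) ξ t = Curv2.stalkMap k X ξ c • t :=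
  PairLemma.stalkLin_smulMod k N c ξ t

theorem stalkLin_sub {M N : X.Modules} (f g : M ⟶ N) (x : X) (t : M.presheaf.stalk x) :
    stalkLin (f - g) x t = stalkLin f x t - stalkLin g x t := by
  rw [eq_sub_iff_add_eq, ← PairLemma.stalkLin_add, sub_add_cancel]

theorem smul_eq_zero_iff {N : X.Modules} {ξ : X} {c : k} {t : N.presheaf.stalk ξ} (ht : t ≠ 0) :
    Curv2.stalkMap k X ξ c • t = 0 ↔ c = 0 := by
  constructor
  · intro h
    by_contra hc
    apply ht
    calc t = Curv2.stalkMap k X ξ (c⁻¹ * c) • t := by rw [inv_mul_cancel₀ hc, map_one, one_smul]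
      _ = 0 := by rw [map_mul, mul_smul, h, smul_zero]
  · rintro rfl
    rw [map_zero, zero_smul]

theorem eq_of_smul_eq {N : X.Modules} {ξ : X} {c d : k} {t : N.presheaf.stalk ξ} (ht : t ≠ 0)
    (h : Curv2.stalkMap k X ξ c • t = Curv2.stalkMap k X ξ d • t) : c = d := by
  rw [← sub_eq_zero, ← smul_eq_zero_iff k ht, map_sub, sub_smul, h, sub_self]

/-- An endomorphism of a torsion-free module which is a scalar at the generic points is a scalar. -/
theorem eq_smulMod {F : X.Modules} (hF : TF F) (φ : F ⟶ F) (c : k)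
    (h : ∀ ξ, IsGen ξ → ∀ t, stalkLin φ ξ t = Curv2.stalkMap k X ξ c • t) :
    φ = Formal.smulMod k F c := by
  rw [← sub_eq_zero]
  refine hF.hom_eq_zero _ fun ξ hξ => LinearMap.ext fun t => ?_
  rw [stalkLin_sub, h ξ hξ t, stalkLin_smulMod, sub_self]
  rfl

theorem _root_.K975.Quot.IsQ.exists_end {F G : X.Modules} {S : Set X} {π : F ⟶ G} (h : IsQ F S G π)
    (hF : GenSimple F) (φ : F ⟶ F) : ∃ ψ : G ⟶ G, π ≫ ψ = φ ≫ π :=
  h.exists_desc hF (φ ≫ π) h.tf fun ξ hξ => (h.gs ξ hξ).mp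

/-- An endomorphism of `F` is a scalar on the support of a torsion-free quotient with only scalar endomorphisms. -/
theorem exists_scalar {F G : X.Modules} {S : Set X} {π : F ⟶ G} (h : IsQ F S G π)
    (hF : GenSimple F) (hG : OnlyScalars k G) (φ : F ⟶ F) :
    ∃ c : k, ∀ ξ, IsGen ξ → ξ ∈ S → ∀ t, stalkLin φ ξ t = Curv2.stalkMap k X ξ c • t := by
  obtain ⟨ψ, hψ⟩ := h.exists_end hF φ
  obtain ⟨c, rfl⟩ := hG ψ
  refine ⟨c, fun ξ hξ hS t => ?_⟩
  apply h.injective hF hξ hS
  rw [map_smul, ← stalkLin_smulMod, ← LinearMap.comp_apply, ← LinearMap.comp_apply, ← stalkLin_comp,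
    ← stalkLin_comp, hψ]

theorem not_isZero_of_epi {F G : X.Modules} (π : F ⟶ G) [Epi π] (hG : ¬ IsZero G) : ¬ IsZero F :=
  fun h => hG (IsZero.of_epi π h)

theorem exists_ne_zero_of_isGen {F : X.Modules} {ξ : X} (h : ¬ Subsingleton (F.presheaf.stalk ξ)) :
    ∃ t : F.presheaf.stalk ξ, t ≠ 0 := by
  rw [not_subsingleton_iff_nontrivial] at h
  exact exists_ne 0

/-- The first criterion. -/
theorem isSimple_of_cover {F GY GZ : X.Modules} {Y Z : Set X} {πY : F ⟶ GY} {πZ : F ⟶ GZ}
    (hF : GenSimple F) (hT : TF F) (hn : ∀ ξ, IsGen ξ → ¬ Subsingleton (F.presheaf.stalk ξ))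
    (hY : IsQ F Y GY πY) (hZ : IsQ F Z GZ πZ) (hcov : ∀ ξ, IsGen ξ → ξ ∈ Y ∨ ξ ∈ Z)
    (hmeet : ∃ ξ, IsGen ξ ∧ ξ ∈ Y ∧ ξ ∈ Z) (hsY : OnlyScalars k GY) (hsZ : OnlyScalars k GZ) :
    OnlyScalars k F := by
  intro φ
  obtain ⟨c, hc⟩ := exists_scalar k hY hF hsY φ
  obtain ⟨d, hd⟩ := exists_scalar k hZ hF hsZ φ
  obtain ⟨ξ, hξ, h1, h2⟩ := hmeet
  obtain ⟨t, ht⟩ := exists_ne_zero_of_isGen (hn ξ hξ)
  have hcd : c = d := eq_of_smul_eq k ht (by rw [← hc ξ hξ h1 t, hd ξ hξ h2 t])
  subst hcd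
  refine ⟨c, eq_smulMod k hT φ c fun η hη t => ?_⟩
  rcases hcov η hη with h | h
  · exact hc η hη h t
  · exact hd η hη h t

/-- Extensions. -/
theorem onlyScalars_iff_of_exact {A M B : X.Modules} {a : A ⟶ M} {b : M ⟶ B} {w : a ≫ b = 0}
    (hex : (ShortComplex.mk a b w).ShortExact) (hM : TF M) (hB : TF B)
    (hAs : OnlyScalars k A) (hBs : OnlyScalars k B)
    (hdisj : ∀ ξ, IsGen ξ → Subsingleton (A.presheaf.stalk ξ) ∨ Subsingleton (B.presheaf.stalk ξ))
    (hA0 : ∃ ξ, IsGen ξ ∧ ¬ Subsingleton (A.presheaf.stalk ξ))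
    (hB0 : ∃ ξ, IsGen ξ ∧ ¬ Subsingleton (B.presheaf.stalk ξ)) :
    OnlyScalars k M ↔ ¬ IsSplitEpi b := by
  have hma : Mono a := hex.mono_f
  have heb : Epi b := hex.epi_g
  have hA : TF A := TF.of_mono a hM
  constructor
  · intro h hs
    obtain ⟨⟨s, hs⟩⟩ := hs.exists_splitEpi
    obtain ⟨c, hc⟩ := h (b ≫ s)
    obtain ⟨ξ, hξ, hAξ⟩ := hA0
    obtain ⟨t, ht⟩ := exists_ne_zero_of_isGen hAξ
    have hc0 : c = 0 := by
      rw [← smul_eq_zero_iff k ht]
      apply stalkLin_injective a ξ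
      rw [map_smul, ← stalkLin_smulMod, ← hc, ← LinearMap.comp_apply, ← stalkLin_comp,
        ← Category.assoc, w, zero_comp, map_zero]
      exact PairLemma.stalkLin_zero' _ _ _ _
    obtain ⟨η, hη, hBη⟩ := hB0
    obtain ⟨v, hv⟩ := exists_ne_zero_of_isGen hBη
    apply hv
    have h1 : s ≫ (b ≫ s) = s := by rw [← Category.assoc, hs, Category.id_comp]
    rw [hc, hc0, FormalB.ModPow.smulMod_zero, comp_zero] at h1
    have h2 : (𝟙 B : B ⟶ B) = 0 := by rw [← hs, ← h1, zero_comp]
    have h3 : stalkLin (𝟙 B) η v = 0 := by rw [h2]; exact PairLemma.stalkLin_zero' _ _ _ _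
    rwa [stalkLin_id] at h3
  · intro hs φ
    have hAB : ∀ g : A ⟶ B, g = 0 := fun g => hB.hom_eq_zero' g hdisj
    have hBA : ∀ g : B ⟶ A, g = 0 := fun g => hA.hom_eq_zero' g fun ξ hξ => (hdisj ξ hξ).symm
    have hcok : ∀ {T : X.Modules} (g : M ⟶ T), a ≫ g = 0 → ∃ g' : B ⟶ T, b ≫ g' = g :=
      fun g hg => ⟨hex.exact.desc g hg, hex.exact.g_desc g hg⟩
    have hker : ∀ {T : X.Modules} (g : T ⟶ M), g ≫ b = 0 → ∃ g' : T ⟶ A, g' ≫ a = g :=
      fun g hg => ⟨hex.exact.lift g hg, hex.exact.lift_f g hg⟩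
    obtain ⟨φB, hφB⟩ := hcok (φ ≫ b) (by rw [← Category.assoc]; exact hAB _)
    obtain ⟨c, rfl⟩ := hBs φB
    obtain ⟨ψ, hψ⟩ := hker (φ - Formal.smulMod k M c) (by
      rw [Preadditive.sub_comp, ← hφB, FormalB.ModPow.smulMod_naturality, sub_self])
    obtain ⟨d, hd⟩ := hAs (a ≫ ψ)
    by_cases hd0 : d = 0
    · subst hd0
      rw [FormalB.ModPow.smulMod_zero] at hd
      obtain ⟨g, rfl⟩ := hcok ψ hd
      rw [hBA g, comp_zero, zero_comp] at hψ
      exact ⟨c, (sub_eq_zero.mp hψ.symm)⟩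
    · exfalso
      apply hs
      have hr : a ≫ (ψ ≫ Formal.smulMod k A d⁻¹) = 𝟙 A := by
        rw [← Category.assoc, hd, ← FormalB.ModPow.smulMod_mul, inv_mul_cancel₀ hd0,
          FormalB.ModPow.smulMod_one]
      let sp := ShortComplex.Splitting.ofExactOfRetraction (ShortComplex.mk a b w) hex.exact
        (ψ ≫ Formal.smulMod k A d⁻¹) hr heb
      exact IsSplitEpi.mk' ⟨sp.s, sp.s_g⟩

/-! ### Direct images along closed immersions -/

section Push

variable {Z : Scheme.{u}} (i : Z ⟶ X) [IsClosedImmersion i]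

omit [IsClosedImmersion i] in
theorem stalkSpecializes_pushStalk (J : Z.Modules) {z ζ : Z} (h : ζ ⤳ z)
    (m : ((Scheme.Modules.pushforward i).obj J).presheaf.stalk (i z)) :
    J.presheaf.stalkSpecializes h (pushStalk i J z m) =
      pushStalk i J ζ (((Scheme.Modules.pushforward i).obj J).presheaf.stalkSpecializes
        (h.map i.continuous) m) := by
  obtain ⟨U, hU, s, rfl⟩ := ((Scheme.Modules.pushforward i).obj J).presheaf.exists_germ_eq m
  have hζU : i ζ ∈ U := (h.map i.continuous).mem_open U.2 hU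
  rw [pushStalk_germ]
  have h1 : ((Scheme.Modules.pushforward i).obj J).presheaf.stalkSpecializes
      (h.map i.continuous) (((Scheme.Modules.pushforward i).obj J).presheaf.germ U (i z) hU s) =
      ((Scheme.Modules.pushforward i).obj J).presheaf.germ U (i ζ) hζU s :=
    TopCat.Presheaf.germ_stalkSpecializes_apply _ hU _ s
  rw [h1, pushStalk_germ]
  exact TopCat.Presheaf.germ_stalkSpecializes_apply J.presheaf (U := i ⁻¹ᵁ U) hU h s

theorem bijective_pushStalk (J : Z.Modules) (z : Z) : Function.Bijective (pushStalk i J z) :=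
  pushStalk_bijective i i.isClosedEmbedding.isInducing J z

theorem subsingleton_push_iff (J : Z.Modules) (z : Z) :
    Subsingleton (((Scheme.Modules.pushforward i).obj J).presheaf.stalk (i z)) ↔
      Subsingleton (J.presheaf.stalk z) :=
  (Equiv.ofBijective _ (bijective_pushStalk i J z)).subsingleton_congr

theorem subsingleton_push_of_notMem (J : Z.Modules) {x : X} (hx : x ∉ Set.range i) :
    Subsingleton (((Scheme.Modules.pushforward i).obj J).presheaf.stalk x) :=
  subsingleton_stalk_push i J x (by rwa [i.isClosedEmbedding.isClosed_range.closure_eq])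

/-- The direct image of a torsion-free module along a closed immersion whose generic points are generic. -/
theorem tf_push (hi : ∀ ζ : Z, IsGen ζ → IsGen (i ζ)) {J : Z.Modules} (hJ : TF J) :
    TF ((Scheme.Modules.pushforward i).obj J) := by
  intro x m hm
  by_cases hx : x ∈ Set.range i
  · obtain ⟨z, rfl⟩ := hx
    apply (bijective_pushStalk i J z).1
    rw [map_zero]
    refine hJ z _ fun ζ h hg => ?_
    rw [stalkSpecializes_pushStalk, hm (i ζ) (h.map i.continuous) (hi ζ hg), map_zero]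
  · have := subsingleton_push_of_notMem i J hx
    exact Subsingleton.elim _ _

omit [IsClosedImmersion i] in
theorem appTop_toGlobal [Z.Over (Spec (CommRingCat.of k))]
    (hi : i ≫ X ↘ Spec (CommRingCat.of k) = Z ↘ Spec (CommRingCat.of k)) (c : k) :
    i.appTop (Coh.toGlobal (X ↘ Spec (CommRingCat.of k)) c) =
      Coh.toGlobal (Z ↘ Spec (CommRingCat.of k)) c := by
  rw [← hi]
  change _ = (i ≫ _).appTop _
  rw [Scheme.Hom.comp_appTop]
  rfl

omit [IsClosedImmersion i] in
theorem push_smulMod (J : Z.Modules) (c : k) [Z.Over (Spec (CommRingCat.of k))]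
    (hi : i ≫ X ↘ Spec (CommRingCat.of k) = Z ↘ Spec (CommRingCat.of k)) :
    (Scheme.Modules.pushforward i).map (Formal.smulMod k J c) =
      Formal.smulMod k ((Scheme.Modules.pushforward i).obj J) c := by
  ext U s
  change FormalB.ModPow.resΓ Z (i ⁻¹ᵁ U) (Coh.toGlobal (Z ↘ Spec (CommRingCat.of k)) c) •
      (show Γ(J, i ⁻¹ᵁ U) from s) =
    i.app U (FormalB.ModPow.resΓ X U (Coh.toGlobal (X ↘ Spec (CommRingCat.of k)) c)) •
      (show Γ(J, i ⁻¹ᵁ U) from s)
  congr 1
  rw [← appTop_toGlobal k i hi c]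
  exact congr($(i.naturality (homOfLE (le_top : U ≤ ⊤)).op) _).symm

theorem onlyScalars_push [Z.Over (Spec (CommRingCat.of k))]
    (hi : i ≫ X ↘ Spec (CommRingCat.of k) = Z ↘ Spec (CommRingCat.of k)) {J : Z.Modules}
    (hJ : OnlyScalars k J) : OnlyScalars k ((Scheme.Modules.pushforward i).obj J) := by
  intro φ
  obtain ⟨ψ, rfl⟩ := (Scheme.Modules.pushforward i).map_surjective φ
  obtain ⟨c, rfl⟩ := hJ ψ
  exact ⟨c, push_smulMod k i J c hi⟩

end Push

end K975.Simple
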