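import Groth.Agent.TFOne.K975.BetaFn
import Groth.Agent.TFOne.K975.Mod

/-!
# Restriction of a torsion-free quotient to its support

For a torsion-free quotient `G` of `F` on a subcurve `Y`, the restriction of `G` to the reduced subscheme `Y`
is torsion-free of rank one, and it is semistable if `F` is.
-/

set_option autoImplicit false
universe u
open CategoryTheory CategoryTheory.Limits AlgebraicGeometry TopologicalSpace Opposite

set_option linter.unusedSectionVars false

namespace K975.SubSemi

open Groth.Agent Groth.Agent.CycB.StalkExact Groth.Agent.VarietyA.StalkCrit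
open Groth.Agent.CurvesB Groth.Agent.CurvesB.SubH1 Groth.Agent.CurvesB.GenStalk
open Groth.Agent.CurvesB.SubLemma Groth.Agent.CycB K975.Gen K975.Quot K975.Simple K975.Sub K975.Euler
open K975.Beta K975.ModQ K975.BetaFn K975.Mod Groth.Agent.CurvesB.SubClosed Groth.Agent.CycB.PushStalk

variable {X : Scheme.{u}}

/-! ### General facts on `can` -/

theorem stalkSpecializes_can {Y : Scheme.{u}} (i : Y ⟶ X) [IsClosedImmersion i] (F : X.Modules)
    {y ζ : Y} (h : ζ ⤳ y) (t : F.presheaf.stalk (i y)) :
    ((Scheme.Modules.pullback i).obj F).presheaf.stalkSpecializes h (can i F y t) =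
      can i F ζ (F.presheaf.stalkSpecializes (h.map i.continuous) t) := by
  unfold can
  rw [stalkSpecializes_pushStalk, stalkSpecializes_stalkLin]

/-- An epimorphism stays an epimorphism under direct image along a closed immersion. -/
theorem epi_push {Y : Scheme.{u}} (i : Y ⟶ X) [IsClosedImmersion i] {A B : Y.Modules} (ρ : A ⟶ B)
    [Epi ρ] : Epi ((Scheme.Modules.pushforward i).map ρ) := by
  refine epi_of_stalks _ fun x => ?_
  by_cases hx : x ∈ Set.range i
  · obtain ⟨y, rfl⟩ := hx
    intro t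
    obtain ⟨s, hs⟩ := stalkLin_surjective ρ y (pushStalk i B y t)
    obtain ⟨s', rfl⟩ := (bijective_pushStalk i A y).2 s
    refine ⟨s', (bijective_pushStalk i B y).1 ?_⟩
    rw [pushStalk_natural, hs]
  · have := subsingleton_push_of_notMem i B hx
    exact fun t => ⟨0, Subsingleton.elim _ _⟩

section Sub

variable {F G : X.Modules} {Y : Set X} (hY : IsClosed Y) (hYu : IsUC Y) {π : F ⟶ G}
  (hG : IsQ F Y G π)

/-- Two germs of functions at a generic point of a reduced scheme agreeing on a reduced closed subscheme through it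
agree. -/
theorem stalkMap_injective_of_isGen [IsReduced X] {Y : Scheme.{u}} (i : Y ⟶ X) (ζ : Y)
    (h : IsGen (i ζ)) : Function.Injective (i.stalkMap ζ).hom := by
  let := (isField_stalk (i ζ) h).toField
  exact (i.stalkMap ζ).hom.injective

theorem stalkMap_specializes {Y : Scheme.{u}} (i : Y ⟶ X) {y ζ : Y} (h : ζ ⤳ y)
    (a : X.presheaf.stalk (i y)) :
    (i.stalkMap ζ).hom ((X.presheaf.stalkSpecializes (h.map i.continuous)).hom a) =
      (Y.presheaf.stalkSpecializes h).hom ((i.stalkMap y).hom a) := by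
  have h1 := i.stalkSpecializes_stalkMap ζ y h
  exact congr($(h1).hom a)

include hYu hG in
/-- The ideal of `Y` annihilates `G`. -/
theorem smul_eq_zero [IsReduced X] (y : VecSt.subsch X Y hY)
    (a : X.presheaf.stalk (VecSt.subschι X Y hY y))
    (ha : (VecSt.subschι X Y hY).stalkMap y a = 0) (t : G.presheaf.stalk (VecSt.subschι X Y hY y)) :
    a • t = 0 := by
  refine hG.tf _ _ fun ξ h hg => ?_
  by_cases hξ : ξ ∈ Y
  · obtain ⟨ζ, rfl⟩ := exists_eq Y hY hξ
    have hζ : ζ ⤳ y := (Sub.specializes_iff _ _ _).mp h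
    have h1 : (X.presheaf.stalkSpecializes h).hom a = 0 := by
      apply stalkMap_injective_of_isGen (VecSt.subschι X Y hY) ζ hg
      rw [map_zero]
      refine (stalkMap_specializes (VecSt.subschι X Y hY) hζ a).trans ?_
      have ha' : ((VecSt.subschι X Y hY).stalkMap y).hom a = 0 := ha
      rw [ha', map_zero]
    have h2 := ModStalk.stalkSpecializes_smul (L := G) h a t
    rw [h2]
    have h3 : (X.presheaf.stalkSpecializes h) a = 0 := h1
    rw [h3, zero_smul]
  · have := hG.subsingleton hg hξ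
    exact Subsingleton.elim _ _

include hYu hG in
theorem can_injective [IsReduced X] (y : VecSt.subsch X Y hY) :
    Function.Injective (can (VecSt.subschι X Y hY) G y) := by
  have h1 := stalkLin_unit_injective (VecSt.subschι X Y hY) G y
    fun a ha t => smul_eq_zero hY hYu hG y a ha t
  exact (bijective_pushStalk _ _ y).1.comp h1

include hYu hG in
theorem tf_pull [IsReduced X] : TF ((Scheme.Modules.pullback (VecSt.subschι X Y hY)).obj G) := by
  intro y m hm
  obtain ⟨t, rfl⟩ := can_surjective (VecSt.subschι X Y hY) G y m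
  have : t = 0 := by
    refine hG.tf _ _ fun ξ h hg => ?_
    by_cases hξ : ξ ∈ Y
    · obtain ⟨ζ, rfl⟩ := exists_eq Y hY hξ
      have hζ : ζ ⤳ y := (Sub.specializes_iff _ _ _).mp h
      apply can_injective hY hYu hG ζ
      rw [can_zero, ← hm ζ hζ ((isGen_subschι_iff hY hYu ζ).mp hg), stalkSpecializes_can]
    · have := hG.subsingleton hg hξ
      exact Subsingleton.elim _ _
  rw [this, can_zero]

include hYu hG in
theorem isRkOne_pull [IsReduced X] (hF : GenSimple F) (hF1 : TFOne.IsRkOne X F) :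
    TFOne.IsRkOne _ ((Scheme.Modules.pullback (VecSt.subschι X Y hY)).obj G) := by
  intro ζ hζ
  rw [mem_genericPoints_iff] at hζ
  have hg := (isGen_subschι_iff hY hYu ζ).mpr hζ
  obtain ⟨e⟩ := hF1 _ ((mem_genericPoints_iff _).mpr hg)
  let e' : G.presheaf.stalk (VecSt.subschι X Y hY ζ) ≃ₗ[X.presheaf.stalk (VecSt.subschι X Y hY ζ)]
      X.presheaf.stalk (VecSt.subschι X Y hY ζ) :=
    (LinearEquiv.ofBijective _ (hG.bijective hF hg (Sub.mem Y hY ζ))).symm.trans e
  let v := can (VecSt.subschι X Y hY) G ζ (e'.symm 1)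
  have hb : Function.Bijective (LinearMap.toSpanSingleton ((VecSt.subsch X Y hY).presheaf.stalk ζ) _ v) := by
    constructor
    · rw [injective_iff_map_eq_zero]
      intro a ha
      obtain ⟨a, rfl⟩ := (VecSt.subschι X Y hY).stalkMap_surjective ζ a
      rw [LinearMap.toSpanSingleton_apply] at ha
      have h1 : can (VecSt.subschι X Y hY) G ζ (a • e'.symm 1) = 0 := by
        rw [can_smul]
        exact ha
      rw [← can_zero (VecSt.subschι X Y hY) G ζ] at h1
      have h2 := can_injective hY hYu hG ζ h1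
      rw [← map_smul, LinearEquiv.map_eq_zero_iff] at h2
      have h3 : a = 0 := by simpa using h2
      rw [h3, map_zero]
    · intro m
      obtain ⟨t, rfl⟩ := can_surjective (VecSt.subschι X Y hY) G ζ m
      refine ⟨((VecSt.subschι X Y hY).stalkMap ζ).hom (e' t), ?_⟩
      rw [LinearMap.toSpanSingleton_apply, ← can_smul, ← map_smul]
      congr 1
      rw [LinearEquiv.symm_apply_eq]
      simp
  exact ⟨(LinearEquiv.ofBijective _ hb).symm⟩

include hYu hG in
theorem isTF1_pull [IsReduced X] [IsLocallyNoetherian X] (hF : GenSimple F) (hF1 : TFOne.IsRkOne X F) :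
    TFOne.IsTF1 _ ((Scheme.Modules.pullback (VecSt.subschι X Y hY)).obj G) :=
  ⟨FormalA.PullbackQC.isCoh_pullback _ G hG.coh, isTorsionFree_of_tf (tf_pull hY hYu hG),
    isRkOne_pull hY hYu hG hF hF1⟩

variable (k : Type u) [Field k] [X.Over (Spec (CommRingCat.of k))]
  [IsProper (X ↘ (Spec (CommRingCat.of k)))] [IsNoetherian X] [IsReduced X]

include hYu hG in
/-- The direct image of a torsion-free quotient of the restriction. -/
theorem isQ_push {T : Set (VecSt.subsch X Y hY)} {H : (VecSt.subsch X Y hY).Modules}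
    {ρ : (Scheme.Modules.pullback (VecSt.subschι X Y hY)).obj G ⟶ H}
    (hH : IsQ ((Scheme.Modules.pullback (VecSt.subschι X Y hY)).obj G) T H ρ) :
    IsQ F (VecSt.subschι X Y hY '' T) ((Scheme.Modules.pushforward (VecSt.subschι X Y hY)).obj H)
      (π ≫ unitι (VecSt.subschι X Y hY) G ≫ (Scheme.Modules.pushforward (VecSt.subschι X Y hY)).map ρ) := by
  have h1 := hG.epi
  have h2 := hH.epi
  have h3 := epi_push (VecSt.subschι X Y hY) ρ
  have h4 : Epi (unitι (VecSt.subschι X Y hY) G ≫
      (Scheme.Modules.pushforward (VecSt.subschι X Y hY)).map ρ) := epi_comp _ _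
  refine ⟨epi_comp _ _, isCoh_push _ hH.coh, Sub.tf_push hY hYu hH.tf, fun ξ hξ => ?_⟩
  constructor
  · intro hn
    have hξY : ξ ∈ Set.range (VecSt.subschι X Y hY) := by
      by_contra hc
      exact hn (subsingleton_push_of_notMem _ H hc)
    obtain ⟨ζ, rfl⟩ := hξY
    rw [subsingleton_push_iff] at hn
    exact ⟨ζ, (hH.gs ζ ((isGen_subschι_iff hY hYu ζ).mp hξ)).mp hn, rfl⟩
  · rintro ⟨ζ, hζ, rfl⟩
    rw [subsingleton_push_iff]
    exact (hH.gs ζ ((isGen_subschι_iff hY hYu ζ).mp hξ)).mpr hζ

theorem deg_congr {X : Scheme.{u}} [X.Over (Spec (CommRingCat.of k))] {E E' : X.Modules} (e : E ≅ E') (r : ℕ) :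
    Curv2.deg k X E r = Curv2.deg k X E' r := by
  unfold Curv2.deg
  rw [euler_congr k e]

include hYu hG in
/-- The restriction of a torsion-free quotient of a semistable module is semistable. -/
theorem isSemistable_pull (hpure : ∀ C ∈ irreducibleComponents (X : Type u), topologicalKrullDim C = 1)
    {E : X.Modules} {r : ℕ} (hE : FlatMod.IsFinLocFreeOfRank r E) (hF : TFOne.IsTF1 X F)
    (hnn : ∀ T, 0 ≤ b k r (S1641.degC k X r E) F T) :
    TFOne.IsSemistable (VecSt.subsch X Y hY) k (VecSt.subschι X Y hY ≫ (X ↘ Spec (CommRingCat.of k)))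
      ((Scheme.Modules.pullback (VecSt.subschι X Y hY)).obj G)
      ((Scheme.Modules.pullback (VecSt.subschι X Y hY)).obj E) r := by
  have hN := nice_of_isTF1 hF
  refine ⟨isTF1_pull hY hYu hG hN.gs hF.2.2, ?_⟩
  intro T hT _ _ H ρ hq
  have hLN : IsLocallyNoetherian (VecSt.subsch X Y hY) :=
    LocallyOfFiniteType.isLocallyNoetherian (VecSt.subschι X Y hY)
  have hH := isQ_push hY hYu hG (isQ_of_isQuotOn hq)
  let i₁ : (VecSt.subsch X Y hY).Over (Spec (CommRingCat.of k)) :=
    ⟨VecSt.subschι X Y hY ≫ (X ↘ Spec (CommRingCat.of k))⟩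
  let i₂ : (VecSt.subsch (VecSt.subsch X Y hY) T hT).Over (Spec (CommRingCat.of k)) :=
    ⟨VecSt.subschι (VecSt.subsch X Y hY) T hT ≫ VecSt.subschι X Y hY ≫ (X ↘ Spec (CommRingCat.of k))⟩
  have e1 : Curv2.euler k (VecSt.subsch X Y hY) H = Curv2.euler k X
      ((Scheme.Modules.pushforward (VecSt.subschι X Y hY)).obj H) :=
    (VarietyB.HHPush.euler_push (VecSt.subschι X Y hY) k rfl H hq.2.1.1).symm
  have e2 : Curv2.deg k (VecSt.subsch (VecSt.subsch X Y hY) T hT)
      ((Scheme.Modules.pullback (VecSt.subschι (VecSt.subsch X Y hY) T hT)).obj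
        ((Scheme.Modules.pullback (VecSt.subschι X Y hY)).obj E)) r =
      wt (S1641.degC k X r E) (VecSt.subschι X Y hY '' T) := by
    have h1 := deg_pullback k hpure (VecSt.subschι (VecSt.subsch X Y hY) T hT ≫ VecSt.subschι X Y hY)
      (Category.assoc _ _ _) E r hE
    rw [Scheme.Hom.comp_base, TopCat.coe_comp, Set.range_comp, range_subschι] at h1
    rw [← h1]
    exact deg_congr k ((Scheme.Modules.pullbackComp _ _).app E) r
  have e3 : TFOne.rBeta (VecSt.subsch X Y hY) k
      (VecSt.subschι X Y hY ≫ (X ↘ Spec (CommRingCat.of k))) T hT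
      ((Scheme.Modules.pullback (VecSt.subschι X Y hY)).obj E) r H =
      r * Curv2.euler k (VecSt.subsch X Y hY) H + Curv2.deg k (VecSt.subsch (VecSt.subsch X Y hY) T hT)
      ((Scheme.Modules.pullback (VecSt.subschι (VecSt.subsch X Y hY) T hT)).obj
        ((Scheme.Modules.pullback (VecSt.subschι X Y hY)).obj E)) r := rfl
  rw [e3, e2, e1, b_eq k hN hH fun _ _ => Iff.rfl]
  exact hnn _

end Sub

end K975.SubSemi
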