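import Groth.Agent.TFOne.K975.Alg
import Groth.Agent.TFOne.K975.GeoInt
import Groth.Agent.TFOne.K975.SubSemi
import Mathlib.LinearAlgebra.Lagrange

/-!
# Simple torsion-free sheaves of rank one and decompositions
-/

set_option autoImplicit false
universe u
open CategoryTheory CategoryTheory.Limits AlgebraicGeometry TopologicalSpace Opposite Polynomial

set_option linter.unusedSectionVars false

namespace K975.Dec

open Groth.Agent Groth.Agent.CycB.StalkExact Groth.Agent.VarietyA.StalkCrit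
open Groth.Agent.CurvesB Groth.Agent.CurvesB.SubH1 Groth.Agent.CurvesB.GenStalk
open Groth.Agent.CurvesB.SubLemma Groth.Agent.CycB K975.Gen K975.Quot K975.Simple K975.Euler K975.Sub
open K975.BetaFn K975.Alg K975.FibK

variable {X : Scheme.{u}} (k : Type u) [Field k] [X.Over (Spec (CommRingCat.of k))]

section Aeval

variable {F : X.Modules} {φ : End F} {ξ : X} {a : X.presheaf.stalk ξ}
  (h : ∀ t : F.presheaf.stalk ξ, stalkLin (M := F) (N := F) φ ξ t = a • t)

include h in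
theorem stalk_pow (n : ℕ) (t : F.presheaf.stalk ξ) :
    stalkLin (M := F) (N := F) (φ ^ n) ξ t = a ^ n • t := by
  induction n generalizing t with
  | zero =>
    rw [pow_zero, pow_zero, one_smul]
    exact congr($(stalkLin_id F ξ) t)
  | succ n ih =>
    rw [pow_succ, End.mul_def, stalkLin_comp, LinearMap.comp_apply, h, ih, smul_smul, pow_succ]

theorem stalk_add' {α β : End F} {ξ : X} {t u v : F.presheaf.stalk ξ}
    (h1 : stalkLin (M := F) (N := F) α ξ t = u) (h2 : stalkLin (M := F) (N := F) β ξ t = v) :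
    stalkLin (M := F) (N := F) (α + β) ξ t = u + v := by
  rw [← h1, ← h2]
  exact PairLemma.stalkLin_add (M := F) (N := F) α β ξ t

theorem stalk_smul' {α : End F} {ξ : X} (c : k) {t u : F.presheaf.stalk ξ}
    (h1 : stalkLin (M := F) (N := F) α ξ t = u) :
    stalkLin (M := F) (N := F) (scal k F c * α) ξ t = Curv2.stalkMap k X ξ c • u := by
  rw [← h1, End.mul_def, stalkLin_comp, LinearMap.comp_apply, scal_apply, stalkLin_smulMod]

include h in
theorem stalk_aeval (p : k[X]) (t : F.presheaf.stalk ξ) :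
    letI := algEnd k F
    stalkLin (M := F) (N := F) (aeval φ p) ξ t = p.eval₂ (Curv2.stalkMap k X ξ) a • t := by
  let := algEnd k F
  induction p using Polynomial.induction_on' with
  | add p q hp hq =>
    have h1 : aeval φ (p + q) = aeval φ p + aeval φ q := map_add _ _ _
    rw [h1, eval₂_add, add_smul]
    exact stalk_add' hp hq
  | monomial n c =>
    have h1 : aeval φ (monomial n c) = scal k F c * φ ^ n := aeval_monomial _
    rw [h1, eval₂_monomial, mul_smul]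
    exact stalk_smul' k c (stalk_pow h n t)

end Aeval

theorem exists_eigen {F : X.Modules} (hF1 : TFOne.IsRkOne X F) {ξ : X} (hξ : IsGen ξ) (φ : F ⟶ F) :
    ∃ a : X.presheaf.stalk ξ, ∀ t, stalkLin φ ξ t = a • t := by
  obtain ⟨e⟩ := hF1 ξ ((mem_genericPoints_iff ξ).mpr hξ)
  refine ⟨e (stalkLin φ ξ (e.symm 1)), fun t => ?_⟩
  have ht : t = e t • e.symm 1 := by
    apply e.injective
    rw [map_smul, LinearEquiv.apply_symm_apply, smul_eq_mul, mul_one]
  have hs : ∀ s, s = e s • e.symm 1 := fun s => by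
    apply e.injective
    rw [map_smul, LinearEquiv.apply_symm_apply, smul_eq_mul, mul_one]
  calc stalkLin φ ξ t = e t • stalkLin φ ξ (e.symm 1) := by rw [← map_smul, ← ht]
    _ = e t • (e (stalkLin φ ξ (e.symm 1)) • e.symm 1) := by rw [← hs]
    _ = e (stalkLin φ ξ (e.symm 1)) • (e t • e.symm 1) := smul_comm _ _ _
    _ = _ := by rw [← ht]

variable [IsProper (X ↘ (Spec (CommRingCat.of k)))] [IsReduced X]

/-- The eigenvalue at a generic point is algebraic over the base field. -/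
theorem exists_algebraic (hpure : ∀ C ∈ irreducibleComponents (X : Type u), topologicalKrullDim C = 1)
    {F : X.Modules} (hF : TFOne.IsTF1 X F) {ξ : X} (hξ : IsGen ξ) (φ : F ⟶ F) {a : X.presheaf.stalk ξ}
    (ha : ∀ t, stalkLin φ ξ t = a • t) :
    ∃ p : k[X], p ≠ 0 ∧ p.eval₂ (Curv2.stalkMap k X ξ) a = 0 := by
  have hN : IsNoetherian X := isNoetherian k X
  have hn := nice_of_isTF1 hF
  have hdim := dim_le_one hpure
  -- the quotient at `ξ`
  let G := quo F {ξ}
  let π : F ⟶ G := quoπ F {ξ}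
  have hG : IsQ F {ξ} G π := isQ_quo hn.coh hn.tf {ξ} fun η hη _ => hn.nt η hη
  obtain ⟨ψ, hψ⟩ := hG.exists_end hn.gs φ
  have hbij := hG.bijective hn.gs hξ rfl
  have hψa : ∀ t, stalkLin ψ ξ t = a • t := by
    intro t
    obtain ⟨s, rfl⟩ := hbij.2 t
    rw [← LinearMap.comp_apply, ← stalkLin_comp, hψ, stalkLin_comp, LinearMap.comp_apply, ha, map_smul]
  -- a closed point
  obtain ⟨⟨w, hw, hwne⟩, hcl⟩ := DimOneTop.forall_irreducibleComponents_iff.mp hpure ξ
    (fun y hy => hξ y hy)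
  have hwc : IsClosed ({w} : Set X) := by
    rw [← closure_eq_iff_isClosed]
    refine le_antisymm (fun y hy => ?_) subset_closure
    exact hcl w hw hwne y (specializes_iff_mem_closure.mpr hy)
  have hwg : ¬ IsGen w := fun h => hwne (h ξ hw).symm
  have hne : ¬ Subsingleton (G.presheaf.stalk w) := by
    have h1 : w ∈ CohB1.support G := by
      rw [mem_support_iff hG.coh.2 hG.tf]
      exact ⟨ξ, hξ, hw, hG.nontrivial hξ rfl⟩
    exact h1
  let := algEnd k G
  obtain ⟨p, hp, hu⟩ := exists_poly k hdim hG.coh hwc hwg hne ψ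
  refine ⟨p, hp, ?_⟩
  by_contra hcon
  apply hu
  have hfield := isField_stalk ξ hξ
  obtain ⟨b, hb⟩ := hfield.mul_inv_cancel hcon
  let θ : G ⟶ G := aeval (show End G from ψ) p
  have hθ : ∀ t, stalkLin θ ξ t = p.eval₂ (Curv2.stalkMap k X ξ) a • t :=
    fun t => stalk_aeval k (φ := (show End G from ψ)) hψa p t
  have hsub : ∀ η, IsGen η → η ≠ ξ → Subsingleton (G.presheaf.stalk η) := fun η hη hne =>
    hG.subsingleton hη hne
  have hm : Mono θ := by
    refine hG.tf.mono θ fun η hη => ?_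
    by_cases h : η = ξ
    · subst h
      intro s t hst
      rw [hθ, hθ] at hst
      have := congrArg (fun z => b • z) hst
      simpa [smul_smul, mul_comm b, hb] using this
    · have := hsub η hη h
      exact fun s t _ => Subsingleton.elim _ _
  have hi : IsIso θ := by
    refine isIso_of_euler_le k hdim hG.coh hG.coh θ (fun η hη => ?_) le_rfl
    by_cases h : η = ξ
    · subst h
      intro t
      refine ⟨b • t, ?_⟩
      rw [hθ, smul_smul, hb, one_smul]
    · have := hsub η hη h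
      exact fun t => ⟨0, Subsingleton.elim _ _⟩
  exact (isUnit_iff_isIso θ).mpr hi

omit [IsProper (X ↘ (Spec (CommRingCat.of k)))] in
theorem exists_of_isIntegral {C : Set X} (hC : IsClosed C) [IsIntegral (VecSt.subsch X C hC)]
    [GeometricallyIntegral (VecSt.subschι X C hC ≫ (X ↘ Spec (CommRingCat.of k)))]
    {ζ : VecSt.subsch X C hC} (hζ : genericPoint (VecSt.subsch X C hC) = ζ)
    (hg : IsGen (VecSt.subschι X C hC ζ)) {p : k[X]} (hp : p ≠ 0)
    {a : X.presheaf.stalk (VecSt.subschι X C hC ζ)}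
    (ha : p.eval₂ (Curv2.stalkMap k X (VecSt.subschι X C hC ζ)) a = 0) :
    ∃ c, Curv2.stalkMap k X (VecSt.subschι X C hC ζ) c = a := by
  subst hζ
  let i := VecSt.subschι X C hC
  let q := i ≫ (X ↘ Spec (CommRingCat.of k))
  let γ := genericPoint (VecSt.subsch X C hC)
  obtain ⟨c, hc⟩ := K975.GeoInt.mem_range_functionField q (cst q γ) (fromSpecStalk_comp q γ)
    ((i.stalkMap γ).hom a) ⟨p, hp, by
      have h1 : cst q γ = (i.stalkMap γ).hom.comp (Curv2.stalkMap k X (i γ)) := by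
        ext c
        exact (stalkMap_cst (X ↘ Spec (CommRingCat.of k)) i γ c).symm
      rw [h1, ← Polynomial.hom_eval₂, ha, map_zero]⟩
  refine ⟨c, ?_⟩
  apply K975.SubSemi.stalkMap_injective_of_isGen i γ hg
  rw [← hc]
  exact stalkMap_cst (X ↘ Spec (CommRingCat.of k)) i γ c

/-- The eigenvalue at a generic point is a scalar if the component is geometrically integral. -/
theorem exists_scalar_at (hpure : ∀ C ∈ irreducibleComponents (X : Type u), topologicalKrullDim C = 1)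
    (hgi : ∀ (C : Set X) (hC : C ∈ irreducibleComponents (X : Type u)),
      GeometricallyIntegral (VecSt.subschι X C (isClosed_of_mem_irreducibleComponents C hC) ≫
        (X ↘ Spec (CommRingCat.of k))))
    {F : X.Modules} (hF : TFOne.IsTF1 X F) {ξ : X} (hξ : IsGen ξ) (φ : F ⟶ F) :
    ∃ c : k, ∀ t, stalkLin φ ξ t = Curv2.stalkMap k X ξ c • t := by
  obtain ⟨a, ha⟩ := exists_eigen hF.2.2 hξ φ
  obtain ⟨p, hp, hpa⟩ := exists_algebraic k hpure hF hξ φ ha
  obtain ⟨C, hCeq⟩ : ∃ C, C = closure {ξ} := ⟨_, rfl⟩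
  have hC : C ∈ irreducibleComponents (X : Type u) := by
    rw [hCeq]
    exact (DimOneTop.closure_mem_irreducibleComponents_iff ξ).mpr hξ
  have hg := hgi _ hC
  have hCc := isClosed_of_mem_irreducibleComponents _ hC
  let i := VecSt.subschι X C hCc
  obtain ⟨ζ, hζ⟩ : ∃ ζ, i ζ = ξ := exists_eq C hCc (hCeq ▸ subset_closure rfl)
  have hgenζ : ∀ z, ζ ⤳ z := fun z => by
    rw [← specializes_iff i, hζ, specializes_iff_mem_closure, ← hCeq]
    exact mem _ hCc z
  have hcl : closure {ζ} = (Set.univ : Set (VecSt.subsch X C hCc)) :=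
    Set.eq_univ_of_forall fun z => specializes_iff_mem_closure.mp (hgenζ z)
  have hirr : IrreducibleSpace (VecSt.subsch X C hCc) := by
    rw [irreducibleSpace_def]
    change IsIrreducible (Set.univ : Set (VecSt.subsch X C hCc))
    rw [← hcl]
    exact isIrreducible_singleton.closure
  have hint : IsIntegral (VecSt.subsch X C hCc) :=
    isIntegral_of_irreducibleSpace_of_isReduced _
  have hgp : genericPoint (VecSt.subsch X C hCc) = ζ :=
    (genericPoint_spec _).eq hcl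
  subst hζ
  obtain ⟨c, hc⟩ := exists_of_isIntegral k hCc hgp hξ hp hpa
  exact ⟨c, fun t => by rw [hc]; exact ha t⟩

/-- A non-scalar endomorphism decomposes the sheaf. -/
theorem exists_idempotent {F : X.Modules} (φ : F ⟶ F) (c : X → k)
    (hc : ∀ ξ, IsGen ξ → ∀ t, stalkLin φ ξ t = Curv2.stalkMap k X ξ (c ξ) • t) (c₀ : k) :
    ∃ ε : F ⟶ F, ∀ ξ, IsGen ξ → ∀ t, (c ξ = c₀ → stalkLin ε ξ t = t) ∧ (c ξ ≠ c₀ → stalkLin ε ξ t = 0) := by
  classical
  have hN : IsNoetherian X := isNoetherian k X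
  have hfin : {ξ : X | IsGen ξ}.Finite := SubClosed.finite_isGen X
  let D : Finset k := hfin.toFinset.image c
  let q : k[X] := Lagrange.interpolate D id (fun d => if d = c₀ then 1 else 0)
  let := algEnd k F
  refine ⟨aeval (show End F from φ) q, fun ξ hξ t => ?_⟩
  have h1 := stalk_aeval k (φ := (show End F from φ)) (hc ξ hξ) q t
  rw [h1, Polynomial.eval₂_at_apply]
  have hcD : c ξ ∈ D := Finset.mem_image.mpr ⟨ξ, hfin.mem_toFinset.mpr hξ, rfl⟩
  have h2 : q.eval (c ξ) = if c ξ = c₀ then 1 else 0 :=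
    Lagrange.eval_interpolate_at_node (s := D) (v := id) (i := c ξ) (fun d => if d = c₀ then 1 else 0)
      (Function.injective_id.injOn) hcD
  rw [h2]
  refine ⟨fun h => ?_, fun h => ?_⟩
  · rw [if_pos h, map_one, one_smul]
  · rw [if_neg h, map_zero, zero_smul]

/-- An idempotent endomorphism gives a decomposition. -/
theorem isIso_of_idempotent {F GY GZ : X.Modules} (hF : Nice F) {Y Z : Set X} {πY : F ⟶ GY} {πZ : F ⟶ GZ}
    (hY : IsQ F Y GY πY) (hZ : IsQ F Z GZ πZ) (hYZ : ∀ ξ, IsGen ξ → (ξ ∈ Z ↔ ξ ∉ Y)) (ε : F ⟶ F)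
    (h1 : ∀ ξ, IsGen ξ → ξ ∈ Y → ∀ t, stalkLin ε ξ t = t)
    (h0 : ∀ ξ, IsGen ξ → ξ ∉ Y → ∀ t, stalkLin ε ξ t = 0) : IsIso (biprod.lift πY πZ) := by
  have := hY.epi
  have := hZ.epi
  have e1 : ∀ ξ, IsGen ξ → ξ ∈ Y → ∀ t, stalkLin (𝟙 F - ε) ξ t = 0 := fun ξ hξ hS t => by
    rw [stalkLin_sub, h1 ξ hξ hS, sub_eq_zero]
    exact congr($(stalkLin_id F ξ) t)
  have e0 : ∀ ξ, IsGen ξ → ξ ∉ Y → ∀ t, stalkLin (𝟙 F - ε) ξ t = t := fun ξ hξ hS t => by
    rw [stalkLin_sub, h0 ξ hξ hS, sub_zero]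
    exact congr($(stalkLin_id F ξ) t)
  have kill : ∀ {G : X.Modules} (π : F ⟶ G) [Epi π] (θ : F ⟶ F),
      (∀ ξ, IsGen ξ → (∀ t, stalkLin θ ξ t = 0) ∨ Function.Injective (stalkLin π ξ)) →
      kernel.ι π ≫ θ = 0 := by
    intro G π _ θ h
    refine hF.tf.hom_eq_zero _ fun ξ hξ => LinearMap.ext fun t => ?_
    rcases h ξ hξ with h2 | h2
    · rw [stalkLin_comp, LinearMap.comp_apply, h2]; rfl
    · have := (subsingleton_kernel_stalk_iff π ξ).mpr h2
      rw [Subsingleton.elim t 0, map_zero, map_zero]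
  have hkY : kernel.ι πY ≫ ε = 0 := kill πY ε fun ξ hξ => by
    by_cases h : ξ ∈ Y
    · exact Or.inr (hY.injective hF.gs hξ h)
    · exact Or.inl (h0 ξ hξ h)
  have hkZ : kernel.ι πZ ≫ (𝟙 F - ε) = 0 := kill πZ (𝟙 F - ε) fun ξ hξ => by
    by_cases h : ξ ∈ Y
    · exact Or.inl (e1 ξ hξ h)
    · exact Or.inr (hZ.injective hF.gs hξ ((hYZ ξ hξ).mpr h))
  let σY : GY ⟶ F := Abelian.epiDesc πY ε hkY
  let σZ : GZ ⟶ F := Abelian.epiDesc πZ (𝟙 F - ε) hkZ
  have hσY : πY ≫ σY = ε := Abelian.comp_epiDesc _ _ _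
  have hσZ : πZ ≫ σZ = 𝟙 F - ε := Abelian.comp_epiDesc _ _ _
  have hZY : ∀ ξ, IsGen ξ → ξ ∈ Y → Subsingleton (GZ.presheaf.stalk ξ) := fun ξ hξ h =>
    hZ.subsingleton hξ fun h' => (hYZ ξ hξ).mp h' h
  have hYY : ∀ ξ, IsGen ξ → ξ ∉ Y → Subsingleton (GY.presheaf.stalk ξ) := fun ξ hξ h =>
    hY.subsingleton hξ h
  have c1 : σY ≫ πY = 𝟙 GY := by
    rw [← cancel_epi πY, ← Category.assoc, hσY, Category.comp_id, ← sub_eq_zero]
    refine hY.tf.hom_eq_zero _ fun ξ hξ => LinearMap.ext fun t => ?_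
    by_cases h : ξ ∈ Y
    · rw [stalkLin_sub, stalkLin_comp, LinearMap.comp_apply, h1 ξ hξ h, sub_self]; rfl
    · have := hYY ξ hξ h
      exact Subsingleton.elim _ _
  have c2 : σY ≫ πZ = 0 := by
    rw [← cancel_epi πY, ← Category.assoc, hσY, Limits.comp_zero]
    refine hZ.tf.hom_eq_zero _ fun ξ hξ => LinearMap.ext fun t => ?_
    by_cases h : ξ ∈ Y
    · have := hZY ξ hξ h
      exact Subsingleton.elim _ _
    · rw [stalkLin_comp, LinearMap.comp_apply, h0 ξ hξ h, map_zero]; rfl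
  have c3 : σZ ≫ πY = 0 := by
    rw [← cancel_epi πZ, ← Category.assoc, hσZ, Limits.comp_zero]
    refine hY.tf.hom_eq_zero _ fun ξ hξ => LinearMap.ext fun t => ?_
    by_cases h : ξ ∈ Y
    · rw [stalkLin_comp, LinearMap.comp_apply, e1 ξ hξ h, map_zero]; rfl
    · have := hYY ξ hξ h
      exact Subsingleton.elim _ _
  have c4 : σZ ≫ πZ = 𝟙 GZ := by
    rw [← cancel_epi πZ, ← Category.assoc, hσZ, Category.comp_id, ← sub_eq_zero]
    refine hZ.tf.hom_eq_zero _ fun ξ hξ => LinearMap.ext fun t => ?_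
    by_cases h : ξ ∈ Y
    · have := hZY ξ hξ h
      exact Subsingleton.elim _ _
    · rw [stalkLin_sub, stalkLin_comp, LinearMap.comp_apply, e0 ξ hξ h, sub_self]; rfl
  refine ⟨⟨biprod.desc σY σZ, ?_, ?_⟩⟩
  · rw [biprod.lift_desc, hσY, hσZ, add_sub_cancel]
  · refine biprod.hom_ext' _ _ ?_ ?_
    · rw [← Category.assoc, biprod.inl_desc, Category.comp_id]
      refine biprod.hom_ext _ _ ?_ ?_
      · rw [Category.assoc, biprod.lift_fst, c1, biprod.inl_fst]
      · rw [Category.assoc, biprod.lift_snd, c2, biprod.inl_snd]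
    · rw [← Category.assoc, biprod.inr_desc, Category.comp_id]
      refine biprod.hom_ext _ _ ?_ ?_
      · rw [Category.assoc, biprod.lift_fst, c3, biprod.inr_fst]
      · rw [Category.assoc, biprod.lift_snd, c4, biprod.inr_snd]

/-- A sheaf without decompositions has only scalar endomorphisms. -/
theorem onlyScalars (hpure : ∀ C ∈ irreducibleComponents (X : Type u), topologicalKrullDim C = 1)
    (hgi : ∀ (C : Set X) (hC : C ∈ irreducibleComponents (X : Type u)),
      GeometricallyIntegral (VecSt.subschι X C (isClosed_of_mem_irreducibleComponents C hC) ≫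
        (X ↘ Spec (CommRingCat.of k)))) [Nonempty X]
    {F : X.Modules} (hF : TFOne.IsTF1 X F)
    (h : ¬ ∃ (Y Z : Set X) (_ : IsClosed Y) (_ : IsClosed Z) (GY GZ : X.Modules) (πY : F ⟶ GY)
      (πZ : F ⟶ GZ), VecSt.IsSubcurve X Y ∧ VecSt.IsSubcurve X Z ∧ Y ≠ Set.univ ∧ Z ≠ Set.univ ∧
      TFOne.IsQuotOn X F Y GY πY ∧ TFOne.IsQuotOn X F Z GZ πZ ∧ IsIso (biprod.lift πY πZ)) :
    OnlyScalars k F := by
  intro φ
  have hN : IsNoetherian X := isNoetherian k X
  have hn := nice_of_isTF1 hF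
  have hex : ∀ ξ : X, ∃ c : k, IsGen ξ → ∀ t, stalkLin φ ξ t = Curv2.stalkMap k X ξ c • t := fun ξ => by
    by_cases hξ : IsGen ξ
    · obtain ⟨c, hc⟩ := exists_scalar_at k hpure hgi hF hξ φ
      exact ⟨c, fun _ => hc⟩
    · exact ⟨0, fun h => absurd h hξ⟩
  choose c hc using hex
  obtain ⟨ξ₀, hξ₀, -⟩ := DimOneTop.exists_generic_specializes (Classical.arbitrary X)
  refine ⟨c ξ₀, ?_⟩
  by_contra hne
  obtain ⟨η, hη, hηc⟩ : ∃ η, IsGen η ∧ c η ≠ c ξ₀ := by
    by_contra hcon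
    push Not at hcon
    exact hne (eq_smulMod k hn.tf φ (c ξ₀) fun ξ hξ t => by rw [← hcon ξ hξ]; exact hc ξ hξ t)
  obtain ⟨ε, hε⟩ := exists_idempotent k φ c (fun ξ hξ => hc ξ hξ) (c ξ₀)
  let T : Set X := {ξ | c ξ = c ξ₀}
  have hY := isQuotOn_cl hn T
  have hZ := isQuotOn_cl hn Tᶜ
  apply h
  refine ⟨cl T, cl Tᶜ, isClosed_cl T, isClosed_cl Tᶜ, _, _, _, _, isSubcurve_cl ⟨ξ₀, hξ₀, rfl⟩,
    isSubcurve_cl ⟨η, hη, hηc⟩, ?_, ?_, hY, hZ, ?_⟩
  · rw [ne_univ_iff (isUC_cl T)]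
    exact ⟨η, hη, fun h1 => hηc ((mem_cl_iff hη).mp h1)⟩
  · rw [ne_univ_iff (isUC_cl Tᶜ)]
    exact ⟨ξ₀, hξ₀, fun h1 => (mem_cl_iff hξ₀).mp h1 rfl⟩
  · refine isIso_of_idempotent hn (isQ_of_isQuotOn hY) (isQ_of_isQuotOn hZ) (fun ξ hξ => ?_) ε
      (fun ξ hξ h1 t => ?_) (fun ξ hξ h1 t => ?_)
    · rw [mem_cl_iff hξ, mem_cl_iff hξ]
      exact Iff.rfl
    · exact (hε ξ hξ t).1 ((mem_cl_iff hξ).mp h1)
    · exact (hε ξ hξ t).2 (fun h2 => h1 ((mem_cl_iff hξ).mpr h2))

/-- A decomposed sheaf has a non-scalar endomorphism. -/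
theorem not_onlyScalars {F GY GZ : X.Modules} (hF : Nice F) {Y Z : Set X} {πY : F ⟶ GY} {πZ : F ⟶ GZ}
    (hY : IsQ F Y GY πY) (hZ : IsQ F Z GZ πZ) (hYn : ∃ ξ, IsGen ξ ∧ ξ ∈ Y) (hZn : ∃ ξ, IsGen ξ ∧ ξ ∈ Z)
    (hi : IsIso (biprod.lift πY πZ)) : ¬ OnlyScalars k F := by
  intro hs
  obtain ⟨c, hc⟩ := hs (πY ≫ biprod.inl ≫ inv (biprod.lift πY πZ))
  have h1 : (πY ≫ biprod.inl ≫ inv (biprod.lift πY πZ)) ≫ πY = πY := by
    have : inv (biprod.lift πY πZ) ≫ πY = biprod.fst := by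
      rw [IsIso.inv_comp_eq, biprod.lift_fst]
    rw [Category.assoc, Category.assoc, this, biprod.inl_fst, Category.comp_id]
  have h2 : (πY ≫ biprod.inl ≫ inv (biprod.lift πY πZ)) ≫ πZ = 0 := by
    have : inv (biprod.lift πY πZ) ≫ πZ = biprod.snd := by
      rw [IsIso.inv_comp_eq, biprod.lift_snd]
    rw [Category.assoc, Category.assoc, this, biprod.inl_snd, Limits.comp_zero]
  rw [hc] at h1 h2
  have hc0 : c = 0 := by
    obtain ⟨ξ, hξ, hξZ⟩ := hZn
    obtain ⟨t, ht⟩ := exists_ne_zero_of_isGen (hF.nt ξ hξ)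
    rw [← smul_eq_zero_iff k ht]
    apply hZ.injective hF.gs hξ hξZ
    rw [← stalkLin_smulMod, ← LinearMap.comp_apply, ← stalkLin_comp, h2, map_zero]
    exact PairLemma.stalkLin_zero' _ _ _ _
  obtain ⟨ξ, hξ, hξY⟩ := hYn
  apply hY.nontrivial hξ hξY
  rw [hc0, FormalB.ModPow.smulMod_zero, Limits.zero_comp] at h1
  have := hY.epi
  refine subsingleton_of_forall_eq 0 fun m => ?_
  obtain ⟨t, rfl⟩ := stalkLin_surjective πY ξ m
  rw [← h1]
  exact PairLemma.stalkLin_zero' _ _ _ _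

end K975.Dec
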