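import Groth.Agent.TFOne.K975.ModQ
import Groth.Agent.TFOne.K975.Beta

/-!
# The function `T ↦ r χ(F_T) + d(T)` on sets of generic points

* `cl T`: the union of the components with generic point in `T`;
* `b k r d F T = r χ(F_T) + wt d T`;
* `rBeta_eq_b`, `isSemistable_iff`, `isStable_iff`, `isQuasistableAtPt_iff`;
* `b_submodular`, `b_mod_le`, `b_mod_compl`, `b_mod_univ`, `isIso_lift_mod_iff`.
-/

set_option autoImplicit false
universe u
open CategoryTheory CategoryTheory.Limits AlgebraicGeometry TopologicalSpace Opposite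

set_option linter.unusedSectionVars false

namespace K975.BetaFn

open Groth.Agent Groth.Agent.CycB.StalkExact Groth.Agent.VarietyA.StalkCrit
open Groth.Agent.CurvesB Groth.Agent.CurvesB.SubH1 Groth.Agent.CurvesB.GenStalk
open Groth.Agent.CurvesB.SubLemma Groth.Agent.CycB K975.Gen K975.Quot K975.Simple K975.Sub K975.Euler
open K975.Beta K975.ModQ

variable {X : Scheme.{u}}

/-- The union of the irreducible components with generic point in `T`. -/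
def cl (T : Set X) : Set X := {x | ∃ ξ, IsGen ξ ∧ ξ ∈ T ∧ ξ ⤳ x}

theorem mem_cl_iff {T : Set X} {ξ : X} (hξ : IsGen ξ) : ξ ∈ cl T ↔ ξ ∈ T := by
  constructor
  · rintro ⟨η, -, h2, h3⟩
    rwa [hξ η h3] at h2
  · exact fun h => ⟨ξ, hξ, h, specializes_rfl⟩

theorem isUC_cl (T : Set X) : IsUC (cl T) := by
  intro x
  constructor
  · rintro ⟨ξ, h1, h2, h3⟩
    exact ⟨ξ, h1, (mem_cl_iff h1).mpr h2, h3⟩
  · rintro ⟨ξ, h1, h2, h3⟩
    exact ⟨ξ, h1, (mem_cl_iff h1).mp h2, h3⟩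

theorem isClosed_cl [NoetherianSpace X] (T : Set X) : IsClosed (cl T) := isClosed_of_isUC (isUC_cl T)

theorem isSubcurve_cl {T : Set X} (h : ∃ ξ, IsGen ξ ∧ ξ ∈ T) : VecSt.IsSubcurve X (cl T) := by
  obtain ⟨ξ, h1, h2⟩ := h
  exact isSubcurve_of_isUC (isUC_cl T) ⟨ξ, h1, (mem_cl_iff h1).mpr h2⟩

theorem ne_univ_iff {Z : Set X} (hZ : IsUC Z) : Z ≠ Set.univ ↔ ∃ ξ, IsGen ξ ∧ ξ ∉ Z := by
  constructor
  · intro h
    by_contra hcon
    push Not at hcon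
    exact h (hZ.eq_of_gp isUC_univ fun ξ hξ => by simpa using hcon ξ hξ)
  · rintro ⟨ξ, -, h⟩ rfl
    exact h trivial

theorem cl_subset {Z T : Set X} (hZ : IsClosed Z) (h : ∀ ξ, IsGen ξ → ξ ∈ T → ξ ∈ Z) : cl T ⊆ Z := by
  rintro x ⟨ξ, h1, h2, h3⟩
  exact h3.mem_closed hZ (h ξ h1 h2)

theorem closure_subset_cl {T : Set X} {ξ : X} (hξ : IsGen ξ) (hT : ξ ∈ T) : closure {ξ} ⊆ cl T :=
  fun _ hx => ⟨ξ, hξ, hT, specializes_iff_mem_closure.mpr hx⟩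

/-- A coherent torsion-free module of rank one. -/
structure Nice (F : X.Modules) : Prop where
  coh : Coh.IsCoh F
  tf : TF F
  gs : GenSimple F
  nt : ∀ ξ, IsGen ξ → ¬ Subsingleton (F.presheaf.stalk ξ)

theorem nice_of_isTF1 [IsReduced X] [IsLocallyNoetherian X] {F : X.Modules} (h : TFOne.IsTF1 X F) : Nice F :=
  ⟨h.1, tf_of_isTorsionFree h.1.1 h.2.1, genSimple_of_isRkOne h.2.2,
    fun _ hξ => nontrivial_of_isRkOne h.2.2 hξ⟩

section

variable (k : Type u) [Field k] [X.Over (Spec (CommRingCat.of k))]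
  [IsProper (X ↘ (Spec (CommRingCat.of k)))]

theorem euler_of_isZero {F : X.Modules} (hF : IsZero F) : Curv2.euler k X F = 0 := by
  have hs : (ShortComplex.mk (0 : F ⟶ F) (0 : F ⟶ F) (by simp)).ShortExact := by
    refine { exact := ShortComplex.exact_of_isZero_X₂ _ hF, mono_f := ?_, epi_g := ?_ }
    · exact ⟨fun g h _ => hF.eq_of_tgt _ _⟩
    · exact ⟨fun g h _ => hF.eq_of_src _ _⟩
  have hc : Coh.IsCoh F := by
    have h1 := isNoetherian k X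
    have h2 := CurvesB.UnitCoh.isCoh_structureModule X
    have h3 := Sga67.CohBasic.isCoh_kernel (𝟙 (Coh.structureModule X)) h2 h2.1
    have e : F ≅ kernel (𝟙 (Coh.structureModule X)) := hF.iso (isZero_kernel_of_mono _)
    exact PerfA.CohSerre.isCoh_of_iso e.symm h3
  have := euler_ses k (S := ShortComplex.mk (0 : F ⟶ F) (0 : F ⟶ F) (by simp)) hs hc hc hc
  dsimp at this
  omega

variable [IsNoetherian X] (r : ℕ) (d : irreducibleComponents (X : Type u) → ℤ)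

/-- `r χ(F_T) + d(T)`. -/
noncomputable def b (F : X.Modules) (T : Set X) : ℤ :=
  r * Curv2.euler k X (quo F T) + wt d T

variable {r d}

omit [IsProper (X ↘ (Spec (CommRingCat.of k)))] in
theorem b_eq {F G : X.Modules} (hF : Nice F) {S T : Set X} {π : F ⟶ G} (h : IsQ F S G π)
    (hS : ∀ ξ, IsGen ξ → (ξ ∈ S ↔ ξ ∈ T)) :
    r * Curv2.euler k X G + wt d S = b k r d F T := by
  have h2 := isQ_quo hF.coh hF.tf T fun ξ hξ _ => hF.nt ξ hξ
  obtain ⟨e, -⟩ := h.exists_iso hF.gs h2 hS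
  rw [b, euler_congr k e, wt_congr d hS]

omit [IsProper (X ↘ (Spec (CommRingCat.of k)))] in
theorem b_congr {F : X.Modules} (hF : Nice F) {S T : Set X}
    (hS : ∀ ξ, IsGen ξ → (ξ ∈ S ↔ ξ ∈ T)) : b k r d F S = b k r d F T :=
  b_eq k hF (isQ_quo hF.coh hF.tf S fun ξ hξ _ => hF.nt ξ hξ) hS

omit [IsProper (X ↘ (Spec (CommRingCat.of k)))] in
theorem isQ_id {F : X.Modules} (hF : Nice F) : IsQ F Set.univ F (𝟙 F) :=
  ⟨inferInstance, hF.coh, hF.tf, fun ξ hξ => by simpa using hF.nt ξ hξ⟩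

omit [IsProper (X ↘ (Spec (CommRingCat.of k)))] in
theorem b_univ {F : X.Modules} (hF : Nice F) :
    b k r d F Set.univ = r * Curv2.euler k X F + wt d Set.univ :=
  (b_eq k hF (isQ_id hF) fun _ _ => Iff.rfl).symm

theorem b_of_empty {F : X.Modules} (hF : Nice F) {T : Set X} (hT : ∀ ξ, IsGen ξ → ξ ∉ T) :
    b k r d F T = 0 := by
  have h := isQ_quo hF.coh hF.tf T fun ξ hξ _ => hF.nt ξ hξ
  have h0 : IsZero (quo F T) := by
    rw [IsZero.iff_id_eq_zero]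
    exact h.tf.hom_eq_zero' _ fun ξ hξ => Or.inl (h.subsingleton hξ (hT ξ hξ))
  rw [b, euler_of_isZero k h0, wt_eq_zero d hT]
  ring

omit [X.Over (Spec (CommRingCat.of k))] [IsProper (X ↘ (Spec (CommRingCat.of k)))] in
theorem isQuotOn_cl [IsReduced X] {F : X.Modules} (hF : Nice F) (T : Set X) :
    TFOne.IsQuotOn X F (cl T) (quo F (cl T)) (quoπ F (cl T)) :=
  isQuotOn_of_isQ (isUC_cl T) (isQ_quo hF.coh hF.tf (cl T) fun ξ hξ _ => hF.nt ξ hξ)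

/-- Submodularity. -/
theorem b_submodular (hdim : topologicalKrullDim X ≤ 1) {F : X.Modules} (hF : Nice F) {Y Z U W : Set X}
    (hU : ∀ ξ, IsGen ξ → (ξ ∈ U ↔ ξ ∈ Y ∨ ξ ∈ Z)) (hW : ∀ ξ, IsGen ξ → (ξ ∈ W ↔ ξ ∈ Y ∧ ξ ∈ Z)) :
    b k r d F U + b k r d F W ≤ b k r d F Y + b k r d F Z := by
  have hq := fun T => isQ_quo hF.coh hF.tf T fun ξ hξ _ => hF.nt ξ hξ
  have h1 := euler_submodular k hdim hF.gs (hq Y) (hq Z) (hq U) (hq W) hU hW
  have h2 := wt_modular d hU hW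
  have h3 := mul_le_mul_of_nonneg_left h1 (Int.natCast_nonneg r)
  unfold b
  rw [mul_add, mul_add] at h3
  linarith

section Mod

variable {F N G : X.Modules} {Y : Set X} {π : F ⟶ G} {α : G ⟶ N} {β : N ⟶ kernel π}
  {w : α ≫ β = 0} (hG : IsQ F Y G π) (hF : Nice F) (hNc : Coh.IsCoh N)
  (hex : (ShortComplex.mk α β w).ShortExact)

include hG hF hNc hex in
omit [IsProper (X ↘ (Spec (CommRingCat.of k)))] in
theorem nice_N : Nice N :=
  ⟨hNc, tf_N hG hF.tf hex, genSimple_N hG hF.gs hex, nontrivial_N hG hF.gs hex hF.nt⟩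

include hG hF hNc hex in
/-- The main inequality. -/
theorem b_mod_le (hdim : topologicalKrullDim X ≤ 1) {Z U W : Set X}
    (hU : ∀ ξ, IsGen ξ → (ξ ∈ U ↔ ξ ∈ Y ∨ ξ ∈ Z)) (hW : ∀ ξ, IsGen ξ → (ξ ∈ W ↔ ξ ∈ Y ∧ ξ ∈ Z)) :
    b k r d F W + b k r d F U ≤ b k r d N Z + b k r d F Y := by
  have hN := nice_N hG hF hNc hex
  have hq := fun T => isQ_quo hF.coh hF.tf T fun ξ hξ _ => hF.nt ξ hξ
  have hq' := isQ_quo hN.coh hN.tf Z fun ξ hξ _ => hN.nt ξ hξ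
  have h1 := euler_le hG hF.gs hex k (hq U) (hq W) hq' hU hW hdim
  have h2 := wt_modular d hU hW
  have h3 := mul_le_mul_of_nonneg_left h1 (Int.natCast_nonneg r)
  rw [← b_eq k hF hG (fun _ _ => Iff.rfl)]
  unfold b
  rw [mul_add, mul_add] at h3
  linarith

include hG hF hNc hex in
theorem b_mod_univ : b k r d N Set.univ = b k r d F Set.univ := by
  rw [b_univ k hF, b_univ k (nice_N hG hF hNc hex), euler_N' hG hex k hF.coh hNc]

include hG hF hNc hex in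
theorem b_mod_compl {V : Set X} (hV : ∀ ξ, IsGen ξ → (ξ ∈ V ↔ ξ ∉ Y)) :
    b k r d N V = b k r d F Set.univ - b k r d F Y := by
  have hN := nice_N hG hF hNc hex
  have := hG.epi
  rw [b_univ k hF, ← b_eq k hF hG (fun _ _ => Iff.rfl),
    ← b_eq k hN (isQ_β hG hF.gs hF.tf hex hF.coh hF.nt) (fun ξ hξ => (hV ξ hξ).symm),
    euler_kernel k hF.coh hG.coh π]
  have h2 := wt_modular d (A := Y) (B := {ξ | ξ ∉ Y}) (U := Set.univ) (W := ∅)
    (fun ξ _ => by simpa using Classical.em (ξ ∈ Y)) (fun ξ _ => by simp)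
  rw [wt_eq_zero d (A := ∅) (fun _ _ => Set.notMem_empty _), add_zero] at h2
  rw [h2]
  ring

include hG hF hNc hex in
/-- Minimality. -/
theorem mod_min_subset (hdim : topologicalKrullDim X ≤ 1) (hnn : ∀ T, 0 ≤ b k r d F T) {Z : Set X}
    (hY0 : b k r d F Y = 0) (hZ0 : b k r d N Z = 0) {ξ₀ : X} (hξY : ξ₀ ∈ Y)
    (hξZ : ξ₀ ∈ Z) (hmin : ∀ T : Set X, ξ₀ ∈ T → b k r d F T = 0 → ∀ ξ, IsGen ξ → ξ ∈ Y → ξ ∈ T)
    (ξ : X) (hξ : IsGen ξ) (h : ξ ∈ Y) : ξ ∈ Z := by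
  have key := b_mod_le k hG hF hNc hex hdim (r := r) (d := d) (Z := Z) (U := Y ∪ Z) (W := Y ∩ Z)
    (fun ξ _ => Iff.rfl) (fun ξ _ => Iff.rfl)
  rw [hY0, hZ0] at key
  have h1 : b k r d F (Y ∩ Z) = 0 := le_antisymm (by linarith [hnn (Y ∪ Z)]) (hnn _)
  exact (hmin (Y ∩ Z) ⟨hξY, hξZ⟩ h1 ξ hξ h).2

include hG hF hNc hex in
/-- The equality case. -/
theorem mod_eq_iff (hr : 0 < r) {Z U W V Y' T : Set X}
    (hU : ∀ ξ, IsGen ξ → (ξ ∈ U ↔ ξ ∈ Y ∨ ξ ∈ Z)) (hW : ∀ ξ, IsGen ξ → (ξ ∈ W ↔ ξ ∈ Y ∧ ξ ∈ Z))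
    (hV : ∀ ξ, IsGen ξ → (ξ ∈ V ↔ ξ ∈ Z ∧ ξ ∉ Y)) (hY' : ∀ ξ, IsGen ξ → (ξ ∈ Y' ↔ ξ ∉ Y))
    (hT : ∀ ξ, IsGen ξ → (ξ ∈ T ↔ ξ ∈ W ∨ ξ ∈ Y')) {NV NY' NT NZ : X.Modules} {νV : N ⟶ NV}
    {νY' : N ⟶ NY'} {νT : N ⟶ NT} {νZ : N ⟶ NZ} (qV : IsQ N V NV νV) (qY' : IsQ N Y' NY' νY')
    (qT : IsQ N T NT νT) (qZ : IsQ N Z NZ νZ) :
    b k r d F W + b k r d F U = b k r d N Z + b k r d F Y ↔
      Curv2.euler k X NY' - Curv2.euler k X NT = Curv2.euler k X NV - Curv2.euler k X NZ := by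
  have hN := nice_N hG hF hNc hex
  have hq := fun T => isQ_quo hF.coh hF.tf T fun ξ hξ _ => hF.nt ξ hξ
  have h1 := euler_U hG hF.gs hex k (hq U) qV hU hV
  have h2 := euler_eq_of_compl hG hF.gs hF.tf hex k hF.coh (hq W) qT qY' (Z := T) (V := Y')
    (fun ξ hξ => by
      rw [hT ξ hξ, hY' ξ hξ, hW ξ hξ]
      tauto)
    (fun ξ hξ => by
      rw [hT ξ hξ, hY' ξ hξ, hW ξ hξ]
      tauto) hF.nt (fun ξ hξ h => (hT ξ hξ).mpr (Or.inr ((hY' ξ hξ).mpr h)))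
  have h3 := wt_modular d hU hW
  rw [← b_eq k hF (hq W) (fun _ _ => Iff.rfl), ← b_eq k hF (hq U) (fun _ _ => Iff.rfl),
    ← b_eq k hN qZ (fun _ _ => Iff.rfl), ← b_eq k hF hG (fun _ _ => Iff.rfl), h1, h2]
  have hr' : (0 : ℤ) < r := by exact_mod_cast hr
  constructor
  · intro h
    have h4 : (r : ℤ) * (Curv2.euler k X (quo F W) + Curv2.euler k X NV - Curv2.euler k X NZ) = 0 := by
      linarith
    rcases mul_eq_zero.mp h4 with h5 | h5
    · omega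
    · omega
  · intro h
    have h4 : Curv2.euler k X NZ = Curv2.euler k X (quo F W) + Curv2.euler k X NV := by omega
    rw [h4]
    linarith

include hG hF hNc hex in
/-- Decomposition of the modification. -/
theorem isIso_lift_mod_iff (hdim : topologicalKrullDim X ≤ 1) (hr : 0 < r) {Y' : Set X}
    (hY' : ∀ ξ, IsGen ξ → (ξ ∈ Y' ↔ ξ ∉ Y)) {G₁ G₂ : X.Modules} {π₁ : N ⟶ G₁} {π₂ : N ⟶ G₂}
    (q₁ : IsQ N Y G₁ π₁) (q₂ : IsQ N Y' G₂ π₂) :
    IsIso (biprod.lift π₁ π₂) ↔ b k r d N Y = b k r d F Y := by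
  have hN := nice_N hG hF hNc hex
  rw [isIso_lift_iff k hdim hNc hN.gs hN.tf q₁ q₂
    (fun ξ hξ => by rw [hY' ξ hξ]; exact Classical.em _)
    (fun ξ hξ => by rw [hY' ξ hξ]; tauto), euler_N hG hex k hF.coh hNc,
    euler_eq_of_isQ k hN.gs (isQ_β hG hF.gs hF.tf hex hF.coh hF.nt) q₂ (fun ξ hξ => (hY' ξ hξ).symm),
    ← b_eq k hF hG (fun _ _ => Iff.rfl), ← b_eq k hN q₁ (fun _ _ => Iff.rfl)]
  have hr' : (0 : ℤ) < r := by exact_mod_cast hr
  constructor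
  · intro h
    have : Curv2.euler k X G₁ = Curv2.euler k X G := by omega
    rw [this]
  · intro h
    have h4 : (r : ℤ) * (Curv2.euler k X G₁ - Curv2.euler k X G) = 0 := by linarith
    rcases mul_eq_zero.mp h4 with h5 | h5 <;> omega

end Mod

/-! ### Stability -/

section Stab

variable [IsReduced X] (hpure : ∀ C ∈ irreducibleComponents (X : Type u), topologicalKrullDim C = 1)
  {E : X.Modules} (hE : FlatMod.IsFinLocFreeOfRank r E)

include hpure hE in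
theorem rBeta_eq_b {F G : X.Modules} (hF : Nice F) {Z : Set X} (hZ : IsClosed Z) {π : F ⟶ G}
    (h : TFOne.IsQuotOn X F Z G π) :
    TFOne.rBeta X k (X ↘ (Spec (CommRingCat.of k))) Z hZ E r G =
      b k r (S1641.degC k X r E) F Z := by
  rw [rBeta_eq k hpure E r hE Z hZ G]
  exact b_eq k hF (isQ_of_isQuotOn h) fun _ _ => Iff.rfl

include hpure hE in
/-- A condition on the numbers `rBeta` of all subcurves in terms of `b`. -/
theorem forall_iff {F : X.Modules} (hF : Nice F) (P : Set X → Prop) (Q : ℤ → Prop)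
    (hP : ∀ S T : Set X, IsUC S → (∀ ξ, IsGen ξ → (ξ ∈ S ↔ ξ ∈ T)) → (P S ↔ P T)) :
    (∀ (Z : Set X) (hZ : IsClosed Z), VecSt.IsSubcurve X Z → Z ≠ Set.univ → P Z →
      ∀ (G : X.Modules) (π : F ⟶ G), TFOne.IsQuotOn X F Z G π →
        Q (TFOne.rBeta X k (X ↘ (Spec (CommRingCat.of k))) Z hZ E r G)) ↔
      ∀ T : Set X, (∃ ξ, IsGen ξ ∧ ξ ∈ T) → (∃ ξ, IsGen ξ ∧ ξ ∉ T) → P T →
        Q (b k r (S1641.degC k X r E) F T) := by
  constructor
  · intro h T h1 h2 hPT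
    have hgs : ∀ ξ, IsGen ξ → (ξ ∈ cl T ↔ ξ ∈ T) := fun ξ hξ => mem_cl_iff hξ
    have hq := isQ_quo hF.coh hF.tf (cl T) fun ξ hξ _ => hF.nt ξ hξ
    have hq' := isQuotOn_of_isQ (isUC_cl T) hq
    have h3 := h (cl T) (isClosed_cl T) (isSubcurve_cl h1) ((ne_univ_iff (isUC_cl T)).mpr (by
      obtain ⟨ξ, hξ, hn⟩ := h2
      exact ⟨ξ, hξ, fun hc => hn ((mem_cl_iff hξ).mp hc)⟩)) ((hP _ _ (isUC_cl T) hgs).mpr hPT) _ _ hq'
    rw [rBeta_eq_b k hpure hE hF (isClosed_cl T) hq'] at h3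
    rwa [b_congr k hF hgs] at h3
  · intro h Z hZ hZs hne hPZ G π hq
    rw [rBeta_eq_b k hpure hE hF hZ hq]
    exact h Z (exists_gen_of_isSubcurve hZs) ((ne_univ_iff (isUC_of_isSubcurve hZs)).mp hne) hPZ

include hpure hE in
theorem isSemistable_iff {F : X.Modules} :
    TFOne.IsSemistable X k (X ↘ (Spec (CommRingCat.of k))) F E r ↔ TFOne.IsTF1 X F ∧
      ∀ T : Set X, (∃ ξ, IsGen ξ ∧ ξ ∈ T) → (∃ ξ, IsGen ξ ∧ ξ ∉ T) →
        0 ≤ b k r (S1641.degC k X r E) F T := by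
  refine and_congr_right fun hF => ?_
  have := forall_iff k hpure hE (nice_of_isTF1 hF) (fun _ => True) (fun x => 0 ≤ x)
    (fun _ _ _ _ => Iff.rfl)
  simpa using this

include hpure hE in
theorem isStable_iff {F : X.Modules} :
    TFOne.IsStable X k (X ↘ (Spec (CommRingCat.of k))) F E r ↔ TFOne.IsTF1 X F ∧
      ∀ T : Set X, (∃ ξ, IsGen ξ ∧ ξ ∈ T) → (∃ ξ, IsGen ξ ∧ ξ ∉ T) →
        0 < b k r (S1641.degC k X r E) F T := by
  refine and_congr_right fun hF => ?_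
  have := forall_iff k hpure hE (nice_of_isTF1 hF) (fun _ => True) (fun x => 0 < x)
    (fun _ _ _ _ => Iff.rfl)
  simpa using this

/-- For a semistable `F` with `β(X) = 0` all values of `b` are non-negative. -/
theorem b_nonneg {F : X.Modules} (hF : Nice F) (h0 : b k r d F Set.univ = 0)
    (h : ∀ T : Set X, (∃ ξ, IsGen ξ ∧ ξ ∈ T) → (∃ ξ, IsGen ξ ∧ ξ ∉ T) → 0 ≤ b k r d F T) (T : Set X) :
    0 ≤ b k r d F T := by
  by_cases h1 : ∃ ξ, IsGen ξ ∧ ξ ∈ T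
  · by_cases h2 : ∃ ξ, IsGen ξ ∧ ξ ∉ T
    · exact h T h1 h2
    · push Not at h2
      rw [b_congr k hF (T := Set.univ) (fun ξ hξ => by simpa using h2 ξ hξ), h0]
  · push Not at h1
    rw [b_of_empty k hF h1]

include hpure hE in
theorem b_univ_eq_zero {F : X.Modules} (hF : Nice F) {e : ℤ} (hχ : Curv2.euler k X F = e)
    (hEd : Curv2.deg k X E r = -(r : ℤ) * e) : b k r (S1641.degC k X r E) F Set.univ = 0 := by
  rw [b_univ k hF, ← deg_eq_wt k hpure E r hE, hEd, hχ]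
  ring

end Stab

end

end K975.BetaFn
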