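import Groth.Agent.TFOne.K975.Dec

/-!
# Simple torsion-free sheaves of rank one and decompositions, second part

* `onlyScalars_of_exists`: an indecomposable sheaf has only scalar endomorphisms if every endomorphism is a scalar at
  every generic point;
* `onlyScalars_of_isAlgClosed`: the case of an algebraically closed base field;
* `compl_of_isIso`: in a decomposition the supports are complementary.
-/

set_option autoImplicit false
universe u
open CategoryTheory CategoryTheory.Limits AlgebraicGeometry TopologicalSpace Opposite Polynomial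

set_option linter.unusedSectionVars false

namespace K975.Dec

open Groth.Agent Groth.Agent.CycB.StalkExact Groth.Agent.VarietyA.StalkCrit
open Groth.Agent.CurvesB Groth.Agent.CurvesB.SubH1 Groth.Agent.CurvesB.GenStalk
open Groth.Agent.CurvesB.SubLemma Groth.Agent.CycB K975.Gen K975.Quot K975.Simple K975.Euler K975.Sub
open K975.BetaFn K975.Alg K975.FibK

variable {X : Scheme.{u}} (k : Type u) [Field k] [X.Over (Spec (CommRingCat.of k))]
  [IsProper (X ↘ (Spec (CommRingCat.of k)))] [IsReduced X]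

/-- A sheaf without decompositions has only scalar endomorphisms if endomorphisms are scalars at generic points. -/
theorem onlyScalars_of_exists [Nonempty X] {F : X.Modules} (hF : TFOne.IsTF1 X F)
    (hsc : ∀ (φ : F ⟶ F) (ξ : X), IsGen ξ → ∃ c : k, ∀ t, stalkLin φ ξ t = Curv2.stalkMap k X ξ c • t)
    (h : ¬ ∃ (Y Z : Set X) (_ : IsClosed Y) (_ : IsClosed Z) (GY GZ : X.Modules) (πY : F ⟶ GY)
      (πZ : F ⟶ GZ), VecSt.IsSubcurve X Y ∧ VecSt.IsSubcurve X Z ∧ Y ≠ Set.univ ∧ Z ≠ Set.univ ∧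
      TFOne.IsQuotOn X F Y GY πY ∧ TFOne.IsQuotOn X F Z GZ πZ ∧ IsIso (biprod.lift πY πZ)) :
    OnlyScalars k F := by
  intro φ
  have hN : IsNoetherian X := isNoetherian k X
  have hn := nice_of_isTF1 hF
  have hex : ∀ ξ : X, ∃ c : k, IsGen ξ → ∀ t, stalkLin φ ξ t = Curv2.stalkMap k X ξ c • t := fun ξ => by
    by_cases hξ : IsGen ξ
    · obtain ⟨c, hc⟩ := hsc φ ξ hξ
      exact ⟨c, fun _ => hc⟩
    · exact ⟨0, fun h => absurd h hξ⟩
  choose c hc using hex
  obtain ⟨ξ₀, hξ₀, -⟩ := DimOneTop.exists_generic_specializes (Classical.arbitrary X)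
  refine ⟨c ξ₀, ?_⟩
  by_contra hne
  obtain ⟨η, hη, hηc⟩ : ∃ η, IsGen η ∧ c η ≠ c ξ₀ := by
    by_contra hcon
    push Not at hcon
    exact hne (eq_smulMod k hn.tf φ (c ξ₀) fun ξ hξ t => by rw [← hcon ξ hξ]; exact hc ξ hξ t)
  obtain ⟨ε, hε⟩ := exists_idempotent k φ c (fun ξ hξ => hc ξ hξ) (c ξ₀)
  let T : Set X := {ξ | c ξ = c ξ₀}
  have hY := isQuotOn_cl hn T
  have hZ := isQuotOn_cl hn Tᶜ
  apply h
  refine ⟨cl T, cl Tᶜ, isClosed_cl T, isClosed_cl Tᶜ, _, _, _, _, isSubcurve_cl ⟨ξ₀, hξ₀, rfl⟩,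
    isSubcurve_cl ⟨η, hη, hηc⟩, ?_, ?_, hY, hZ, ?_⟩
  · rw [ne_univ_iff (isUC_cl T)]
    exact ⟨η, hη, fun h1 => hηc ((mem_cl_iff hη).mp h1)⟩
  · rw [ne_univ_iff (isUC_cl Tᶜ)]
    exact ⟨ξ₀, hξ₀, fun h1 => (mem_cl_iff hξ₀).mp h1 rfl⟩
  · refine isIso_of_idempotent hn (isQ_of_isQuotOn hY) (isQ_of_isQuotOn hZ) (fun ξ hξ => ?_) ε
      (fun ξ hξ h1 t => ?_) (fun ξ hξ h1 t => ?_)
    · rw [mem_cl_iff hξ, mem_cl_iff hξ]
      exact Iff.rfl
    · exact (hε ξ hξ t).1 ((mem_cl_iff hξ).mp h1)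
    · exact (hε ξ hξ t).2 (fun h2 => h1 ((mem_cl_iff hξ).mpr h2))

/-- Over an algebraically closed field an algebraic element of a field extension is a scalar. -/
theorem exists_of_isAlgClosed {k : Type u} [Field k] [IsAlgClosed k] {K : Type u} [CommRing K] (hK : IsField K)
    (φ : k →+* K) {p : k[X]} (hp : p ≠ 0) {a : K} (ha : p.eval₂ φ a = 0) : ∃ c, φ c = a := by
  have hsp := IsAlgClosed.splits p
  let := hK.toField
  have h1 : (p.map φ).eval a = 0 := by rwa [← Polynomial.eval₂_eq_eval_map]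
  have h2 : a ∈ (p.map φ).roots := (Polynomial.mem_roots (Polynomial.map_ne_zero hp)).mpr h1
  rw [hsp.roots_map φ] at h2
  obtain ⟨c, -, hc⟩ := Multiset.mem_map.mp h2
  exact ⟨c, hc⟩

/-- Over an algebraically closed field an indecomposable sheaf has only scalar endomorphisms. -/
theorem onlyScalars_of_isAlgClosed [IsAlgClosed k]
    (hpure : ∀ C ∈ irreducibleComponents (X : Type u), topologicalKrullDim C = 1) [Nonempty X]
    {F : X.Modules} (hF : TFOne.IsTF1 X F)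
    (h : ¬ ∃ (Y Z : Set X) (_ : IsClosed Y) (_ : IsClosed Z) (GY GZ : X.Modules) (πY : F ⟶ GY)
      (πZ : F ⟶ GZ), VecSt.IsSubcurve X Y ∧ VecSt.IsSubcurve X Z ∧ Y ≠ Set.univ ∧ Z ≠ Set.univ ∧
      TFOne.IsQuotOn X F Y GY πY ∧ TFOne.IsQuotOn X F Z GZ πZ ∧ IsIso (biprod.lift πY πZ)) :
    OnlyScalars k F := by
  refine onlyScalars_of_exists k hF (fun φ ξ hξ => ?_) h
  obtain ⟨a, ha⟩ := exists_eigen hF.2.2 hξ φ
  obtain ⟨p, hp, hpa⟩ := exists_algebraic k hpure hF hξ φ ha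
  obtain ⟨c, hc⟩ := exists_of_isAlgClosed (isField_stalk ξ hξ) (Curv2.stalkMap k X ξ) hp hpa
  exact ⟨c, fun t => by rw [hc]; exact ha t⟩

omit [IsProper (X ↘ (Spec (CommRingCat.of k)))] [IsReduced X] in
/-- In a decomposition the supports are complementary. -/
theorem compl_of_isIso {X : Scheme.{u}} {F GY GZ : X.Modules} (hF : Nice F) {Y Z : Set X} {πY : F ⟶ GY}
    {πZ : F ⟶ GZ} (hY : IsQ F Y GY πY) (hZ : IsQ F Z GZ πZ) (hi : IsIso (biprod.lift πY πZ)) :
    (∀ ξ, IsGen ξ → ξ ∈ Y ∨ ξ ∈ Z) ∧ ∀ ξ, IsGen ξ → ¬ (ξ ∈ Y ∧ ξ ∈ Z) := by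
  constructor
  · intro ξ hξ
    by_contra hcon
    push Not at hcon
    have h1 := hY.subsingleton hξ hcon.1
    have h2 := hZ.subsingleton hξ hcon.2
    apply hF.nt ξ hξ
    refine subsingleton_of_forall_eq 0 fun t => ?_
    have hinj : Function.Injective (stalkLin (biprod.lift πY πZ) ξ) := stalkLin_injective _ ξ
    apply hinj
    rw [map_zero, K975.ModQ.stalkLin_inl_fst ξ (stalkLin (biprod.lift πY πZ) ξ t),
      Subsingleton.elim (stalkLin biprod.fst ξ _) 0, Subsingleton.elim (stalkLin biprod.snd ξ _) 0,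
      map_zero, map_zero, add_zero]
  · rintro ξ hξ ⟨h1, h2⟩
    obtain ⟨b, hb⟩ := exists_ne_zero_of_isGen (hZ.nontrivial hξ h2)
    obtain ⟨t, ht⟩ := stalkLin_surjective (biprod.lift πY πZ) ξ
      (stalkLin (biprod.inr : GZ ⟶ GY ⊞ GZ) ξ b)
    have e1 : stalkLin πY ξ t = 0 := by
      have := congrArg (stalkLin (biprod.fst : GY ⊞ GZ ⟶ GY) ξ) ht
      rw [← LinearMap.comp_apply, ← LinearMap.comp_apply, ← stalkLin_comp, ← stalkLin_comp,
        biprod.lift_fst, biprod.inr_fst] at this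
      rw [this]
      exact PairLemma.stalkLin_zero' _ _ _ _
    have e2 : stalkLin πZ ξ t = b := by
      have := congrArg (stalkLin (biprod.snd : GY ⊞ GZ ⟶ GZ) ξ) ht
      rw [← LinearMap.comp_apply, ← LinearMap.comp_apply, ← stalkLin_comp, ← stalkLin_comp,
        biprod.lift_snd, biprod.inr_snd, stalkLin_id] at this
      exact this
    have e3 : t = 0 := hY.injective hF.gs hξ h1 (by rw [e1, map_zero])
    rw [e3, map_zero] at e2
    exact hb e2.symm

end K975.Dec
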