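import Groth.Agent.TFOne.K22.Pull
import Groth.Agent.TFOne.K22.GeoRed
import Groth.Agent.TFOne.K975.Fam
import Groth.Agent.Vancyc.H878.Triv
import Groth.Agent.TFOne.K975.Dec2

/-!
# Extension of the base field

`X` proper over a field `κ` with geometrically integral irreducible components, `g : Y ⟶ X` the base change to a field
extension `Ω`.

* `isGen_injective`: the generic points of `Y` and of `X` correspond;
* `preimage_zero`: every union of components of `Y` is the preimage of one of `X`;
* `isSemistable_pullback`, `isQuasistableAtPt_pullback`, `onlyScalars_pullback`, `isSimple_pullback`.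
-/

set_option autoImplicit false
universe u
open CategoryTheory CategoryTheory.Limits AlgebraicGeometry TopologicalSpace Opposite

set_option linter.unusedSectionVars false

namespace K975.FieldExt

open Groth.Agent Groth.Agent.CycB.StalkExact Groth.Agent.VarietyA.StalkCrit
open Groth.Agent.CurvesB Groth.Agent.CurvesB.SubH1 Groth.Agent.CurvesB.GenStalk
open Groth.Agent.CurvesB.SubLemma Groth.Agent.CycB K975.Gen K975.Quot K975.Simple K975.Euler K975.Sub
open K975.BetaFn

/-! ### `rBeta` of a torsion-free quotient -/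

section OneCurve

variable {X : Scheme.{u}} (k : Type u) [Field k] [X.Over (Spec (CommRingCat.of k))]
  [IsProper (X ↘ (Spec (CommRingCat.of k)))] [IsReduced X]

theorem rBeta_eq_Psi (hdim : topologicalKrullDim X ≤ 1) {r : ℕ} {E : X.Modules}
    (hE : FlatMod.IsFinLocFreeOfRank r E) {F G : X.Modules} (hF : TFOne.IsTF1 X F) {Z : Set X} (hZ : IsClosed Z)
    {π : F ⟶ G} (h : IsQ F Z G π) :
    TFOne.rBeta X k (X ↘ Spec (CommRingCat.of k)) Z hZ E r G = K77.TF.Psi k E G := by
  refine K77.TF.rBeta_eq_Psi k hE hdim hZ h.coh (fun ξ hξ hξZ => ?_) (fun ξ hξ hξZ => h.subsingleton hξ hξZ)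
  obtain ⟨e⟩ := hF.2.2 ξ ((mem_genericPoints_iff ξ).mpr hξ)
  let e' := LinearEquiv.ofBijective _ (h.bijective (genSimple_of_isRkOne hF.2.2) hξ hξZ)
  rw [← (e.symm.trans e').length_eq]
  exact K77.TF.length_self_of_isGen _ hξ

end OneCurve

variable {κ : Type u} [Field κ] {X : Scheme.{u}} [X.Over (Spec (CommRingCat.of κ))]
  {Ω : Type u} [Field Ω] {Y : Scheme.{u}} [Y.Over (Spec (CommRingCat.of Ω))] {g : Y ⟶ X}
  {t : Spec (CommRingCat.of Ω) ⟶ Spec (CommRingCat.of κ)}
  (H : IsPullback g (Y ↘ Spec (CommRingCat.of Ω)) (X ↘ Spec (CommRingCat.of κ)) t)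

section Basic

include H

theorem flat : Flat g := MorphismProperty.of_isPullback (P := @Flat) H.flip inferInstance

theorem surjective : Surjective g := by
  have : Surjective t := ⟨fun x => ⟨Classical.arbitrary _, Subsingleton.elim _ _⟩⟩
  exact MorphismProperty.of_isPullback (P := @Surjective) H.flip this

theorem isProper [IsProper (X ↘ Spec (CommRingCat.of κ))] : IsProper (Y ↘ Spec (CommRingCat.of Ω)) :=
  MorphismProperty.of_isPullback H inferInstance

theorem dim_eq [LocallyOfFiniteType (X ↘ Spec (CommRingCat.of κ))] :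
    topologicalKrullDim Y = topologicalKrullDim X := by
  obtain ⟨φ, rfl⟩ : ∃ φ, t = Spec.map φ := ⟨Spec.preimage t, (Spec.map_preimage t).symm⟩
  exact Flat2G.ProperDim.topologicalKrullDim_eq_of_isPullback_field (Field.toIsField κ) (Field.toIsField Ω)
    _ _ _ _ H

end Basic

section Comp

variable (hgi : ∀ (C : Set X) (hC : C ∈ irreducibleComponents (X : Type u)),
      GeometricallyIntegral (VecSt.subschι X C (isClosed_of_mem_irreducibleComponents C hC) ≫
        (X ↘ Spec (CommRingCat.of κ))))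

include hgi in
theorem geometricallyReduced [IsProper (X ↘ Spec (CommRingCat.of κ))] [IsReduced X] :
    GeometricallyReduced (X ↘ Spec (CommRingCat.of κ)) := by
  have hN : IsNoetherian X := isNoetherian κ X
  have hfin : Finite {ξ : X // IsGen ξ} := (SubClosed.finite_isGen X).to_subtype
  have hcomp : ∀ j : {ξ : X // IsGen ξ}, closure {j.1} ∈ irreducibleComponents (X : Type u) := fun j =>
    (DimOneTop.closure_mem_irreducibleComponents_iff j.1).mpr j.2
  refine K22.GeoRed.geometricallyReduced_of_cover (X ↘ Spec (CommRingCat.of κ)) (J := {ξ : X // IsGen ξ})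
    (fun j => VecSt.subsch X (closure {j.1}) (isClosed_of_mem_irreducibleComponents _ (hcomp j)))
    (fun j => VecSt.subschι X (closure {j.1}) (isClosed_of_mem_irreducibleComponents _ (hcomp j)))
    (fun x => ?_) (fun j => ?_)
  · obtain ⟨ξ, hξ, hx⟩ := DimOneTop.exists_generic_specializes x
    obtain ⟨c, hc⟩ := exists_eq (closure {ξ}) (isClosed_of_mem_irreducibleComponents _ (hcomp ⟨ξ, hξ⟩))
      (subset_closure rfl)
    exact ⟨⟨ξ, hξ⟩, c, by rw [hc]; exact hx⟩
  · have := hgi _ (hcomp j)
    infer_instance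

include H hgi in
theorem isReduced [IsProper (X ↘ Spec (CommRingCat.of κ))] [IsReduced X] : IsReduced Y := by
  have := geometricallyReduced hgi
  exact GeometricallyReduced.geometrically_isReduced _ _ _ H

include H hgi in
/-- A generic point of `Y` is the generic point of the preimage of the closure of its image. -/
theorem specializes_of_specializes [IsReduced X] {η y : Y} (hη : IsGen η) (h : g η ⤳ g y) : η ⤳ y := by
  have := flat H
  have hξ : IsGen (g η) := K22.Pull.isGen_map g hη
  have hC := (DimOneTop.closure_mem_irreducibleComponents_iff (g η)).mpr hξ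
  have hCc := isClosed_of_mem_irreducibleComponents _ hC
  let i := VecSt.subschι X (closure {g η}) hCc
  have hgC : GeometricallyIntegral (i ≫ (X ↘ Spec (CommRingCat.of κ))) := hgi _ hC
  have h1 : IsPullback (pullback.fst i g) (pullback.snd i g ≫ (Y ↘ Spec (CommRingCat.of Ω)))
      (i ≫ (X ↘ Spec (CommRingCat.of κ))) t := (IsPullback.of_hasPullback i g).paste_vert H
  have hint : IsIntegral (pullback i g) := GeometricallyIntegral.geometrically_isIntegral _ _ _ h1
  have key : ∀ z : Y, g η ⤳ g z → (pullback.snd i g) (genericPoint (pullback i g : Scheme.{u})) ⤳ z := by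
    intro z hz
    obtain ⟨c, hc⟩ := exists_eq (closure {g η}) hCc (specializes_iff_mem_closure.mp hz)
    obtain ⟨p, -, rfl⟩ := Scheme.Pullback.exists_preimage_pullback (f := i) (g := g) c z hc
    exact (genericPoint_specializes p).map (pullback.snd i g).continuous
  have h2 := key η specializes_rfl
  rw [← hη _ h2]
  exact key y h

include H hgi in
/-- The generic points of `Y` are determined by their images. -/
theorem isGen_injective [IsReduced X] {η η' : Y} (hη : IsGen η) (hη' : IsGen η') (h : g η = g η') : η = η' :=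
  hη' η (specializes_of_specializes H hgi hη (by rw [h]))

/-- The union of components of `X` corresponding to a subset of `Y`. -/
def zero (g : Y ⟶ X) (Z : Set Y) : Set X := cl (g '' {η | IsGen η ∧ η ∈ Z})

theorem isUC_zero (Z : Set Y) : IsUC (zero g Z) := isUC_cl _

include H hgi in
theorem preimage_zero [IsReduced X] {Z : Set Y} (hZ : IsUC Z) : g ⁻¹' (zero g Z) = Z := by
  have := flat H
  refine (K22.Pull.isUC_preimage g (isUC_zero Z)).eq_of_gp hZ fun η hη => ?_
  rw [Set.mem_preimage]
  constructor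
  · intro h
    obtain ⟨η', ⟨h1, h2⟩, h3⟩ := (mem_cl_iff (K22.Pull.isGen_map g hη)).mp h
    rwa [← isGen_injective H hgi h1 hη h3]
  · exact fun h => (mem_cl_iff (K22.Pull.isGen_map g hη)).mpr ⟨η, ⟨hη, h⟩, rfl⟩

include H in
theorem isSubcurve_zero {Z : Set Y} (hZ : VecSt.IsSubcurve Y Z) : VecSt.IsSubcurve X (zero g Z) := by
  have := flat H
  obtain ⟨η, h1, h2⟩ := exists_gen_of_isSubcurve hZ
  exact isSubcurve_cl ⟨g η, K22.Pull.isGen_map g h1, η, ⟨h1, h2⟩, rfl⟩

include H hgi in
theorem zero_ne_univ [IsReduced X] {Z : Set Y} (hZ : IsUC Z) (h : Z ≠ Set.univ) : zero g Z ≠ Set.univ := by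
  intro h1
  apply h
  rw [← preimage_zero H hgi hZ, h1, Set.preimage_univ]

include H hgi in
/-- Purity. -/
theorem pure [IsReduced X] [IsProper (X ↘ Spec (CommRingCat.of κ))]
    (hpure : ∀ C ∈ irreducibleComponents (X : Type u), topologicalKrullDim C = 1) :
    ∀ C ∈ irreducibleComponents (Y : Type u), topologicalKrullDim C = 1 := by
  have := flat H
  have hs := surjective H
  have hdX := DimOneTop.forall_irreducibleComponents_iff.mp hpure
  have hdY : topologicalKrullDim Y ≤ 1 := by
    rw [dim_eq H]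
    exact dim_le_one hpure
  rw [dim_le_one_iff] at hdY
  rw [DimOneTop.forall_irreducibleComponents_iff]
  intro η hη
  constructor
  · obtain ⟨⟨x, hx, hne⟩, -⟩ := hdX (g η) (K22.Pull.isGen_map g hη)
    obtain ⟨y, rfl⟩ := g.surjective x
    exact ⟨y, specializes_of_specializes H hgi hη hx, by rintro rfl; exact hne rfl⟩
  · intro x hx hne y hy
    rcases hdY x with h | h
    · exact h y hy
    · exact absurd (h η hx) (Ne.symm hne)

end Comp

/-! ### Quotients -/

section Quotients

variable [IsProper (X ↘ Spec (CommRingCat.of κ))] [IsReduced X]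
  (hgi : ∀ (C : Set X) (hC : C ∈ irreducibleComponents (X : Type u)),
      GeometricallyIntegral (VecSt.subschι X C (isClosed_of_mem_irreducibleComponents C hC) ≫
        (X ↘ Spec (CommRingCat.of κ))))
  (hdim : topologicalKrullDim X ≤ 1) {M : X.Modules} (hM : TFOne.IsTF1 X M)

include H in
theorem isTF1_pullback (hM : TFOne.IsTF1 X M) : TFOne.IsTF1 Y ((Scheme.Modules.pullback g).obj M) := by
  have := flat H
  have hN : IsNoetherian X := isNoetherian κ X
  exact K22.Pull.isTF1_pullback g hM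

include H hgi hM in
/-- The torsion-free quotients of `g^* M` are pulled back from `X`. -/
theorem exists_quotient {Z : Set Y} (hZ : IsUC Z) {G' : Y.Modules}
    {π' : (Scheme.Modules.pullback g).obj M ⟶ G'} (h : IsQ ((Scheme.Modules.pullback g).obj M) Z G' π') :
    ∃ (G : X.Modules) (π : M ⟶ G), TFOne.IsQuotOn X M (zero g Z) G π ∧
      ∃ e : (Scheme.Modules.pullback g).obj G ≅ G', (Scheme.Modules.pullback g).map π ≫ e.hom = π' := by
  have := flat H
  have hN : IsNoetherian X := isNoetherian κ X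
  have hYr := isReduced H hgi
  have hYp := isProper H
  have hN' : IsNoetherian Y := isNoetherian Ω Y
  have hn := nice_of_isTF1 hM
  have hn' := nice_of_isTF1 (isTF1_pullback H hM)
  have h1 : TFOne.IsQuotOn X M (zero g Z) (quo M (zero g Z)) (quoπ M (zero g Z)) := isQuotOn_cl hn _
  have h2 := isQ_of_isQuotOn (K22.Pull.isQuotOn_pullback g h1)
  obtain ⟨e, he⟩ := h2.exists_iso hn'.gs h fun ξ hξ => by
    have h3 : g.base ⁻¹' (zero g Z) = Z := preimage_zero H hgi hZ
    rw [h3]
  exact ⟨_, _, h1, e, he⟩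

include H hgi hM hdim in
theorem rBeta_pullback {r : ℕ} {E : X.Modules} (hE : FlatMod.IsFinLocFreeOfRank r E) {Z : Set Y}
    (hZc : IsClosed Z) {G : X.Modules} {π : M ⟶ G} (hZ0 : IsClosed (zero g Z))
    (h : TFOne.IsQuotOn X M (zero g Z) G π) {G' : Y.Modules} {π' : (Scheme.Modules.pullback g).obj M ⟶ G'}
    (h' : IsQ ((Scheme.Modules.pullback g).obj M) Z G' π') (e : (Scheme.Modules.pullback g).obj G ≅ G') :
    TFOne.rBeta Y Ω (Y ↘ Spec (CommRingCat.of Ω)) Z hZc ((Scheme.Modules.pullback g).obj E) r G' =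
      TFOne.rBeta X κ (X ↘ Spec (CommRingCat.of κ)) (zero g Z) hZ0 E r G := by
  have := flat H
  have hN : IsNoetherian X := isNoetherian κ X
  have hYr := isReduced H hgi
  have hYp := isProper H
  have hN' : IsNoetherian Y := isNoetherian Ω Y
  rw [rBeta_eq_Psi κ hdim hE hM hZ0 (isQ_of_isQuotOn h),
    rBeta_eq_Psi Ω (by rw [dim_eq H]; exact hdim) (Groth.Agent.Vancyc.H878.Triv.isFinLocFreeOfRank_pullback g hE)
      (isTF1_pullback H hM) hZc h', ← Fam.Psi_eq_of_field hE h.2.1 H]
  exact K77.TF.Psi_iso Ω _ e.symm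

include H hgi hdim in
/-- Semistability is preserved by field extensions. -/
theorem isSemistable_pullback {r : ℕ} {E : X.Modules} (hE : FlatMod.IsFinLocFreeOfRank r E)
    (h : TFOne.IsSemistable X κ (X ↘ Spec (CommRingCat.of κ)) M E r) :
    TFOne.IsSemistable Y Ω (Y ↘ Spec (CommRingCat.of Ω)) ((Scheme.Modules.pullback g).obj M)
      ((Scheme.Modules.pullback g).obj E) r := by
  have hN : IsNoetherian X := isNoetherian κ X
  have hYr := isReduced H hgi
  have hYp := isProper H
  have hN' : IsNoetherian Y := isNoetherian Ω Y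
  refine ⟨isTF1_pullback H h.1, fun Z hZ hZs hZne G' π' h' => ?_⟩
  have hZu := isUC_of_isSubcurve hZs
  have hQ := isQ_of_isQuotOn h'
  obtain ⟨G, π, hG, e, -⟩ := exists_quotient H hgi h.1 hZu hQ
  have hZ0 : IsClosed (zero g Z) := isClosed_cl _
  rw [rBeta_pullback H hgi hdim h.1 hE hZ hZ0 hG hQ e]
  exact h.2 _ hZ0 (isSubcurve_zero H hZs) (zero_ne_univ H hgi hZu hZne) G π hG

include H hgi hdim in
/-- Stability is preserved by field extensions. -/
theorem isStable_pullback {r : ℕ} {E : X.Modules} (hE : FlatMod.IsFinLocFreeOfRank r E)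
    (h : TFOne.IsStable X κ (X ↘ Spec (CommRingCat.of κ)) M E r) :
    TFOne.IsStable Y Ω (Y ↘ Spec (CommRingCat.of Ω)) ((Scheme.Modules.pullback g).obj M)
      ((Scheme.Modules.pullback g).obj E) r := by
  have hN : IsNoetherian X := isNoetherian κ X
  have hYr := isReduced H hgi
  have hYp := isProper H
  have hN' : IsNoetherian Y := isNoetherian Ω Y
  refine ⟨isTF1_pullback H h.1, fun Z hZ hZs hZne G' π' h' => ?_⟩
  have hZu := isUC_of_isSubcurve hZs
  have hQ := isQ_of_isQuotOn h'
  obtain ⟨G, π, hG, e, -⟩ := exists_quotient H hgi h.1 hZu hQ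
  have hZ0 : IsClosed (zero g Z) := isClosed_cl _
  rw [rBeta_pullback H hgi hdim h.1 hE hZ hZ0 hG hQ e]
  exact h.2 _ hZ0 (isSubcurve_zero H hZs) (zero_ne_univ H hgi hZu hZne) G π hG

include H hgi hdim in
/-- Quasi-stability at a point is preserved by field extensions. -/
theorem isQuasistableAtPt_pullback {r : ℕ} {E : X.Modules} (hE : FlatMod.IsFinLocFreeOfRank r E) (y : Y)
    (h : TFOne.IsQuasistableAtPt X κ (X ↘ Spec (CommRingCat.of κ)) M E r (g y)) :
    TFOne.IsQuasistableAtPt Y Ω (Y ↘ Spec (CommRingCat.of Ω)) ((Scheme.Modules.pullback g).obj M)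
      ((Scheme.Modules.pullback g).obj E) r y := by
  have hN : IsNoetherian X := isNoetherian κ X
  have hYr := isReduced H hgi
  have hYp := isProper H
  have hN' : IsNoetherian Y := isNoetherian Ω Y
  refine ⟨isSemistable_pullback H hgi hdim hE h.1, fun Z hZ hZs hZne hy G' π' h' => ?_⟩
  have hZu := isUC_of_isSubcurve hZs
  have hQ := isQ_of_isQuotOn h'
  obtain ⟨G, π, hG, e, -⟩ := exists_quotient H hgi h.1.1 hZu hQ
  have hZ0 : IsClosed (zero g Z) := isClosed_cl _
  rw [rBeta_pullback H hgi hdim h.1.1 hE hZ hZ0 hG hQ e]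
  refine h.2 _ hZ0 (isSubcurve_zero H hZs) (zero_ne_univ H hgi hZu hZne) ?_ G π hG
  rw [← preimage_zero H hgi hZu] at hy
  exact hy

include H hgi hM in
/-- Sheaves with only scalar endomorphisms are preserved by extension to an algebraically closed field. -/
theorem onlyScalars_pullback [IsAlgClosed Ω]
    (hpure : ∀ C ∈ irreducibleComponents (X : Type u), topologicalKrullDim C = 1) [Nonempty X]
    (h : OnlyScalars κ M) : OnlyScalars Ω ((Scheme.Modules.pullback g).obj M) := by
  have := flat H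
  have hdim := dim_le_one hpure
  have hN : IsNoetherian X := isNoetherian κ X
  have hYr := isReduced H hgi
  have hYp := isProper H
  have hN' : IsNoetherian Y := isNoetherian Ω Y
  have hs := surjective H
  have hne : Nonempty Y := ⟨(g.surjective (Classical.arbitrary X)).choose⟩
  have hn := nice_of_isTF1 hM
  have hM' := isTF1_pullback H hM
  have hn' := nice_of_isTF1 hM'
  refine Dec.onlyScalars_of_isAlgClosed Ω (pure H hgi hpure) hM' ?_
  rintro ⟨Y₁, Y₂, hY₁, hY₂, G₁, G₂, π₁, π₂, hs₁, hs₂, hne₁, hne₂, hG₁, hG₂, hi⟩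
  have hQ₁ := isQ_of_isQuotOn hG₁
  have hQ₂ := isQ_of_isQuotOn hG₂
  have hu₁ := isUC_of_isSubcurve hs₁
  have hu₂ := isUC_of_isSubcurve hs₂
  obtain ⟨A, a, hA, eA, -⟩ := exists_quotient H hgi hM hu₁ hQ₁
  obtain ⟨B, b, hB, eB, -⟩ := exists_quotient H hgi hM hu₂ hQ₂
  have hqA := isQ_of_isQuotOn hA
  have hqB := isQ_of_isQuotOn hB
  obtain ⟨hc1, hc2⟩ := Dec.compl_of_isIso hn' hQ₁ hQ₂ hi
  have hmem : ∀ {Z : Set Y}, IsUC Z → ∀ η : Y, (g η ∈ zero g Z ↔ η ∈ Z) := fun {Z} hZ η => by
    have h3 : g ⁻¹' (zero g Z) = Z := preimage_zero H hgi hZ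
    rw [← Set.mem_preimage, h3]
  have hS : ∀ ξ, IsGen ξ → ξ ∈ zero g Y₁ ∨ ξ ∈ zero g Y₂ := by
    intro ξ hξ
    obtain ⟨η, hη, rfl⟩ := K22.Pull.exists_isGen g hξ
    exact (hc1 η hη).imp (hmem hu₁ η).mpr (hmem hu₂ η).mpr
  have hS' : ∀ ξ, IsGen ξ → ¬ (ξ ∈ zero g Y₁ ∧ ξ ∈ zero g Y₂) := by
    intro ξ hξ ⟨h1, h2⟩
    obtain ⟨η, hη, rfl⟩ := K22.Pull.exists_isGen g hξ
    exact hc2 η hη ⟨(hmem hu₁ η).mp h1, (hmem hu₂ η).mp h2⟩
  have hdY : topologicalKrullDim Y ≤ 1 := by rw [dim_eq H]; exact hdim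
  have e1 := (ModQ.isIso_lift_iff Ω hdY hn'.coh hn'.gs hn'.tf hQ₁ hQ₂ hc1 hc2).mp hi
  have hinv : ∀ {N : X.Modules}, Coh.IsQCoh N →
      Curv2.euler Ω Y ((Scheme.Modules.pullback g).obj N) = Curv2.euler κ X N := by
    intro N hN
    obtain ⟨φ, hφ⟩ : ∃ φ : κ →+* Ω, t = Spec.map (CommRingCat.ofHom φ) :=
      ⟨(Spec.preimage t).hom, (Spec.map_preimage t).symm⟩
    subst hφ
    let _ : Algebra κ Ω := φ.toAlgebra
    exact CurvesB.VABaseChange.euler_eq (K := Ω) H N hN
  rw [← euler_congr Ω eA, ← euler_congr Ω eB, hinv hM.1.1, hinv hA.2.1.1, hinv hB.2.1.1] at e1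
  have e2 := (ModQ.isIso_lift_iff κ hdim hn.coh hn.gs hn.tf hqA hqB hS hS').mpr e1
  exact Dec.not_onlyScalars κ hn hqA hqB (exists_gen_of_isSubcurve (isSubcurve_zero H hs₁))
    (exists_gen_of_isSubcurve (isSubcurve_zero H hs₂)) e2 h

include H hgi hM in
/-- Simple sheaves are preserved by extension to an algebraically closed field. -/
theorem isSimple_pullback [IsAlgClosed Ω]
    (hpure : ∀ C ∈ irreducibleComponents (X : Type u), topologicalKrullDim C = 1) [Nonempty X]
    (h : OnlyScalars κ M) :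
    TFOne.IsSimple Y Ω (Y ↘ Spec (CommRingCat.of Ω)) ((Scheme.Modules.pullback g).obj M) := by
  have := flat H
  have hN : IsNoetherian X := isNoetherian κ X
  have hYr := isReduced H hgi
  have hYp := isProper H
  have hN' : IsNoetherian Y := isNoetherian Ω Y
  have hs := surjective H
  refine ⟨fun hz => ?_, onlyScalars_pullback H hgi hM hpure h⟩
  have hn' := nice_of_isTF1 (isTF1_pullback H hM)
  obtain ⟨ξ, hξ, -⟩ := DimOneTop.exists_generic_specializes (g.surjective (Classical.arbitrary X)).choose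
  apply hn'.nt ξ hξ
  have h1 := (IsZero.iff_id_eq_zero _).mp hz
  refine subsingleton_of_forall_eq 0 fun t => ?_
  have h2 : stalkLin (𝟙 ((Scheme.Modules.pullback g).obj M)) ξ t = 0 := by
    rw [h1]; exact PairLemma.stalkLin_zero' _ _ _ _
  rwa [stalkLin_id] at h2

end Quotients

end K975.FieldExt
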