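import Groth.Agent.TFOne.K975.Euler
import Groth.Agent.TFOne.K975.Sub
import Groth.Agent.TFOne.K975.Mod
import Groth.Agent.CurvesB.SubPoint
import Mathlib.LinearAlgebra.Charpoly.Basic

/-!
# Endomorphisms of torsion-free modules are algebraic

For a coherent module `L` with simple generic stalks on a proper curve and an endomorphism `φ`, the element by
which `φ` acts on a generic stalk is algebraic over the base field.
-/

set_option autoImplicit false
universe u
open CategoryTheory CategoryTheory.Limits AlgebraicGeometry TopologicalSpace Opposite Polynomial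

set_option linter.unusedSectionVars false

namespace K975.Alg

open Groth.Agent Groth.Agent.CycB.StalkExact Groth.Agent.VarietyA.StalkCrit
open Groth.Agent.CurvesB Groth.Agent.CurvesB.SubH1 Groth.Agent.CurvesB.GenStalk
open Groth.Agent.CurvesB.SubLemma Groth.Agent.CycB K975.Gen K975.Quot K975.Simple K975.Euler K975.Sub
open Groth.Agent.CohqB.HSeqMod

variable {X : Scheme.{u}} (k : Type u) [Field k] [X.Over (Spec (CommRingCat.of k))]

/-- The scalars in the endomorphism ring. -/
noncomputable def scal (F : X.Modules) : k →+* End F where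
  toFun c := Formal.smulMod k F c
  map_one' := FormalB.ModPow.smulMod_one F
  map_zero' := FormalB.ModPow.smulMod_zero F
  map_add' a b := FormalB.ModPow.smulMod_add F a b
  map_mul' a b := FormalB.ModPow.smulMod_mul F a b

theorem scal_apply (F : X.Modules) (c : k) : scal k F c = Formal.smulMod k F c := rfl

theorem scal_comm (F : X.Modules) (c : k) (φ : End F) : scal k F c * φ = φ * scal k F c :=
  (FormalB.ModPow.smulMod_naturality (A := k) φ c).symm

/-- The `k`-algebra of endomorphisms. -/
@[reducible] noncomputable def algEnd (F : X.Modules) : Algebra k (End F) :=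
  (scal k F).toAlgebra' (scal_comm k F)

/-- The action on the zeroth cohomology. -/
noncomputable def onH0 (F : X.Modules) :
    letI := algEnd k F
    End F →ₐ[k] Module.End k (Coh.HH X F 0) :=
  letI := algEnd k F
  { toFun := fun φ => hmapₗ k φ 0
    map_one' := LinearMap.ext fun x => hmap_id_apply 0 x
    map_zero' := LinearMap.ext fun x => hmap_zero_apply 0 x
    map_add' := fun f g => LinearMap.ext fun x => hmap_add_apply f g 0 x
    map_mul' := fun f g => LinearMap.ext fun x => hmap_comp_apply g f 0 x
    commutes' := fun c => LinearMap.ext fun x => PairLemma.hmap_smulMod k F c 0 x }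

section Ind

variable {L S : X.Modules} (π : L ⟶ S) [Epi π] (h : ∀ ψ : L ⟶ L, kernel.ι π ≫ ψ ≫ π = 0)

/-- The induced endomorphism of a quotient. -/
noncomputable def ind (ψ : L ⟶ L) : S ⟶ S := Abelian.epiDesc π (ψ ≫ π) (h ψ)

theorem π_ind (ψ : L ⟶ L) : π ≫ ind π h ψ = ψ ≫ π := Abelian.comp_epiDesc _ _ _

theorem ind_eq {ψ : L ⟶ L} {χ : S ⟶ S} (h' : π ≫ χ = ψ ≫ π) : ind π h ψ = χ := by
  rw [← cancel_epi π, π_ind, h']

noncomputable def indHom :
    letI := algEnd k L
    letI := algEnd k S
    End L →ₐ[k] End S :=
  letI := algEnd k L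
  letI := algEnd k S
  { toFun := fun φ => ind π h φ
    map_one' := ind_eq π h (by
      change π ≫ 𝟙 S = 𝟙 L ≫ π
      rw [Category.comp_id, Category.id_comp])
    map_zero' := ind_eq π h (by
      change π ≫ 0 = 0 ≫ π
      rw [Limits.comp_zero, Limits.zero_comp])
    map_add' := fun f g => ind_eq π h (by
      change π ≫ (ind π h f + ind π h g) = (f + g) ≫ π
      rw [Preadditive.comp_add, π_ind, π_ind, Preadditive.add_comp])
    map_mul' := fun f g => ind_eq π h (by
      change π ≫ (ind π h g ≫ ind π h f) = (g ≫ f) ≫ π
      rw [← Category.assoc, π_ind, Category.assoc, π_ind, Category.assoc])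
    commutes' := fun c => ind_eq π h (FormalB.ModPow.smulMod_naturality π c).symm }

end Ind

/-- There is a non-zero polynomial which does not map to an automorphism. -/
theorem exists_poly [IsProper (X ↘ (Spec (CommRingCat.of k)))] (hdim : topologicalKrullDim X ≤ 1)
    {L : X.Modules} (hL : Coh.IsCoh L) {w : X} (hw : IsClosed ({w} : Set X)) (hwg : ¬ IsGen w)
    (hne : ¬ Subsingleton (L.presheaf.stalk w)) (φ : End L) :
    letI := algEnd k L
    ∃ p : k[X], p ≠ 0 ∧ ¬ IsUnit (aeval φ p) := by
  let := algEnd k L
  have hN : IsNoetherian X := isNoetherian k X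
  obtain ⟨S, π, hπ, hS, hx, hm, hm', hnt⟩ := SubPoint.exists_point_quotient w hw L hL hne
  have hker : ∀ ψ : L ⟶ L, kernel.ι π ≫ ψ ≫ π = 0 := by
    intro ψ
    refine K975.Mod.hom_ext_of_stalks _ _ fun x t => ?_
    rw [PairLemma.stalkLin_zero']
    by_cases hxw : x = w
    · subst hxw
      have h1 : stalkLin π x (stalkLin (kernel.ι π) x t) = 0 := by
        rw [← LinearMap.comp_apply, ← stalkLin_comp, kernel.condition]
        exact PairLemma.stalkLin_zero' _ _ _ _
      have h2 := hm _ h1
      rw [stalkLin_comp, stalkLin_comp, LinearMap.comp_apply, LinearMap.comp_apply]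
      have h3 : ∀ s ∈ IsLocalRing.maximalIdeal (X.presheaf.stalk x) •
          (⊤ : Submodule (X.presheaf.stalk x) (L.presheaf.stalk x)),
          stalkLin π x (stalkLin ψ x s) = 0 := by
        intro s hs
        refine Submodule.smul_induction_on hs (fun a ha n _ => ?_) (fun a b ha hb => ?_)
        · rw [map_smul, map_smul, hm' a ha]
        · rw [map_add, map_add, ha, hb, add_zero]
      exact h3 _ h2
    · have := hx x hxw
      exact Subsingleton.elim _ _
  have hfin : Module.Finite k (Coh.HH X S 0) := S0002.result k X S hS 0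
  have hsm : IsSmall S := fun ξ hξ => hx ξ (by rintro rfl; exact hwg hξ)
  have hntH : Nontrivial (Coh.HH X S 0) := by
    by_contra hc
    rw [not_nontrivial_iff_subsingleton] at hc
    have h1 : Curv2.euler k X S = 0 := by
      rw [euler_small k hdim hS hsm, Module.finrank_zero_of_subsingleton]
      rfl
    have h2 := subsingleton_of_euler_le k hdim hS hsm h1.le w
    exact not_subsingleton _ h2
  let := algEnd k S
  let θ : End L →ₐ[k] Module.End k (Coh.HH X S 0) := (onH0 k S).comp (indHom k π hker)
  refine ⟨minpoly k (θ φ), minpoly.ne_zero (Algebra.IsIntegral.isIntegral _), fun hiso => ?_⟩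
  have h1 : θ (aeval φ (minpoly k (θ φ))) = 0 := by
    rw [← aeval_algHom_apply, minpoly.aeval]
  have h2 := hiso.map θ
  rw [h1] at h2
  exact not_isUnit_zero h2

end K975.Alg
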