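import Groth.Agent.CurvesB.PairLemma
import Groth.Agent.CurvesB.SubClosed
import Groth.Agent.CycB.CohStalk
import Groth.Agent.CycB.LocQuot
import Groth.Agent.VarietyA.GlobGen
import Groth.Prelude.Def_TFOne

/-!
# Generic points and torsion-free modules

* `TF F`: an element of a stalk `F_x` vanishing at all generic points specializing to `x` is zero;
* `tf_iff`: on a reduced locally Noetherian scheme a quasi-coherent module is `TF` iff it is
  `TorSh.IsTorsionFree`;
* `gp Z`: the generic points of `X` lying in `Z`; `IsUC Z`: `Z` is the union of the closures of the points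
  of `gp Z`.
-/

set_option autoImplicit false
universe u
open CategoryTheory CategoryTheory.Limits AlgebraicGeometry TopologicalSpace Opposite

namespace K975.Gen

open Groth.Agent Groth.Agent.CycB.StalkExact Groth.Agent.VarietyA.StalkCrit
open Groth.Agent.CurvesB Groth.Agent.CurvesB.SubH1 Groth.Agent.CurvesB.GenStalk
open Groth.Agent.CurvesB.SubLemma Groth.Agent.CycB

variable {X : Scheme.{u}}

theorem mem_genericPoints_iff (ξ : X) : ξ ∈ genericPoints (X : Type u) ↔ IsGen ξ :=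
  DimOneTop.closure_mem_irreducibleComponents_iff ξ

/-- An element of a stalk which vanishes at all generic points specializing to the point is zero. -/
def TF (F : X.Modules) : Prop :=
  ∀ (x : X) (m : F.presheaf.stalk x),
    (∀ (ξ : X) (h : ξ ⤳ x), IsGen ξ → F.presheaf.stalkSpecializes h m = 0) → m = 0

theorem TF.torsionFree {F : X.Modules} (h : TF F) : TorsionFree F := by
  intro U s hs
  refine VarietyA.FiniteSupport.section_eq F s 0 fun x hx => ?_
  rw [map_zero]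
  refine h x _ fun ξ hξ hg => ?_
  have hξU : ξ ∈ U := hξ.mem_open U.2 hx
  have h2 : F.presheaf.stalkSpecializes hξ (F.presheaf.germ U x hx s) = F.presheaf.germ U ξ hξU s :=
    TopCat.Presheaf.germ_stalkSpecializes_apply F.presheaf hx hξ s
  rw [h2]
  exact hs ξ hξU hg

theorem stalkSpecializes_stalkLin {M N : X.Modules} (φ : M ⟶ N) {x ξ : X} (h : ξ ⤳ x)
    (m : M.presheaf.stalk x) :
    N.presheaf.stalkSpecializes h (stalkLin φ x m) = stalkLin φ ξ (M.presheaf.stalkSpecializes h m) := by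
  obtain ⟨U, hU, s, rfl⟩ := M.presheaf.exists_germ_eq m
  have hξU : ξ ∈ U := h.mem_open U.2 hU
  rw [stalkLin_germ]
  have h2 : M.presheaf.stalkSpecializes h (M.presheaf.germ U x hU s) = M.presheaf.germ U ξ hξU s :=
    TopCat.Presheaf.germ_stalkSpecializes_apply M.presheaf hU h s
  have h3 : N.presheaf.stalkSpecializes h (N.presheaf.germ U x hU (φ.app U s)) =
      N.presheaf.germ U ξ hξU (φ.app U s) :=
    TopCat.Presheaf.germ_stalkSpecializes_apply N.presheaf hU h _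
  rw [h2, h3, stalkLin_germ]

theorem TF.of_mono {F G : X.Modules} (f : F ⟶ G) [Mono f] (hG : TF G) : TF F := by
  intro x m hm
  apply stalkLin_injective f x
  rw [map_zero]
  refine hG x _ fun ξ h hg => ?_
  rw [stalkSpecializes_stalkLin, hm ξ h hg, map_zero]

theorem TF.of_iso {F G : X.Modules} (e : F ≅ G) (hG : TF G) : TF F := TF.of_mono e.hom hG

/-- A map from a torsion-free module which is injective at the generic points is a monomorphism. -/
theorem TF.mono {F G : X.Modules} (hF : TF F) (f : F ⟶ G)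
    (h : ∀ ξ : X, IsGen ξ → Function.Injective (stalkLin f ξ)) : Mono f := by
  refine mono_of_stalks f fun x => ?_
  rw [injective_iff_map_eq_zero]
  intro m hm
  refine hF x m fun ξ hξ hg => ?_
  apply h ξ hg
  rw [map_zero, ← stalkSpecializes_stalkLin, hm, map_zero]

theorem TF.hom_eq_zero {F G : X.Modules} (hG : TF G) (f : F ⟶ G)
    (h : ∀ ξ : X, IsGen ξ → stalkLin f ξ = 0) : f = 0 :=
  hG.torsionFree.hom_eq_zero f h

theorem TF.hom_eq_zero' {F G : X.Modules} (hG : TF G) (f : F ⟶ G)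
    (h : ∀ ξ : X, IsGen ξ → Subsingleton (F.presheaf.stalk ξ) ∨ Subsingleton (G.presheaf.stalk ξ)) :
    f = 0 :=
  hG.hom_eq_zero f fun ξ hξ => by
    rcases h ξ hξ with h1 | h1
    · exact LinearMap.ext fun m => by rw [Subsingleton.elim m 0, map_zero, map_zero]
    · exact LinearMap.ext fun m => Subsingleton.elim _ _

/-- The prime of a generic point is minimal. -/
theorem isGen_of_minimal {x ξ : X} (h : ξ ⤳ x)
    (hp : RingHom.ker (Cyc.specMap x ξ h) ∈ minimalPrimes (X.presheaf.stalk x)) : IsGen ξ := by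
  intro y hy
  have h1 : RingHom.ker (Cyc.specMap x y (hy.trans h)) ≤ RingHom.ker (Cyc.specMap x ξ h) :=
    (LocQuot.ker_le_iff _ _).mpr hy
  have h2 := hp.2 ⟨inferInstance, bot_le⟩ h1
  exact (hy.antisymm ((LocQuot.ker_le_iff _ _).mp h2)).eq

theorem tf_of_isTorsionFree [IsReduced X] [IsLocallyNoetherian X] {F : X.Modules}
    (hq : Coh.IsQCoh F) (h : TorSh.IsTorsionFree F) : TF F := by
  intro x m hm
  have hnoeth : IsNoetherianRing (X.presheaf.stalk x) := inferInstance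
  let I : Ideal (X.presheaf.stalk x) :=
    LinearMap.ker (LinearMap.toSpanSingleton (X.presheaf.stalk x) (F.presheaf.stalk x) m)
  have hI : ∀ a, a ∈ I ↔ a • m = 0 := fun a => by
    rw [LinearMap.mem_ker, LinearMap.toSpanSingleton_apply]
  have hfin : (minimalPrimes (X.presheaf.stalk x)).Finite := minimalPrimes.finite_of_isNoetherianRing _
  have hne : ∀ p ∈ minimalPrimes (X.presheaf.stalk x), ¬ I ≤ p := by
    intro p hp hle
    have : p.IsPrime := hp.1.1
    obtain ⟨ξ, hξ, rfl⟩ := LocQuot.exists_eq_ker p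
    obtain ⟨a, ha, ha'⟩ := CohStalk.exists_smul_eq_zero F hq hξ m (hm ξ hξ (isGen_of_minimal hξ hp))
    exact ha (hle ((hI a).mpr ha'))
  have h1 : ¬ (I : Set (X.presheaf.stalk x)) ⊆ ⋃ p ∈ minimalPrimes (X.presheaf.stalk x), (p : Set _) := by
    intro hsub
    have := (Ideal.subset_union_prime_finite hfin ⊥ ⊥ (f := fun p => p)
      (fun p hp _ _ => hp.1.1)).mp hsub
    obtain ⟨p, hp, hle⟩ := this
    exact hne p hp hle
  rw [Set.not_subset] at h1
  obtain ⟨a, haI, ha⟩ := h1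
  have hreg : IsRegular a := by
    have hcomm : IsLeftRegular a ↔ IsRegular a := isLeftRegular_iff_isRegular
    rw [← hcomm]
    intro b c hbc
    dsimp only at hbc
    by_contra hne'
    have hbc' : a * (b - c) = 0 := by rw [mul_sub, hbc, sub_self]
    have hbc0 : b - c ≠ 0 := sub_ne_zero.mpr hne'
    -- there is a minimal prime not containing `b - c`
    have h2 : b - c ∉ nilradical (X.presheaf.stalk x) := by
      intro hn
      exact hbc0 ((mem_nilradical.mp hn).eq_zero)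
    rw [nilradical, ← Ideal.sInf_minimalPrimes, Ideal.mem_sInf] at h2
    push Not at h2
    obtain ⟨p, hp, hpb⟩ := h2
    have hpp : p.IsPrime := hp.1.1
    rcases hpp.mem_or_mem (show a * (b - c) ∈ p by rw [hbc']; exact p.zero_mem) with h3 | h3
    · exact ha (Set.mem_biUnion hp h3)
    · exact hpb h3
  have h4 := (h x).isSMulRegular hreg
  exact h4 (show a • m = a • (0 : F.presheaf.stalk x) by rw [smul_zero]; exact (hI a).mp haI)

theorem specializes_ne_zero_of_isRegular {x ξ : X} (h : ξ ⤳ x)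
    {r : X.presheaf.stalk x} (hr : IsRegular r) :
    (X.presheaf.stalkSpecializes h).hom r ≠ 0 := by
  intro h0
  let := (X.presheaf.stalkSpecializes h).hom.toAlgebra
  have hloc := LocQuot.isLocalization_stalkSpecializes h
  have h1 : algebraMap (X.presheaf.stalk x) (X.presheaf.stalk ξ) r =
      algebraMap (X.presheaf.stalk x) (X.presheaf.stalk ξ) 0 := by
    rw [map_zero]; exact h0
  obtain ⟨c, hc⟩ := (IsLocalization.eq_iff_exists
    (RingHom.ker (Cyc.specMap x ξ h)).primeCompl (X.presheaf.stalk ξ)).mp h1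
  rw [mul_zero] at hc
  have hc0 : (c : X.presheaf.stalk x) = 0 := hr.right (by
    change (c : X.presheaf.stalk x) * r = 0 * r
    rw [hc, zero_mul])
  exact c.2 (by rw [hc0]; exact Ideal.zero_mem _)

theorem isTorsionFree_of_tf [IsReduced X] {F : X.Modules} (h : TF F) : TorSh.IsTorsionFree F := by
  intro x
  refine ⟨fun r hr => ?_⟩
  intro a b hab
  dsimp only at hab
  rw [← sub_eq_zero]
  refine h x _ fun ξ hξ hg => ?_
  have h1 : (X.presheaf.stalkSpecializes hξ).hom r ≠ 0 := specializes_ne_zero_of_isRegular hξ hr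
  obtain ⟨c, hc⟩ := (isField_stalk ξ hg).mul_inv_cancel h1
  have h2 : (X.presheaf.stalkSpecializes hξ).hom r • F.presheaf.stalkSpecializes hξ (a - b) = 0 := by
    have h3 := ModStalk.stalkSpecializes_smul (L := F) hξ r (a - b)
    rw [smul_sub, hab, sub_self, map_zero] at h3
    exact h3.symm
  calc F.presheaf.stalkSpecializes hξ (a - b)
      = (c * (X.presheaf.stalkSpecializes hξ).hom r) • F.presheaf.stalkSpecializes hξ (a - b) := by
        rw [mul_comm, hc, one_smul]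
    _ = 0 := by rw [mul_smul, h2, smul_zero]

theorem tf_iff [IsReduced X] [IsLocallyNoetherian X] {F : X.Modules} (hq : Coh.IsQCoh F) :
    TF F ↔ TorSh.IsTorsionFree F :=
  ⟨isTorsionFree_of_tf, tf_of_isTorsionFree hq⟩

/-- On a Noetherian space the section form of torsion-freeness implies the stalk form. -/
theorem tf_of_torsionFree [NoetherianSpace X] {F : X.Modules} (h : TorsionFree F) : TF F := by
  intro x m hm
  obtain ⟨U, hU, s, rfl⟩ := F.presheaf.exists_germ_eq m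
  -- remove the generic points not specializing to `x`
  have hfin : {ξ : X | IsGen ξ ∧ ¬ ξ ⤳ x}.Finite := (SubClosed.finite_isGen X).subset fun ξ hξ => hξ.1
  let W : X.Opens := ⟨(closure {ξ : X | IsGen ξ ∧ ¬ ξ ⤳ x})ᶜ, isClosed_closure.isOpen_compl⟩
  have hxW : x ∈ W := by
    intro hx
    obtain ⟨ξ, hξ, hξx⟩ := (SubClosed.mem_closure_iff_of_finite hfin x).mp hx
    exact hξ.2 hξx
  have h1 : F.presheaf.map (homOfLE (inf_le_left : U ⊓ W ≤ U)).op s = 0 := by
    refine h (U ⊓ W) _ fun ξ hξ hg => ?_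
    rw [TopCat.Presheaf.germ_res_apply]
    have hξx : ξ ⤳ x := by
      by_contra hn
      exact hξ.2 (subset_closure ⟨hg, hn⟩)
    have h2 : F.presheaf.stalkSpecializes hξx (F.presheaf.germ U x hU s) =
        F.presheaf.germ U ξ hξ.1 s :=
      TopCat.Presheaf.germ_stalkSpecializes_apply F.presheaf hU hξx s
    rw [← h2]
    exact hm ξ hξx hg
  rw [← TopCat.Presheaf.germ_res_apply F.presheaf (homOfLE (inf_le_left : U ⊓ W ≤ U)) x ⟨hU, hxW⟩ s,
    h1, map_zero]

/-! ### Supports -/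

/-- The support of a torsion-free module of finite type. -/
theorem mem_support_iff {F : X.Modules} (hF : CohB1.IsFT F) (h : TF F) (x : X) :
    x ∈ CohB1.support F ↔ ∃ ξ : X, IsGen ξ ∧ ξ ⤳ x ∧ ξ ∈ CohB1.support F := by
  constructor
  · intro hx
    by_contra hcon
    push Not at hcon
    apply hx
    refine subsingleton_of_forall_eq 0 fun m => ?_
    refine h x m fun ξ hξ hg => ?_
    have := (not_mem_support_iff F ξ).mp (hcon ξ hg hξ)
    exact Subsingleton.elim _ _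
  · rintro ⟨ξ, -, hξ, hs⟩
    exact hξ.mem_closed (VarietyA.GlobGen.isClosed_support F hF) hs

/-! ### Generic points in a set -/

/-- The generic points of `X` lying in `Z`. -/
def gp (Z : Set X) : Set X := {ξ | IsGen ξ ∧ ξ ∈ Z}

/-- `Z` is a union of irreducible components (possibly empty). -/
def IsUC (Z : Set X) : Prop := ∀ x, x ∈ Z ↔ ∃ ξ, IsGen ξ ∧ ξ ∈ Z ∧ ξ ⤳ x

theorem IsUC.eq_of_gp {Y Z : Set X} (hY : IsUC Y) (hZ : IsUC Z)
    (h : ∀ ξ, IsGen ξ → (ξ ∈ Y ↔ ξ ∈ Z)) : Y = Z := by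
  ext x
  rw [hY x, hZ x]
  constructor
  · rintro ⟨ξ, h1, h2, h3⟩
    exact ⟨ξ, h1, (h ξ h1).mp h2, h3⟩
  · rintro ⟨ξ, h1, h2, h3⟩
    exact ⟨ξ, h1, (h ξ h1).mpr h2, h3⟩

theorem IsUC.subset_iff {Y Z : Set X} (hY : IsUC Y) (hZ : IsUC Z) :
    Y ⊆ Z ↔ ∀ ξ, IsGen ξ → ξ ∈ Y → ξ ∈ Z := by
  constructor
  · exact fun h ξ _ hξ => h hξ
  · intro h x hx
    obtain ⟨ξ, h1, h2, h3⟩ := (hY x).mp hx
    exact (hZ x).mpr ⟨ξ, h1, h ξ h1 h2, h3⟩

theorem IsUC.union {Y Z : Set X} (hY : IsUC Y) (hZ : IsUC Z) : IsUC (Y ∪ Z) := by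
  intro x
  rw [Set.mem_union, hY x, hZ x]
  constructor
  · rintro (⟨ξ, h1, h2, h3⟩ | ⟨ξ, h1, h2, h3⟩)
    · exact ⟨ξ, h1, Or.inl h2, h3⟩
    · exact ⟨ξ, h1, Or.inr h2, h3⟩
  · rintro ⟨ξ, h1, h2 | h2, h3⟩
    · exact Or.inl ⟨ξ, h1, h2, h3⟩
    · exact Or.inr ⟨ξ, h1, h2, h3⟩

theorem isUC_univ : IsUC (Set.univ : Set X) := by
  intro x
  simp only [Set.mem_univ, true_and, true_iff]
  exact DimOneTop.exists_generic_specializes x

theorem closure_mem {C : Set X} (hC : C ∈ irreducibleComponents (X : Type u)) :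
    ∃ ξ : X, IsGen ξ ∧ closure {ξ} = C := by
  obtain ⟨z, hz⟩ := QuasiSober.sober hC.1 (isClosed_of_mem_irreducibleComponents C hC)
  have hz' : closure {z} = C := hz
  subst hz'
  exact ⟨z, (DimOneTop.closure_mem_irreducibleComponents_iff z).mp hC, rfl⟩

theorem mem_iff_closure_eq {C : Set X} (hC : C ∈ irreducibleComponents (X : Type u)) {ξ : X}
    (hξ : IsGen ξ) : ξ ∈ C ↔ closure {ξ} = C := by
  constructor
  · intro h
    obtain ⟨η, hη, rfl⟩ := closure_mem hC
    rw [hξ η (specializes_iff_mem_closure.mpr h)]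
  · rintro rfl
    exact subset_closure rfl

/-- The generic points in a union of irreducible components. -/
theorem mem_sUnion_iff {S : Set (Set X)} (hS : S ⊆ irreducibleComponents (X : Type u)) {ξ : X}
    (hξ : IsGen ξ) : ξ ∈ ⋃₀ S ↔ closure {ξ} ∈ S := by
  constructor
  · rintro ⟨C, hC, h⟩
    rwa [(mem_iff_closure_eq (hS hC) hξ).mp h]
  · intro h
    exact ⟨_, h, subset_closure rfl⟩

theorem isUC_sUnion {S : Set (Set X)} (hS : S ⊆ irreducibleComponents (X : Type u)) :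
    IsUC (⋃₀ S) := by
  intro x
  constructor
  · rintro ⟨C, hC, hx⟩
    obtain ⟨ξ, hξ, rfl⟩ := closure_mem (hS hC)
    exact ⟨ξ, hξ, ⟨_, hC, subset_closure rfl⟩, specializes_iff_mem_closure.mpr hx⟩
  · rintro ⟨ξ, hξ, h, hx⟩
    exact ⟨_, (mem_sUnion_iff hS hξ).mp h, specializes_iff_mem_closure.mp hx⟩

theorem isUC_of_isSubcurve {Z : Set X} (h : VecSt.IsSubcurve X Z) : IsUC Z := by
  obtain ⟨S, hS, -, rfl⟩ := h
  exact isUC_sUnion hS

theorem exists_gen_of_isSubcurve {Z : Set X} (h : VecSt.IsSubcurve X Z) : ∃ ξ, IsGen ξ ∧ ξ ∈ Z := by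
  obtain ⟨S, hS, ⟨C, hC⟩, rfl⟩ := h
  obtain ⟨ξ, hξ, rfl⟩ := closure_mem (hS hC)
  exact ⟨ξ, hξ, _, hC, subset_closure rfl⟩

theorem isSubcurve_of_isUC {Z : Set X} (h : IsUC Z) (hne : ∃ ξ, IsGen ξ ∧ ξ ∈ Z) :
    VecSt.IsSubcurve X Z := by
  refine ⟨{C | ∃ ξ, IsGen ξ ∧ ξ ∈ Z ∧ C = closure {ξ}}, ?_, ?_, ?_⟩
  · rintro C ⟨ξ, hξ, -, rfl⟩
    exact (DimOneTop.closure_mem_irreducibleComponents_iff ξ).mpr hξ
  · obtain ⟨ξ, h1, h2⟩ := hne
    exact ⟨_, ξ, h1, h2, rfl⟩
  · ext x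
    rw [h x]
    constructor
    · rintro ⟨ξ, h1, h2, h3⟩
      exact ⟨_, ⟨ξ, h1, h2, rfl⟩, specializes_iff_mem_closure.mp h3⟩
    · rintro ⟨C, ⟨ξ, h1, h2, rfl⟩, h3⟩
      exact ⟨ξ, h1, h2, specializes_iff_mem_closure.mpr h3⟩

theorem closure_subset_iff {Z : Set X} (hZ : IsClosed Z) (ξ : X) : closure {ξ} ⊆ Z ↔ ξ ∈ Z := by
  constructor
  · exact fun h => h (subset_closure rfl)
  · exact fun h => closure_minimal (Set.singleton_subset_iff.mpr h) hZ

/-- The generic points of the union of the common components. -/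
theorem mem_meet_iff {Y Z : Set X} (hY : IsClosed Y) (hZ : IsClosed Z) {ξ : X} (hξ : IsGen ξ) :
    ξ ∈ ⋃₀ {C | C ∈ irreducibleComponents (X : Type u) ∧ C ⊆ Y ∩ Z} ↔ ξ ∈ Y ∧ ξ ∈ Z := by
  rw [mem_sUnion_iff (fun C hC => hC.1) hξ, Set.mem_ofPred_eq, Set.subset_inter_iff,
    closure_subset_iff hY, closure_subset_iff hZ]
  exact ⟨fun h => h.2, fun h => ⟨(DimOneTop.closure_mem_irreducibleComponents_iff ξ).mpr hξ, h⟩⟩

theorem mem_compl_iff {Y : Set X} (hY : IsClosed Y) {ξ : X} (hξ : IsGen ξ) :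
    ξ ∈ ⋃₀ {C | C ∈ irreducibleComponents (X : Type u) ∧ ¬ C ⊆ Y} ↔ ξ ∉ Y := by
  rw [mem_sUnion_iff (fun C hC => hC.1) hξ, Set.mem_ofPred_eq, closure_subset_iff hY]
  exact ⟨fun h => h.2, fun h => ⟨(DimOneTop.closure_mem_irreducibleComponents_iff ξ).mpr hξ, h⟩⟩

theorem mem_diff_iff {Y Z : Set X} (hY : IsClosed Y) (hZ : IsClosed Z) {ξ : X} (hξ : IsGen ξ) :
    ξ ∈ ⋃₀ {C | C ∈ irreducibleComponents (X : Type u) ∧ C ⊆ Z ∧ ¬ C ⊆ Y} ↔ ξ ∈ Z ∧ ξ ∉ Y := by
  rw [mem_sUnion_iff (fun C hC => hC.1) hξ, Set.mem_ofPred_eq, closure_subset_iff hY,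
    closure_subset_iff hZ]
  exact ⟨fun h => h.2, fun h => ⟨(DimOneTop.closure_mem_irreducibleComponents_iff ξ).mpr hξ, h⟩⟩

theorem isClosed_of_isUC [NoetherianSpace X] {Z : Set X} (h : IsUC Z) : IsClosed Z := by
  have hfin : {ξ : X | IsGen ξ ∧ ξ ∈ Z}.Finite := (SubClosed.finite_isGen X).subset fun ξ hξ => hξ.1
  have : Z = closure {ξ : X | IsGen ξ ∧ ξ ∈ Z} := by
    ext x
    rw [h x, SubClosed.mem_closure_iff_of_finite hfin]
    constructor
    · rintro ⟨ξ, h1, h2, h3⟩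
      exact ⟨ξ, ⟨h1, h2⟩, h3⟩
    · rintro ⟨ξ, ⟨h1, h2⟩, h3⟩
      exact ⟨ξ, h1, h2, h3⟩
  rw [this]
  exact isClosed_closure

/-! ### Generic rank one -/

theorem genSimple_of_isRkOne [IsReduced X] {F : X.Modules} (h : TFOne.IsRkOne X F) : GenSimple F := by
  intro ξ hξ W
  obtain ⟨e⟩ := h ξ ((mem_genericPoints_iff ξ).mpr hξ)
  let := (isField_stalk ξ hξ).toField
  have hs : IsSimpleModule (X.presheaf.stalk ξ) (F.presheaf.stalk ξ) :=
    (IsSimpleModule.congr e)
  exact eq_bot_or_eq_top W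

theorem nontrivial_of_isRkOne [IsReduced X] {F : X.Modules} (h : TFOne.IsRkOne X F) {ξ : X}
    (hξ : IsGen ξ) : ¬ Subsingleton (F.presheaf.stalk ξ) := by
  intro hs
  obtain ⟨e⟩ := h ξ ((mem_genericPoints_iff ξ).mpr hξ)
  have : Subsingleton (X.presheaf.stalk ξ) := e.symm.injective.subsingleton
  exact one_ne_zero (α := X.presheaf.stalk ξ) (Subsingleton.elim _ _)

end K975.Gen
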