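import Groth.Agent.TFOne.K975.Gen
import Groth.Agent.Sga67.CohBasic
import Groth.Agent.Ega3B.DevStep

/-!
# Torsion-free quotients with given generic support

* `IsQ F S G π`: `π : F ⟶ G` is an epimorphism onto a coherent torsion-free module whose generic support is `S`;
* `isQ_of_isQuotOn`, `isQuotOn_of_isQ`: comparison with `TFOne.IsQuotOn`;
* `exists_desc`, `exists_iso`: universal property and uniqueness for `F` with simple generic stalks;
* `exists_isQ`: existence.
-/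

set_option autoImplicit false
universe u
open CategoryTheory CategoryTheory.Limits AlgebraicGeometry TopologicalSpace Opposite

namespace K975.Quot

open Groth.Agent Groth.Agent.CycB.StalkExact Groth.Agent.VarietyA.StalkCrit
open Groth.Agent.CurvesB Groth.Agent.CurvesB.SubH1 Groth.Agent.CurvesB.GenStalk
open Groth.Agent.CurvesB.SubLemma Groth.Agent.CycB K975.Gen

variable {X : Scheme.{u}}

/-- `(G, π)` is a coherent torsion-free quotient of `F` with generic support `S`. -/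
structure IsQ (F : X.Modules) (S : Set X) (G : X.Modules) (π : F ⟶ G) : Prop where
  epi : Epi π
  coh : Coh.IsCoh G
  tf : TF G
  gs : ∀ ξ, IsGen ξ → (¬ Subsingleton (G.presheaf.stalk ξ) ↔ ξ ∈ S)

theorem isQ_of_isQuotOn [IsReduced X] [IsLocallyNoetherian X] {F G : X.Modules} {Z : Set X}
    {π : F ⟶ G} (h : TFOne.IsQuotOn X F Z G π) : IsQ F Z G π where
  epi := h.1
  coh := h.2.1
  tf := tf_of_isTorsionFree h.2.1.1 h.2.2.1
  gs ξ _ := by
    have h1 := h.2.2.2
    rw [← h1]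
    exact Iff.rfl

theorem isQuotOn_of_isQ [IsReduced X] {F G : X.Modules} {Z : Set X} (hZ : IsUC Z)
    {π : F ⟶ G} (h : IsQ F Z G π) : TFOne.IsQuotOn X F Z G π := by
  refine ⟨h.epi, h.coh, isTorsionFree_of_tf h.tf, ?_⟩
  ext x
  rw [mem_support_iff h.coh.2 h.tf x, hZ x]
  refine exists_congr fun ξ => ?_
  constructor
  · rintro ⟨h1, h2, h3⟩
    exact ⟨h1, (h.gs ξ h1).mp h3, h2⟩
  · rintro ⟨h1, h2, h3⟩
    exact ⟨h1, h3, (h.gs ξ h1).mpr h2⟩

theorem IsQ.congr {F G : X.Modules} {S T : Set X} {π : F ⟶ G} (h : IsQ F S G π)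
    (hST : ∀ ξ, IsGen ξ → (ξ ∈ S ↔ ξ ∈ T)) : IsQ F T G π :=
  ⟨h.epi, h.coh, h.tf, fun ξ hξ => (h.gs ξ hξ).trans (hST ξ hξ)⟩

theorem IsQ.subsingleton {F G : X.Modules} {S : Set X} {π : F ⟶ G} (h : IsQ F S G π)
    {ξ : X} (hξ : IsGen ξ) (hS : ξ ∉ S) : Subsingleton (G.presheaf.stalk ξ) := by
  by_contra hn
  exact hS ((h.gs ξ hξ).mp hn)

theorem IsQ.nontrivial {F G : X.Modules} {S : Set X} {π : F ⟶ G} (h : IsQ F S G π)
    {ξ : X} (hξ : IsGen ξ) (hS : ξ ∈ S) : ¬ Subsingleton (G.presheaf.stalk ξ) :=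
  (h.gs ξ hξ).mpr hS

theorem injective_of_kernel {F G : X.Modules} (π : F ⟶ G) (ξ : X)
    (h : stalkLin (kernel.ι π) ξ = 0) : Function.Injective (stalkLin π ξ) := by
  rw [← subsingleton_kernel_stalk_iff]
  refine subsingleton_of_forall_eq 0 fun t => ?_
  apply stalkLin_injective (kernel.ι π) ξ
  rw [h, LinearMap.zero_apply, LinearMap.zero_apply]

/-- For `F` with simple generic stalks an epimorphism is injective at the generic points of the support. -/
theorem injective_of_genSimple {F G : X.Modules} (hF : GenSimple F) (π : F ⟶ G) [Epi π] {ξ : X}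
    (hξ : IsGen ξ) (h : ¬ Subsingleton (G.presheaf.stalk ξ)) : Function.Injective (stalkLin π ξ) :=
  injective_of_kernel π ξ (stalkLin_kernel_eq_zero hF π ξ hξ h)

theorem IsQ.injective {F G : X.Modules} {S : Set X} {π : F ⟶ G} (h : IsQ F S G π)
    (hF : GenSimple F) {ξ : X} (hξ : IsGen ξ) (hS : ξ ∈ S) : Function.Injective (stalkLin π ξ) :=
  have := h.epi
  injective_of_genSimple hF π hξ (h.nontrivial hξ hS)

theorem IsQ.bijective {F G : X.Modules} {S : Set X} {π : F ⟶ G} (h : IsQ F S G π)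
    (hF : GenSimple F) {ξ : X} (hξ : IsGen ξ) (hS : ξ ∈ S) : Function.Bijective (stalkLin π ξ) :=
  have := h.epi
  ⟨h.injective hF hξ hS, stalkLin_surjective π ξ⟩

theorem kernel_comp_eq_zero {F G H : X.Modules} (π : F ⟶ G) (g : F ⟶ H) (hH : TF H)
    (h : ∀ ξ, IsGen ξ → ¬ Subsingleton (H.presheaf.stalk ξ) → Function.Injective (stalkLin π ξ)) :
    kernel.ι π ≫ g = 0 := by
  refine hH.hom_eq_zero' _ fun ξ hξ => ?_
  by_cases h1 : Subsingleton (H.presheaf.stalk ξ)
  · exact Or.inr h1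
  · exact Or.inl ((subsingleton_kernel_stalk_iff π ξ).mpr (h ξ hξ h1))

/-- The universal property. -/
theorem exists_desc {F G H : X.Modules} (π : F ⟶ G) [Epi π] (g : F ⟶ H) (hH : TF H)
    (h : ∀ ξ, IsGen ξ → ¬ Subsingleton (H.presheaf.stalk ξ) → Function.Injective (stalkLin π ξ)) :
    ∃ g' : G ⟶ H, π ≫ g' = g :=
  ⟨Abelian.epiDesc π g (kernel_comp_eq_zero π g hH h), Abelian.comp_epiDesc _ _ _⟩

theorem IsQ.exists_desc {F G H : X.Modules} {S : Set X} {π : F ⟶ G} (h : IsQ F S G π)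
    (hF : GenSimple F) (g : F ⟶ H) (hH : TF H)
    (hS : ∀ ξ, IsGen ξ → ¬ Subsingleton (H.presheaf.stalk ξ) → ξ ∈ S) :
    ∃ g' : G ⟶ H, π ≫ g' = g :=
  have := h.epi
  Quot.exists_desc π g hH fun ξ hξ hn => h.injective hF hξ (hS ξ hξ hn)

/-- Maps between torsion-free quotients. -/
theorem IsQ.exists_map {F G G' : X.Modules} {S S' : Set X} {π : F ⟶ G} {π' : F ⟶ G'} (h : IsQ F S G π)
    (hF : GenSimple F) (h' : IsQ F S' G' π') (hS : ∀ ξ, IsGen ξ → ξ ∈ S' → ξ ∈ S) :
    ∃ g : G ⟶ G', π ≫ g = π' :=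
  h.exists_desc hF π' h'.tf fun ξ hξ hn => hS ξ hξ ((h'.gs ξ hξ).mp hn)

/-- Uniqueness. -/
theorem IsQ.exists_iso {F G G' : X.Modules} {S S' : Set X} {π : F ⟶ G} {π' : F ⟶ G'} (h : IsQ F S G π)
    (hF : GenSimple F) (h' : IsQ F S' G' π') (hS : ∀ ξ, IsGen ξ → (ξ ∈ S ↔ ξ ∈ S')) :
    ∃ e : G ≅ G', π ≫ e.hom = π' := by
  obtain ⟨a, ha⟩ := h.exists_map hF h' fun ξ hξ => (hS ξ hξ).mpr
  obtain ⟨b, hb⟩ := h'.exists_map hF h fun ξ hξ => (hS ξ hξ).mp
  have := h.epi
  have := h'.epi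
  refine ⟨⟨a, b, ?_, ?_⟩, ha⟩
  · rw [← cancel_epi π, ← Category.assoc, ha, hb, Category.comp_id]
  · rw [← cancel_epi π', ← Category.assoc, hb, ha, Category.comp_id]

/-- A quotient of a torsion-free quotient. -/
theorem IsQ.comp {F G H : X.Modules} {S T : Set X} {π : F ⟶ G} {ρ : G ⟶ H} [Epi π]
    (h : IsQ G T H ρ) : IsQ F T H (π ≫ ρ) :=
  have := h.epi
  ⟨epi_comp _ _, h.coh, h.tf, h.gs⟩

theorem IsQ.of_comp {F G H : X.Modules} {T : Set X} {π : F ⟶ G} {ρ : G ⟶ H}
    (h : IsQ F T H (π ≫ ρ)) : IsQ G T H ρ :=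
  have := h.epi
  ⟨epi_of_epi π ρ, h.coh, h.tf, h.gs⟩

theorem genSimple_of_mono {F G : X.Modules} (i : F ⟶ G) [Mono i] (hG : GenSimple G) : GenSimple F := by
  intro ξ hξ W
  have hi := stalkLin_injective i ξ
  rcases hG ξ hξ (W.map (stalkLin i ξ)) with h | h
  · left
    rw [eq_bot_iff]
    intro w hw
    have h1 : stalkLin i ξ w ∈ W.map (stalkLin i ξ) := ⟨w, hw, rfl⟩
    rw [h] at h1
    have h2 : stalkLin i ξ w = 0 := h1
    exact hi (h2.trans (map_zero _).symm)
  · right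
    rw [eq_top_iff]
    intro v _
    have : stalkLin i ξ v ∈ W.map (stalkLin i ξ) := by rw [h]; trivial
    obtain ⟨w, hw, hwv⟩ := this
    rwa [← hi hwv]

set_option linter.unusedSectionVars false

section Exists

variable [NoetherianSpace X]

theorem notMem_closure {S : Set X} (hS : ∀ η ∈ S, IsGen η) {η : X} (hη : IsGen η)
    (h : η ∉ S) : η ∉ closure S := by
  intro h1
  have hfin : S.Finite := (SubClosed.finite_isGen X).subset hS
  obtain ⟨t, ht, h2⟩ := (SubClosed.mem_closure_iff_of_finite hfin η).mp h1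
  exact h ((hη t h2) ▸ ht)

/-- The open subset obtained by removing the components whose generic point is not in `S`. -/
def openOf (S : Set X) : X.Opens := ⟨(closure {ξ : X | IsGen ξ ∧ ξ ∉ S})ᶜ, isClosed_closure.isOpen_compl⟩

theorem mem_openOf_iff {S : Set X} {ξ : X} (hξ : IsGen ξ) : ξ ∈ openOf S ↔ ξ ∈ S := by
  constructor
  · intro h
    by_contra hn
    exact h (subset_closure ⟨hξ, hn⟩)
  · intro h h1
    exact notMem_closure (S := {ξ : X | IsGen ξ ∧ ξ ∉ S}) (fun η hη => hη.1) hξ (fun h2 => h2.2 h) h1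

/-- `F ⟶ j_* j^* F` for the open immersion `j` of `openOf S`. -/
noncomputable def toU (F : X.Modules) (S : Set X) :
    F ⟶ (Scheme.Modules.pushforward (openOf S).ι).obj (F.restrict (openOf S).ι) :=
  (Scheme.Modules.restrictAdjunction (openOf S).ι).unit.app F

theorem toU_app (F : X.Modules) (S : Set X) (V : X.Opens) (s : Γ(F, V)) :
    (toU F S).app V s = F.presheaf.map (homOfLE ((openOf S).ι.image_preimage_le V)).op s := rfl

theorem toU_bijective (F : X.Modules) (S : Set X) {ξ : X} (hξ : ξ ∈ openOf S) :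
    Function.Bijective (stalkLin (toU F S) ξ) :=
  Ega3B.DevStep.stalk_unit_bijective (openOf S).ι F ⟨ξ, hξ⟩

theorem image_le_inf (S : Set X) (V : X.Opens) :
    (openOf S).ι ''ᵁ ((openOf S).ι ⁻¹ᵁ V) ≤ openOf S ⊓ V := by
  rw [Scheme.Hom.image_preimage_eq_opensRange_inf]
  simp

theorem toU_app_eq_zero {F : X.Modules} (hF : TF F) (S : Set X) (V : X.Opens) (s : Γ(F, V))
    (h : ∀ (ξ : X) (hξ : ξ ∈ V), IsGen ξ → ξ ∈ S → F.presheaf.germ V ξ hξ s = 0) :
    (toU F S).app V s = 0 := by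
  rw [toU_app]
  refine hF.torsionFree _ _ fun ξ hξ hg => ?_
  have h1 := image_le_inf S V hξ
  refine (TopCat.Presheaf.germ_res_apply F.presheaf _ ξ hξ s).trans ?_
  exact h ξ h1.2 hg ((mem_openOf_iff hg).mp h1.1)

/-- The torsion-free quotient of `F` with generic support `S`. -/
noncomputable def quo (F : X.Modules) (S : Set X) : X.Modules := Abelian.image (toU F S)

noncomputable def quoπ (F : X.Modules) (S : Set X) : F ⟶ quo F S := Abelian.factorThruImage (toU F S)

noncomputable def quoι (F : X.Modules) (S : Set X) :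
    quo F S ⟶ (Scheme.Modules.pushforward (openOf S).ι).obj (F.restrict (openOf S).ι) :=
  Abelian.image.ι (toU F S)

instance (F : X.Modules) (S : Set X) : Epi (quoπ F S) := inferInstanceAs (Epi (Abelian.factorThruImage _))
instance (F : X.Modules) (S : Set X) : Mono (quoι F S) := inferInstanceAs (Mono (Abelian.image.ι _))

theorem quoπ_ι (F : X.Modules) (S : Set X) : quoπ F S ≫ quoι F S = toU F S := Abelian.image.fac _

theorem quoπ_eq_zero {F : X.Modules} (hF : TF F) (S : Set X) (x : X) (n : F.presheaf.stalk x)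
    (h : ∀ (ξ : X) (h : ξ ⤳ x), IsGen ξ → ξ ∈ S → F.presheaf.stalkSpecializes h n = 0) :
    stalkLin (quoπ F S) x n = 0 := by
  obtain ⟨V, hV, s, rfl⟩ := F.presheaf.exists_germ_eq n
  have hfin : {ξ : X | IsGen ξ ∧ ¬ ξ ⤳ x}.Finite := (SubClosed.finite_isGen X).subset fun ξ hξ => hξ.1
  let W : X.Opens := ⟨(closure {ξ : X | IsGen ξ ∧ ¬ ξ ⤳ x})ᶜ, isClosed_closure.isOpen_compl⟩
  have hxW : x ∈ W := by
    intro hx
    obtain ⟨ξ, hξ, hξx⟩ := (SubClosed.mem_closure_iff_of_finite hfin x).mp hx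
    exact hξ.2 hξx
  have h1 : (toU F S).app (V ⊓ W) (F.presheaf.map (homOfLE (inf_le_left : V ⊓ W ≤ V)).op s) = 0 := by
    refine toU_app_eq_zero hF S _ _ fun ξ hξ hg hS => ?_
    rw [TopCat.Presheaf.germ_res_apply]
    have hξx : ξ ⤳ x := by
      by_contra hn
      exact hξ.2 (subset_closure ⟨hg, hn⟩)
    have h2 : F.presheaf.stalkSpecializes hξx (F.presheaf.germ V x hV s) =
        F.presheaf.germ V ξ hξ.1 s :=
      TopCat.Presheaf.germ_stalkSpecializes_apply F.presheaf hV hξx s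
    rw [← h2]
    exact h ξ hξx hg hS
  have hxVW : x ∈ V ⊓ W := ⟨hV, hxW⟩
  have h3 : stalkLin (toU F S) x (F.presheaf.germ V x hV s) = 0 := by
    rw [← TopCat.Presheaf.germ_res_apply F.presheaf (homOfLE (inf_le_left : V ⊓ W ≤ V)) x hxVW s]
    exact (stalkLin_germ (toU F S) x hxVW _).trans (by rw [h1, map_zero])
  apply stalkLin_injective (quoι F S) x
  rw [map_zero, ← LinearMap.comp_apply, ← stalkLin_comp, quoπ_ι, h3]

theorem quoπ_injective (F : X.Modules) (S : Set X) {ξ : X} (hξ : IsGen ξ) (hS : ξ ∈ S) :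
    Function.Injective (stalkLin (quoπ F S) ξ) := by
  have h1 := (toU_bijective F S ((mem_openOf_iff hξ).mpr hS)).1
  rw [← quoπ_ι, stalkLin_comp] at h1
  exact Function.Injective.of_comp (f := stalkLin (quoι F S) ξ) (by simpa using h1)

theorem tf_quo {F : X.Modules} (hF : TF F) (S : Set X) : TF (quo F S) := by
  intro x m hm
  obtain ⟨n, rfl⟩ := stalkLin_surjective (quoπ F S) x m
  refine quoπ_eq_zero hF S x n fun ξ h hg hS => ?_
  apply quoπ_injective F S hg hS
  rw [map_zero, ← stalkSpecializes_stalkLin]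
  exact hm ξ h hg

theorem subsingleton_quo {F : X.Modules} (hF : TF F) (S : Set X) {ξ : X} (hξ : IsGen ξ) (hS : ξ ∉ S) :
    Subsingleton ((quo F S).presheaf.stalk ξ) := by
  refine subsingleton_of_forall_eq 0 fun m => ?_
  obtain ⟨n, rfl⟩ := stalkLin_surjective (quoπ F S) ξ m
  refine quoπ_eq_zero hF S ξ n fun η h _ hηS => ?_
  rw [hξ η h] at hηS
  exact absurd hηS hS

theorem isCoh_quo [IsNoetherian X] {F : X.Modules} (hF : Coh.IsCoh F) (S : Set X) : Coh.IsCoh (quo F S) := by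
  have h1 : Coh.IsQCoh ((Scheme.Modules.pushforward (openOf S).ι).obj (F.restrict (openOf S).ι)) :=
    Sga67.CohBasic.isQCoh_push (openOf S).ι (Fdesc.QCohStalk.restrict_isQCoh F hF.1 _)
  exact Sga67.CohBasic.isCoh_image (toU F S) hF h1

/-- Existence of torsion-free quotients. -/
theorem isQ_quo [IsNoetherian X] {F : X.Modules} (hF : Coh.IsCoh F) (hT : TF F) (S : Set X)
    (hS : ∀ ξ, IsGen ξ → ξ ∈ S → ¬ Subsingleton (F.presheaf.stalk ξ)) :
    IsQ F S (quo F S) (quoπ F S) where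
  epi := inferInstance
  coh := isCoh_quo hF S
  tf := tf_quo hT S
  gs ξ hξ := by
    constructor
    · intro h
      by_contra hn
      exact h (subsingleton_quo hT S hξ hn)
    · intro h hs
      exact hS ξ hξ h (quoπ_injective F S hξ h).subsingleton

end Exists

end K975.Quot
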